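import Groth.Agent.L14.Cubic.HesseAut
import Mathlib.Algebra.Polynomial.Roots

/-!
Automorphisms of smooth plane cubics via the Hesse normal form.
-/

open MvPolynomial Module

namespace Groth.L14.Cubic

/-- Minus the transposition of the last two coordinates. -/
def Nmat : Matrix (Fin 3) (Fin 3) ℂ := !![-1, 0, 0; 0, 0, -1; 0, -1, 0]

/-- Its powers. -/
def Npow (b : Fin 2) : Matrix (Fin 3) (Fin 3) ℂ := if b = 0 then 1 else Nmat

theorem det_Npow (b : Fin 2) : (Npow b).det = 1 := by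
  fin_cases b <;> simp [Npow, Nmat, Matrix.det_fin_three]

theorem eval_Npow (k : ℂ) (b : Fin 2) (v : Fin 3 → ℂ) :
    eval ((Npow b).mulVec v) (HesseCubic.form k) =
      (if b = 0 then 1 else -1) * eval v (HesseCubic.form k) := by
  rw [eval_form, eval_form]
  fin_cases b <;> simp [Npow, Nmat, Matrix.mulVec, dotProduct, Fin.sum_univ_three] <;> ring

/-- The 54 automorphisms. -/
noncomputable def auto (p : Fin 3 × Fin 3 × Fin 3 × Fin 2) : Matrix (Fin 3) (Fin 3) ℂ :=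
  om ^ (p.1.val) • (G p.2.1 p.2.2.1 * Npow p.2.2.2)

theorem det_auto (p : Fin 3 × Fin 3 × Fin 3 × Fin 2) : (auto p).det = 1 := by
  rw [auto, Matrix.det_smul, Matrix.det_mul, det_G, det_Npow, Fintype.card_fin, ← pow_mul, mul_comm p.1.val,
    pow_mul, om_cube, one_pow, one_mul, one_mul]

theorem eval_auto (k : ℂ) (p : Fin 3 × Fin 3 × Fin 3 × Fin 2) (v : Fin 3 → ℂ) :
    eval ((auto p).mulVec v) (HesseCubic.form k) =
      (om ^ (p.1.val)) ^ 3 * (if p.2.2.2 = 0 then 1 else -1) * eval v (HesseCubic.form k) := by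
  have hs : ∀ (m : ℂ) (w : Fin 3 → ℂ),
      eval (m • w) (HesseCubic.form k) = m ^ 3 * eval w (HesseCubic.form k) := fun m w => by
    simp only [eval_form, Pi.smul_apply, smul_eq_mul]; ring
  rw [auto, Matrix.smul_mulVec, hs, ← Matrix.mulVec_mulVec, eval_G, eval_Npow]
  ring

theorem om_pow_inj {a a' : Fin 3} (h : om ^ (a.val) = om ^ (a'.val)) : a = a' := by
  have h1 := om_ne_one
  have h0 : om ≠ 0 := fun h => by have := om_cube; rw [h] at this; norm_num at this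
  have h2 : om ^ 2 ≠ 1 := fun h => h1 (by linear_combination om_cube - om * h)
  have h3 : om ^ 2 ≠ om := fun h => h1 (mul_left_cancel₀ h0 (by linear_combination h))
  fin_cases a <;> fin_cases a' <;>
    simp only [Fin.zero_eta, Fin.mk_one, Fin.reduceFinMk, Fin.val_zero, Fin.val_one, Fin.val_two, pow_zero, pow_one] at h <;>
    first | rfl | exact absurd h h1 | exact absurd h.symm h1 | exact absurd h h2 | exact absurd h.symm h2
          | exact absurd h h3 | exact absurd h.symm h3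

theorem auto_injective : Function.Injective auto := by
  rintro ⟨a, i, j, b⟩ ⟨a', i', j', b'⟩ h
  have h0 : ∀ (a i j : Fin 3) (b : Fin 2) (r : Fin 3), auto (a, i, j, b) r 0 =
      om ^ (a.val) * (if b = 0 then 1 else -1) * (if r = i then 1 else 0) := by
    intro a i j b r
    fin_cases b <;> simp [auto, Npow, Nmat, G, Matrix.mul_apply, Fin.sum_univ_three, Matrix.one_apply]
  have hom : ∀ a : Fin 3, (om ^ (a.val) : ℂ) ≠ 0 := fun a => pow_ne_zero _ fun h => by
    have := om_cube; rw [h] at this; norm_num at this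
  have e := congrFun (congrFun h i) 0
  rw [h0, h0, if_pos rfl] at e
  obtain rfl : i = i' := by
    by_contra hne
    rw [if_neg hne, mul_zero, mul_one] at e
    exact mul_ne_zero (hom a) (by split_ifs <;> norm_num) e
  rw [if_pos rfl, mul_one, mul_one] at e
  have hcube : ∀ a : Fin 3, (om ^ (a.val)) ^ 3 = (1 : ℂ) := fun a => by
    rw [← pow_mul, mul_comm a.val, pow_mul, om_cube, one_pow]
  obtain rfl : b = b' := by
    have := congrArg (fun z : ℂ => z ^ 3) e
    simp only [mul_pow, hcube, one_mul] at this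
    fin_cases b <;> fin_cases b' <;> first | rfl | (norm_num at this)
  have e' : om ^ (a.val) = om ^ (a'.val) := mul_right_cancel₀ (by split_ifs <;> norm_num) e
  obtain rfl := om_pow_inj e'
  have hG : G i j = G i j' := by
    have h' : G i j * Npow b = G i j' * Npow b := smul_right_injective _ (hom a) h
    have hN : IsUnit (Npow b).det := by rw [det_Npow]; exact isUnit_one
    calc G i j = G i j * Npow b * (Npow b)⁻¹ := (Matrix.mul_nonsing_inv_cancel_right _ _ hN).symm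
      _ = G i j' * Npow b * (Npow b)⁻¹ := by rw [h']
      _ = G i j' := Matrix.mul_nonsing_inv_cancel_right _ _ hN
  have e1 := congrFun (congrFun hG (1 + i)) 1
  simp [G] at e1
  obtain rfl := om_pow_inj e1
  rfl

theorem eval_P0_change (k d : ℂ) (x : Fin 3 → ℂ) :
    eval ((!![2, 0, 2 * d; -k, 1, 1 - k * d; -k, -1, 1 - k * d] : Matrix (Fin 3) (Fin 3) ℂ).mulVec x)
        (HesseCubic.form k) =
      8 * (1 - k ^ 3) * (x 0 + d * x 2) ^ 3 + 6 * x 1 ^ 2 * x 2 + 18 * k ^ 2 * (x 0 + d * x 2) ^ 2 * x 2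
        - 12 * k * (x 0 + d * x 2) * x 2 ^ 2 + 2 * x 2 ^ 3 := by
  rw [eval_form]
  simp [Matrix.mulVec, dotProduct, Fin.sum_univ_three]
  ring

/-- The conditions on the parameter. -/
def Generic (k : ℂ) : Prop := k ≠ 0 ∧ k ^ 3 ≠ 1 ∧ 8 + k ^ 3 ≠ 0 ∧ 8 + 20 * k ^ 3 - k ^ 6 ≠ 0

theorem stabiliser {k : ℂ} (hk : Generic k) (R : Matrix (Fin 3) (Fin 3) ℂ) (hR : IsUnit R.det) {κ m : ℂ}
    (hf : ∀ v, eval (R.mulVec v) (HesseCubic.form k) = κ * eval v (HesseCubic.form k))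
    (hP : R.mulVec P0 = m • P0) :
    ∃ p : ℂ, ∃ b : Fin 2, R = p • Npow b := by
  obtain ⟨hk0, hk1, hk8, hk6⟩ := hk
  have hq : 1 - k ^ 3 ≠ 0 := sub_ne_zero.mpr (Ne.symm hk1)
  set d := -(3 * k ^ 2) / (4 * (1 - k ^ 3)) with hd
  set Φ : Matrix (Fin 3) (Fin 3) ℂ := !![2, 0, 2 * d; -k, 1, 1 - k * d; -k, -1, 1 - k * d] with hΦ
  have hΦdet : Φ.det = 4 := by simp [hΦ, Matrix.det_fin_three]; ring
  have hΦu : IsUnit Φ.det := by rw [hΦdet]; exact isUnit_iff_ne_zero.mpr (by norm_num)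
  have hc : 8 * (1 - k ^ 3) ≠ 0 := mul_ne_zero (by norm_num) hq
  set e := -(3 * k * (8 + k ^ 3)) / (2 * (1 - k ^ 3)) with he
  set h := (8 + 20 * k ^ 3 - k ^ 6) / (4 * (1 - k ^ 3) ^ 2) with hh
  have hW : ∀ x, eval (Φ.mulVec x) (HesseCubic.form k) =
      8 * (1 - k ^ 3) * x 0 ^ 3 + 6 * x 1 ^ 2 * x 2 + e * x 0 * x 2 ^ 2 + h * x 2 ^ 3 := by
    intro x
    rw [hΦ, eval_P0_change, hd, he, hh]
    field_simp
    ring
  have he0 : e ≠ 0 := div_ne_zero (neg_ne_zero.mpr (mul_ne_zero (mul_ne_zero three_ne_zero hk0) hk8))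
    (mul_ne_zero two_ne_zero hq)
  have hh0 : h ≠ 0 := div_ne_zero hk6 (mul_ne_zero (by norm_num) (pow_ne_zero _ hq))
  set c := 8 * (1 - k ^ 3) with hcdef
  -- the polar form in the new coordinates
  set S := Φ⁻¹ * R * Φ with hS
  have hSΦ : ∀ x, Φ.mulVec (S.mulVec x) = R.mulVec (Φ.mulVec x) := by
    intro x
    rw [hS, Matrix.mulVec_mulVec, Matrix.mulVec_mulVec, ← Matrix.mul_assoc, ← Matrix.mul_assoc,
      Matrix.mul_nonsing_inv _ hΦu, Matrix.one_mul]
  have hSf : ∀ x, c * S.mulVec x 0 ^ 3 + 6 * S.mulVec x 1 ^ 2 * S.mulVec x 2 +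
      e * S.mulVec x 0 * S.mulVec x 2 ^ 2 + h * S.mulVec x 2 ^ 3 =
      κ * (c * x 0 ^ 3 + 6 * x 1 ^ 2 * x 2 + e * x 0 * x 2 ^ 2 + h * x 2 ^ 3) := by
    intro x
    rw [← hW, ← hW, hSΦ, hf]
  have hΦ1 : ∀ t : ℂ, Φ.mulVec ![0, t, 0] = t • P0 := by
    intro t
    funext r
    fin_cases r <;> simp [hΦ, P0, Matrix.mulVec, dotProduct, Fin.sum_univ_three]
  have hS1 : S.mulVec ![0, 1, 0] = ![0, m, 0] := by
    have : Φ.mulVec (S.mulVec ![0, 1, 0]) = Φ.mulVec ![0, m, 0] := by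
      rw [hSΦ, hΦ1, hΦ1, one_smul, hP]
    exact mulVec_inj hΦu this
  have s01 : S 0 1 = 0 := by
    have := congrFun hS1 0; simpa [Matrix.mulVec, dotProduct, Fin.sum_univ_three] using this
  have s11 : S 1 1 = m := by
    have := congrFun hS1 1; simpa [Matrix.mulVec, dotProduct, Fin.sum_univ_three] using this
  have s21 : S 2 1 = 0 := by
    have := congrFun hS1 2; simpa [Matrix.mulVec, dotProduct, Fin.sum_univ_three] using this
  have hm : m ≠ 0 := by
    intro hm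
    have := mulVec_inj hR (show R.mulVec P0 = R.mulVec 0 by rw [hP, hm, zero_smul, Matrix.mulVec_zero])
    simp [P0] at this
  have hev : ∀ a b z : ℂ, c * (S 0 0 * a + S 0 2 * z) ^ 3 +
      6 * (S 1 0 * a + m * b + S 1 2 * z) ^ 2 * (S 2 0 * a + S 2 2 * z) +
      e * (S 0 0 * a + S 0 2 * z) * (S 2 0 * a + S 2 2 * z) ^ 2 + h * (S 2 0 * a + S 2 2 * z) ^ 3 =
      κ * (c * a ^ 3 + 6 * b ^ 2 * z + e * a * z ^ 2 + h * z ^ 3) := by
    intro a b z
    have := hSf ![a, b, z]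
    simp [Matrix.mulVec, dotProduct, Fin.sum_univ_three, s01, s11, s21] at this
    linear_combination this
  -- second differences in `b`
  have hQ : ∀ a z : ℂ, m ^ 2 * (S 2 0 * a + S 2 2 * z) = κ * z := fun a z => by
    linear_combination (hev a 1 z + hev a (-1) z - 2 * hev a 0 z) / 12
  have hL : ∀ a z : ℂ, m * (S 1 0 * a + S 1 2 * z) * (S 2 0 * a + S 2 2 * z) = 0 := fun a z => by
    linear_combination (hev a 1 z - hev a (-1) z) / 24
  have s20 : S 2 0 = 0 := by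
    have := hQ 1 0
    simp [hm] at this
    exact this
  have hκ : κ = m ^ 2 * S 2 2 := by linear_combination -(hQ 0 1)
  have h22 : S 2 2 ≠ 0 := by
    intro h22
    rw [h22, mul_zero] at hκ
    have hdet : R.det ≠ 0 := hR.ne_zero
    have h1 := hf ((R⁻¹).mulVec ![1, 0, 0])
    rw [Matrix.mulVec_mulVec, Matrix.mul_nonsing_inv _ hR, Matrix.one_mulVec, hκ, zero_mul, eval_form] at h1
    simp at h1
  have s12 : S 1 2 = 0 := by
    have := hL 0 1
    simp [hm, h22] at this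
    exact this
  have s10 : S 1 0 = 0 := by
    have := hL 1 1
    simp [hm, h22, s12, s20] at this
    exact this
  have hP3 : ∀ a z : ℂ, c * (S 0 0 * a + S 0 2 * z) ^ 3 + e * (S 0 0 * a + S 0 2 * z) * (S 2 2 * z) ^ 2 +
      h * (S 2 2 * z) ^ 3 = κ * (c * a ^ 3 + e * a * z ^ 2 + h * z ^ 3) := fun a z => by
    have := hev a 0 z
    rw [s20, s10, s12] at this
    linear_combination this
  have p00 : S 0 0 ^ 3 = κ := mul_left_cancel₀ hc (by linear_combination hP3 1 0)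
  have h00 : S 0 0 ≠ 0 := fun h0 => mul_ne_zero (pow_ne_zero 2 hm) h22 (by rw [← hκ, ← p00, h0]; ring)
  have s02 : S 0 2 = 0 := by
    have : c * S 0 0 ^ 2 * S 0 2 = 0 := by
      linear_combination (hP3 1 1 + hP3 (-1) 1 - 2 * hP3 0 1) / 6
    exact (mul_eq_zero.mp this).resolve_left (mul_ne_zero hc (pow_ne_zero _ h00))
  have p22 : S 2 2 ^ 3 = κ := by
    have := hP3 0 1
    rw [s02] at this
    exact mul_left_cancel₀ hh0 (by linear_combination this)
  have p02 : S 0 0 * S 2 2 ^ 2 = κ := by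
    have := hP3 1 1
    rw [s02] at this
    exact mul_left_cancel₀ he0 (by linear_combination this - c * p00 - h * p22)
  have hp : S 0 0 = S 2 2 := mul_right_cancel₀ (pow_ne_zero 2 h22) (by linear_combination p02 - p22)
  have hm2 : (m - S 2 2) * (m + S 2 2) = 0 := mul_left_cancel₀ h22 (by linear_combination -hκ - p22)
  have hRΦ : R * Φ = Φ * S := by
    rw [hS, ← Matrix.mul_assoc, ← Matrix.mul_assoc, Matrix.mul_nonsing_inv _ hΦu, Matrix.one_mul]
  have hSdiag : S = !![S 2 2, 0, 0; 0, m, 0; 0, 0, S 2 2] := by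
    ext r s
    fin_cases r <;> fin_cases s <;> simp [s01, s02, s10, s11, s12, s20, s21, hp]
  have hcancel : ∀ M : Matrix (Fin 3) (Fin 3) ℂ, M * Φ = Φ * S → R = M := fun M hM => by
    have := congrArg (· * Φ⁻¹) (hRΦ.trans hM.symm)
    simpa [Matrix.mul_nonsing_inv_cancel_right _ _ hΦu] using this
  rcases mul_eq_zero.mp hm2 with h1 | h1
  · refine ⟨S 2 2, 0, hcancel _ ?_⟩
    rw [hSdiag, sub_eq_zero.mp h1]
    ext r s
    fin_cases r <;> fin_cases s <;>
      simp [Npow, hΦ, Matrix.mul_apply, Fin.sum_univ_three, Matrix.one_apply] <;> ring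
  · refine ⟨-S 2 2, 1, hcancel _ ?_⟩
    rw [hSdiag, eq_neg_of_add_eq_zero_left h1]
    ext r s
    fin_cases r <;> fin_cases s <;>
      simp [Npow, Nmat, hΦ, Matrix.mul_apply, Fin.sum_univ_three] <;> ring

theorem auto_surjective {k : ℂ} (hk : Generic k) (A : Matrix (Fin 3) (Fin 3) ℂ) (hA : A.det = 1) {c : ℂ}
    (hf : ∀ v, eval (A.mulVec v) (HesseCubic.form k) = c * eval v (HesseCubic.form k)) :
    ∃ p, auto p = A := by
  have hAu : IsUnit A.det := by rw [hA]; exact isUnit_one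
  have hc : c ≠ 0 := by
    intro h0
    have h1 := hf ((A⁻¹).mulVec ![1, 0, 0])
    rw [Matrix.mulVec_mulVec, Matrix.mul_nonsing_inv _ hAu, Matrix.one_mulVec, h0, zero_mul, eval_form] at h1
    simp at h1
  have hflex : Flex (tri (HesseCubic.form k)) (A.mulVec P0) :=
    flex_map (form_homog k) (form_homog k) (Matrix.toLin' A) (mulVec_inj hAu) hf (flex_P0 k)
  have hne : A.mulVec P0 ≠ 0 := fun h => by
    have := mulVec_inj hAu (show A.mulVec P0 = A.mulVec 0 by rw [h, Matrix.mulVec_zero])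
    simp [P0] at this
  obtain ⟨i, j, m, -, hm⟩ := flex_eq_flexPt hk.2.1 hne hflex
  have hGu : IsUnit (G i j).det := by rw [det_G]; exact isUnit_one
  set R := (G i j)⁻¹ * A with hR
  have hAR : A = G i j * R := by rw [hR, Matrix.mul_nonsing_inv_cancel_left _ _ hGu]
  have hRdet : R.det = 1 := by
    rw [hR, Matrix.det_mul, Matrix.det_nonsing_inv, det_G, hA, Ring.inverse_one, one_mul]
  obtain ⟨p, b, hpb⟩ := stabiliser hk R (by rw [hRdet]; exact isUnit_one) (κ := c) (m := m)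
    (fun v => by rw [← eval_G k i j (R.mulVec v), Matrix.mulVec_mulVec, ← hAR, hf])
    (by rw [hR, ← Matrix.mulVec_mulVec, hm, flexPt, Matrix.mulVec_smul, Matrix.mulVec_mulVec,
      Matrix.nonsing_inv_mul _ hGu, Matrix.one_mulVec])
  have hp : p ^ 3 = 1 := by
    rwa [hpb, Matrix.det_smul, det_Npow, mul_one, Fintype.card_fin] at hRdet
  obtain ⟨a, rfl⟩ := cube_root_cases hp
  exact ⟨(a, i, j, b), by rw [hAR, hpb, Matrix.mul_smul, auto]⟩

theorem card_generic {k : ℂ} (hk : Generic k) :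
    Nat.card {A : Matrix (Fin 3) (Fin 3) ℂ // A.det = 1 ∧
      ∃ c : ℂ, aeval (fun i : Fin 3 => ∑ j : Fin 3, C (A i j) * X j) (HesseCubic.form k) =
        C c * HesseCubic.form k} = 54 := by
  let e : Fin 3 × Fin 3 × Fin 3 × Fin 2 → {A : Matrix (Fin 3) (Fin 3) ℂ // A.det = 1 ∧
      ∃ c : ℂ, aeval (fun i : Fin 3 => ∑ j : Fin 3, C (A i j) * X j) (HesseCubic.form k) =
        C c * HesseCubic.form k} := fun p => ⟨auto p, det_auto p, _, aeval_of_eval (eval_auto k p)⟩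
  have hbij : Function.Bijective e := by
    refine ⟨fun p q h => auto_injective (congrArg Subtype.val h), ?_⟩
    rintro ⟨A, hA, c, hc⟩
    obtain ⟨p, hp⟩ := auto_surjective hk A hA (eval_of_aeval hc)
    exact ⟨p, Subtype.ext hp⟩
  rw [← Nat.card_eq_of_bijective e hbij]
  simp [Nat.card_prod]

theorem card_cofinite : ∃ T : Finset ℂ, ∀ k : ℂ, k ∉ T →
    Nat.card {A : Matrix (Fin 3) (Fin 3) ℂ // A.det = 1 ∧
      ∃ c : ℂ, aeval (fun i : Fin 3 => ∑ j : Fin 3, C (A i j) * X j) (HesseCubic.form k) =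
        C c * HesseCubic.form k} = 54 := by
  let p : Polynomial ℂ := Polynomial.X * (1 - Polynomial.X ^ 3) * (8 + Polynomial.X ^ 3) *
    (8 + 20 * Polynomial.X ^ 3 - Polynomial.X ^ 6)
  have hp : p ≠ 0 := fun h => by
    have := congrArg (Polynomial.eval 2) h
    norm_num [p] at this
  refine ⟨p.roots.toFinset, fun k hk => card_generic ?_⟩
  have hev : p.eval k ≠ 0 := fun h => hk (Multiset.mem_toFinset.mpr ((Polynomial.mem_roots hp).mpr h))
  simp [p, mul_ne_zero_iff, sub_eq_zero] at hev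
  obtain ⟨⟨⟨h0, h1⟩, h2⟩, h3⟩ := hev
  exact ⟨h0, fun h => h1 h.symm, h2, sub_ne_zero.mpr h3⟩

variable {f : MvPolynomial (Fin 3) ℂ} (hf : f.IsHomogeneous 3)
  (hsm : ∀ v : Fin 3 → ℂ, v ≠ 0 → eval v f = 0 → ∃ i : Fin 3, eval v (pderiv i f) ≠ 0)
include hf hsm

theorem transitive {v v' : Fin 3 → ℂ} (hv : v ≠ 0) (hv' : v' ≠ 0) (hF : Flex (tri f) v) (hF' : Flex (tri f) v') :
    ∃ (A : Matrix (Fin 3) (Fin 3) ℂ) (c d : ℂ), IsUnit A.det ∧
      aeval (fun i : Fin 3 => ∑ j : Fin 3, C (A i j) * X j) f = C c * f ∧ A.mulVec v = d • v' := by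
  obtain ⟨P, k, c, hP, hk, -, hc, hPf⟩ := hesse_normal hf hsm
  have hinv : ∀ w, eval ((P⁻¹).mulVec w) (HesseCubic.form k) = c⁻¹ * eval w f := fun w => by
    have := hPf ((P⁻¹).mulVec w)
    rw [Matrix.mulVec_mulVec, Matrix.mul_nonsing_inv _ hP, Matrix.one_mulVec] at this
    rw [this, inv_mul_cancel_left₀ hc]
  have hPi : IsUnit (P⁻¹).det := P.isUnit_nonsing_inv_det hP
  have hpull : ∀ w, w ≠ 0 → Flex (tri f) w → ∃ i j, ∃ m : ℂ, m ≠ 0 ∧ w = P.mulVec (m • flexPt i j) := by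
    intro w hw hFw
    have hne : (P⁻¹).mulVec w ≠ 0 := fun h => hw (mulVec_inj hPi (by
      show (P⁻¹).mulVec w = (P⁻¹).mulVec 0
      rw [h, Matrix.mulVec_zero]))
    obtain ⟨i, j, m, hm, h⟩ := flex_eq_flexPt hk hne
      (flex_map (form_homog k) hf (Matrix.toLin' P⁻¹) (mulVec_inj hPi) hinv hFw)
    exact ⟨i, j, m, hm, by rw [← h, Matrix.mulVec_mulVec, Matrix.mul_nonsing_inv _ hP, Matrix.one_mulVec]⟩
  obtain ⟨i, j, m, hm, rfl⟩ := hpull v hv hF
  obtain ⟨i', j', m', hm', rfl⟩ := hpull v' hv' hF'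
  have hGu : IsUnit (G i j).det := by rw [det_G]; exact isUnit_one
  refine ⟨P * G i' j' * (G i j)⁻¹ * P⁻¹, 1, m / m', ?_, aeval_of_eval fun w => ?_, ?_⟩
  · simp only [Matrix.det_mul, det_G, mul_one]
    exact (hP.mul ((G i j).isUnit_nonsing_inv_det hGu)).mul hPi
  · have h1 : eval (((G i j)⁻¹).mulVec ((P⁻¹).mulVec w)) (HesseCubic.form k) = c⁻¹ * eval w f := by
      rw [← hinv, ← eval_G k i j, Matrix.mulVec_mulVec _ (G i j), Matrix.mul_nonsing_inv _ hGu, Matrix.one_mulVec]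
    rw [← Matrix.mulVec_mulVec, ← Matrix.mulVec_mulVec, ← Matrix.mulVec_mulVec, hPf, eval_G, h1,
      mul_inv_cancel_left₀ hc, one_mul]
  · simp only [← Matrix.mulVec_mulVec, Matrix.mulVec_smul, Matrix.mulVec_mulVec _ P⁻¹,
      Matrix.nonsing_inv_mul _ hP, Matrix.one_mulVec, flexPt, Matrix.mulVec_mulVec _ (G i j)⁻¹,
      Matrix.nonsing_inv_mul _ hGu]
    rw [smul_smul, div_mul_cancel₀ _ hm']

theorem fix_flexes (A : Matrix (Fin 3) (Fin 3) ℂ)
    (hfix : ∀ v : Fin 3 → ℂ, v ≠ 0 → Flex (tri f) v → ∃ d : ℂ, A.mulVec v = d • v) :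
    ∃ c : ℂ, A = c • (1 : Matrix (Fin 3) (Fin 3) ℂ) := by
  obtain ⟨P, k, c, hP, hk, -, hc, hPf⟩ := hesse_normal hf hsm
  obtain ⟨s, hs⟩ := scalar_of_fix_nine (P⁻¹ * A * P) fun w hw hw0 => by
    have hne : P.mulVec w ≠ 0 := fun h => hw0 (mulVec_inj hP (by
      show P.mulVec w = P.mulVec 0
      rw [h, Matrix.mulVec_zero]))
    obtain ⟨d, hd⟩ := hfix _ hne (flex_map hf (form_homog k) (Matrix.toLin' P) (mulVec_inj hP) hPf
      ((flex_form_iff hk hw0).mpr hw))
    exact ⟨d, by rw [← Matrix.mulVec_mulVec, ← Matrix.mulVec_mulVec, hd, Matrix.mulVec_smul,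
      Matrix.mulVec_mulVec, Matrix.nonsing_inv_mul _ hP, Matrix.one_mulVec]⟩
  refine ⟨s, ?_⟩
  have := congrArg (fun M => P * M * P⁻¹) hs
  simpa [← Matrix.mul_assoc, Matrix.mul_nonsing_inv _ hP, Matrix.mul_nonsing_inv_cancel_right _ _ hP] using this

end Groth.L14.Cubic
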