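import Groth.Agent.L14.Cubic.TriTools

/-!
The tangent section of a cubic surface at a rational point which is not a T-point.
-/

open Polynomial

namespace Groth.L14.Cubic.Section

variable {k : Type*} [Field k]

/-- The base point. -/
def a0 : Fin 3 → k := ![1, 0, 0]

/-- Directions. -/
def wt (t : k) : Fin 3 → k := ![0, 1, t]

/-- Constant vector. -/
noncomputable def cv (v : Fin 3 → k) : Fin 3 → k[X] := fun i => C (v i)

/-- Linear form on polynomial vectors. -/
noncomputable def linP (L : (Fin 3 → k) →ₗ[k] k) (v : Fin 3 → k[X]) : k[X] := ∑ i, C (L (ev i)) * v i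

/-- Evaluation. -/
noncomputable def evv (t : k) (v : Fin 3 → k[X]) : Fin 3 → k := fun i => (v i).eval t

/-- Determinant of three vectors. -/
def det3 {S : Type*} [CommRing S] (u v w : Fin 3 → S) : S :=
  u 0 * (v 1 * w 2 - v 2 * w 1) - u 1 * (v 0 * w 2 - v 2 * w 0) + u 2 * (v 0 * w 1 - v 1 * w 0)

theorem eval_det3 (t : k) (u v w : Fin 3 → k[X]) : (det3 u v w).eval t = det3 (evv t u) (evv t v) (evv t w) := by
  simp [det3, evv]

theorem eval_linP (L : (Fin 3 → k) →ₗ[k] k) (t : k) (v : Fin 3 → k[X]) : (linP L v).eval t = L (evv t v) := by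
  conv_rhs => rw [eq_sum_ev (evv t v)]
  simp [linP, evv, eval_finsetSum, mul_comm]

theorem derivative_linP (L : (Fin 3 → k) →ₗ[k] k) (v : Fin 3 → k[X]) : derivative (linP L v) = linP L (dv v) := by
  simp [linP, dv, derivative_mul]

theorem cramer (u v w s : Fin 3 → k) :
    det3 u v w • s = det3 s v w • u + det3 u s w • v + det3 u v s • w := by
  funext i
  fin_cases i <;> simp [det3] <;> ring

variable (U : (Fin 3 → k) →ₗ[k] (Fin 3 → k) →ₗ[k] (Fin 3 → k) →ₗ[k] k)

/-- `-3 U(a,w,w)`. -/
noncomputable def qP : k[X] := C (-3) * triP U (cv a0) ![0, 1, X] ![0, 1, X]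

/-- `U(w,w,w)`. -/
noncomputable def cP : k[X] := triP U ![0, 1, X] ![0, 1, X] ![0, 1, X]

/-- The parametrisation. -/
noncomputable def phi : Fin 3 → k[X] := ![cP U, qP U, X * qP U]

/-- Wronskian. -/
noncomputable def wr : k[X] := det3 (phi U) (dv (phi U)) (dv (dv (phi U)))

/-- Residual of the tangent line. -/
noncomputable def res : Fin 3 → k[X] := fun i =>
  triP U (dv (phi U)) (dv (phi U)) (dv (phi U)) * phi U i -
    C 3 * triP U (phi U) (dv (phi U)) (dv (phi U)) * dv (phi U) i

theorem eval_triP' (U : (Fin 3 → k) →ₗ[k] (Fin 3 → k) →ₗ[k] (Fin 3 → k) →ₗ[k] k) (t : k)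
    (u v w : Fin 3 → k[X]) : (triP U u v w).eval t = U (evv t u) (evv t v) (evv t w) := eval_triP U t u v w

theorem evv_w (t : k) : evv t ![0, 1, X] = wt t := by
  funext i; fin_cases i <;> simp [evv, wt]

theorem evv_cv (t : k) (v : Fin 3 → k) : evv t (cv v) = v := by funext i; simp [evv, cv]

theorem eval_qP (t : k) : (qP U).eval t = -3 * U a0 (wt t) (wt t) := by
  rw [qP, eval_mul, eval_C, eval_triP', evv_cv, evv_w]

theorem eval_cP (t : k) : (cP U).eval t = U (wt t) (wt t) (wt t) := by
  rw [cP, eval_triP', evv_w]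

theorem evv_phi (t : k) : evv t (phi U) = (cP U).eval t • a0 + (qP U).eval t • wt t := by
  funext i; fin_cases i <;> simp [evv, phi, a0, wt, mul_comm]

variable {U} (hU : Sym3 U) (ha : ∀ v, U a0 a0 v = 0)
include hU ha

theorem triP_phi [Infinite k] : triP U (phi U) (phi U) (phi U) = 0 := by
  refine Polynomial.funext fun t => ?_
  rw [eval_triP', evv_phi, hU.expand, ha, ha, eval_zero, eval_cP, eval_qP]
  ring

variable [CharZero k] (hq : qP U ≠ 0) (hne : ∀ μ κ : k, cP U ≠ (C μ + C κ * X) * qP U)
include hq hne

theorem wr_ne_zero : wr U ≠ 0 := by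
  intro h
  set c := cP U with hc
  set q := qP U with hqq
  have hW : 2 * c * derivative q ^ 2 - c * q * derivative (derivative q)
      - 2 * q * derivative c * derivative q + q ^ 2 * derivative (derivative c) = 0 := by
    rw [wr] at h
    simp only [det3, dv, phi, Matrix.cons_val_zero, Matrix.cons_val_one, Matrix.cons_val, derivative_mul,
      derivative_X, derivative_add, one_mul, ← hc, ← hqq] at h
    linear_combination h
  have h1 : derivative (derivative c * q - c * derivative q) * q ^ 2 =
      (derivative c * q - c * derivative q) * derivative (q ^ 2) := by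
    simp only [pow_two, derivative_mul, derivative_sub] at hW ⊢
    linear_combination q * hW
  obtain ⟨κ, hκ⟩ := eq_const_mul_of_wronskian (pow_ne_zero 2 hq) h1
  have h2 : derivative (c - C κ * X * q) * q = (c - C κ * X * q) * derivative q := by
    simp only [derivative_sub, derivative_mul, derivative_C, derivative_X, zero_mul, zero_add, mul_one]
    linear_combination hκ
  obtain ⟨μ, hμ⟩ := eq_const_mul_of_wronskian hq h2
  exact hne μ κ (by linear_combination hμ)

omit hU ha hq hne in
theorem indep_eq_zero {t : k} (hW : (wr U).eval t ≠ 0) {L : (Fin 3 → k) →ₗ[k] k}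
    (h0 : L (evv t (phi U)) = 0) (h1 : L (evv t (dv (phi U))) = 0) (h2 : L (evv t (dv (dv (phi U)))) = 0) :
    L = 0 := by
  refine LinearMap.ext fun s => ?_
  have := congrArg L (cramer (evv t (phi U)) (evv t (dv (phi U))) (evv t (dv (dv (phi U)))) s)
  simp only [map_smul, map_add, h0, h1, h2, smul_eq_mul, mul_zero, add_zero] at this
  rw [wr, eval_det3] at hW
  exact (mul_eq_zero.mp this).resolve_left hW

omit hne in
theorem tangent_facts {t : k} (hqt : (qP U).eval t ≠ 0) (hW : (wr U).eval t ≠ 0) :
    U (evv t (phi U)) (evv t (phi U)) (evv t (phi U)) = 0 ∧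
      U (evv t (phi U)) (evv t (phi U)) (evv t (dv (phi U))) = 0 ∧
      U (evv t (phi U)) (evv t (dv (phi U))) (evv t (dv (phi U))) ≠ 0 ∧
      U (evv t (phi U)) (evv t (phi U)) a0 ≠ 0 := by
  set b := evv t (phi U) with hb
  set z := evv t (dv (phi U)) with hz
  set z' := evv t (dv (dv (phi U))) with hz'
  have h0 := triP_phi hU ha
  have e0 : U b b b = 0 := by
    have := congrArg (Polynomial.eval t) h0; rwa [eval_triP', eval_zero] at this
  have h1 : triP U (dv (phi U)) (phi U) (phi U) + triP U (phi U) (dv (phi U)) (phi U) +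
      triP U (phi U) (phi U) (dv (phi U)) = 0 := by
    rw [← derivative_triP, h0, derivative_zero]
  have e1 : U b b z = 0 := by
    have := congrArg (Polynomial.eval t) h1
    simp only [eval_add, eval_triP', eval_zero, ← hb, ← hz, hU.r1 b z, hU.r2 b z] at this
    linear_combination this / 3
  have hba : U b b a0 = -(qP U).eval t ^ 3 / 3 := by
    have haw : U a0 (wt t) a0 = 0 := by rw [hU.r2]; exact ha _
    have hwa : U (wt t) a0 a0 = 0 := by rw [hU.r1]; exact ha _
    rw [hb, evv_phi]
    simp only [map_add, map_smul, LinearMap.add_apply, LinearMap.smul_apply, smul_eq_mul, ha, haw, hwa]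
    rw [show U (wt t) (wt t) a0 = U a0 (wt t) (wt t) by rw [hU.r1 (wt t) a0], eval_qP]
    ring
  refine ⟨e0, e1, fun hzz => ?_, by rw [hba]; exact div_ne_zero (neg_ne_zero.mpr (pow_ne_zero _ hqt)) three_ne_zero⟩
  have e2 : U b b z' = 0 := by
    have h2 := congrArg (Polynomial.eval t) (congrArg derivative h1)
    simp only [derivative_add, derivative_triP, eval_add, eval_triP', derivative_zero, eval_zero,
      ← hb, ← hz, ← hz'] at h2
    rw [hU.r1 b z', hU.r2 b z', hU.r2 z b, hU.r1 z b,
      show U z z b = U b z z from (hU.r1 z b).symm, hzz] at h2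
    linear_combination h2 / 3
  have := indep_eq_zero (U := U) hW (L := U b b) e0 e1 e2
  rw [this] at hba
  rw [LinearMap.zero_apply] at hba
  exact div_ne_zero (neg_ne_zero.mpr (pow_ne_zero 3 hqt)) three_ne_zero hba.symm

theorem exists_avoid (L : (Fin 3 → k) →ₗ[k] k) (hL : L ≠ 0) {t1 : k} (ht1 : (qP U).eval t1 ≠ 0)
    (hLt1 : L (evv t1 (phi U)) = 0) :
    linP L (phi U) ≠ 0 ∧ linP L (res U) ≠ 0 := by
  classical
  have hgood : qP U * wr U ≠ 0 := mul_ne_zero hq (wr_ne_zero hU ha hq hne)
  have hLphi : linP L (phi U) ≠ 0 := by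
    intro h
    obtain ⟨t, ht⟩ := exists_good_t (k := k) ({()} : Finset Unit) (fun _ => qP U * wr U) (fun _ _ => hgood)
    have ht' := ht () (Finset.mem_singleton_self _)
    rw [eval_mul] at ht'
    refine hL (indep_eq_zero (U := U) (right_ne_zero_of_mul ht') ?_ ?_ ?_)
    · rw [← eval_linP, h, eval_zero]
    · rw [← eval_linP, ← derivative_linP, h, derivative_zero, eval_zero]
    · rw [← eval_linP, ← derivative_linP, ← derivative_linP, h, derivative_zero, derivative_zero, eval_zero]
  refine ⟨hLphi, fun hres => ?_⟩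
  have hLw1 : (cP U).eval t1 * L a0 + (qP U).eval t1 * L (wt t1) = 0 := by
    rw [← hLt1, evv_phi]; simp
  let nv : (Fin 3 → k) → (Fin 3 → k) := fun w => (-(L w)) • a0 + (L a0) • w
  let S : Finset (Fin 3 → k) := ((linP L (phi U)).roots.toFinset.image fun s => evv s (phi U)) ∪
    ((qP U).roots.toFinset.image fun s => nv (wt s)) ∪ {nv ![0, 0, 1], a0}
  -- every zero of the section on the line lies on finitely many lines through the origin
  have hcover : ∀ r : Fin 3 → k, L r = 0 → U r r r = 0 → ∃ s ∈ S, ∃ l : k, r = l • s := by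
    intro r hLr hr
    by_cases hy : r 1 = 0
    · have hdec : r = r 0 • a0 + r 2 • ![0, 0, 1] := by
        funext i; fin_cases i <;> simp [a0, hy]
      by_cases hy2 : r 2 = 0
      · exact ⟨a0, by simp [S], r 0, by funext i; fin_cases i <;> simp [a0, hy, hy2]⟩
      · rw [hdec, map_add, map_smul, map_smul, smul_eq_mul, smul_eq_mul] at hLr
        have hLa : L a0 ≠ 0 := by
          intro hLa
          rw [hLa, mul_zero, zero_add] at hLr
          have h2 : L ![0, 0, 1] = 0 := (mul_eq_zero.mp hLr).resolve_left hy2
          rw [hLa, mul_zero, zero_add] at hLw1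
          have h1 : L (wt t1) = 0 := (mul_eq_zero.mp hLw1).resolve_left ht1
          apply hL
          refine LinearMap.ext fun v => ?_
          have : v = v 0 • a0 + v 1 • wt t1 + (v 2 - t1 * v 1) • ![0, 0, 1] := by
            funext i; fin_cases i <;> simp [a0, wt]; ring
          rw [this, map_add, map_add, map_smul, map_smul, map_smul, hLa, h1, h2]; simp
        refine ⟨nv ![0, 0, 1], by simp [S], r 2 / L a0, ?_⟩
        conv_lhs => rw [hdec]
        have hr0 : r 0 = -(r 2 * L ![0, 0, 1]) / L a0 := by
          field_simp; linear_combination hLr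
        rw [hr0]
        simp only [nv, smul_add, smul_smul]
        refine congrArg₂ (· + ·) (congrArg (· • a0) ?_) (congrArg (· • ![0, 0, 1]) ?_)
        · ring
        · field_simp
    · set s := r 2 / r 1 with hs
      have hdec : r = r 0 • a0 + r 1 • wt s := by
        funext i; fin_cases i <;> simp [a0, wt, hs]; field_simp
      have h1 : r 1 ^ 2 * (r 1 * (cP U).eval s - r 0 * (qP U).eval s) = 0 := by
        rw [hdec, hU.expand, ha, ha] at hr
        rw [eval_cP, eval_qP]
        linear_combination hr
      have h2 := (mul_eq_zero.mp h1).resolve_left (pow_ne_zero 2 hy)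
      rw [hdec, map_add, map_smul, map_smul, smul_eq_mul, smul_eq_mul] at hLr
      by_cases hqs : (qP U).eval s = 0
      · have hLa : L a0 ≠ 0 := by
          intro hLa
          rw [hLa, mul_zero, zero_add] at hLr
          have h3 : L (wt s) = 0 := (mul_eq_zero.mp hLr).resolve_left hy
          rw [hLa, mul_zero, zero_add] at hLw1
          have h4 : L (wt t1) = 0 := (mul_eq_zero.mp hLw1).resolve_left ht1
          have hst : t1 - s ≠ 0 := sub_ne_zero.mpr fun h => ht1 (h ▸ hqs)
          have h5 : L ![0, 0, 1] = 0 := by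
            have : wt t1 - wt s = (t1 - s) • ![0, 0, 1] := by funext i; fin_cases i <;> simp [wt]
            have h6 := congrArg L this
            rw [map_sub, h3, h4, sub_zero, map_smul, smul_eq_mul] at h6
            exact (mul_eq_zero.mp h6.symm).resolve_left hst
          apply hL
          refine LinearMap.ext fun v => ?_
          have : v = v 0 • a0 + v 1 • wt t1 + (v 2 - t1 * v 1) • ![0, 0, 1] := by
            funext i; fin_cases i <;> simp [a0, wt]; ring
          rw [this, map_add, map_add, map_smul, map_smul, map_smul, hLa, h4, h5]; simp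
        refine ⟨nv (wt s), ?_, r 1 / L a0, ?_⟩
        · refine Finset.mem_union_left _ (Finset.mem_union_right _ (Finset.mem_image.mpr ⟨s, ?_, rfl⟩))
          rw [Multiset.mem_toFinset, mem_roots hq]; exact hqs
        · conv_lhs => rw [hdec]
          have hr0 : r 0 = -(r 1 * L (wt s)) / L a0 := by
            field_simp; linear_combination hLr
          rw [hr0]
          simp only [nv, smul_add, smul_smul]
          refine congrArg₂ (· + ·) (congrArg (· • a0) ?_) (congrArg (· • wt s) ?_)
          · ring
          · field_simp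
      · have hr0 : r 0 = r 1 * (cP U).eval s / (qP U).eval s := by
          field_simp; linear_combination -h2
        refine ⟨evv s (phi U), ?_, r 1 / (qP U).eval s, ?_⟩
        · refine Finset.mem_union_left _ (Finset.mem_union_left _ (Finset.mem_image.mpr ⟨s, ?_, rfl⟩))
          rw [Multiset.mem_toFinset, mem_roots hLphi, IsRoot, eval_linP, evv_phi, map_add, map_smul, map_smul,
            smul_eq_mul, smul_eq_mul]
          have : r 1 * ((cP U).eval s * L a0 + (qP U).eval s * L (wt s)) = 0 := by
            linear_combination (qP U).eval s * hLr + L a0 * h2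
          exact (mul_eq_zero.mp this).resolve_left hy
        · conv_lhs => rw [hdec, hr0]
          rw [evv_phi]
          simp only [smul_add, smul_smul]
          refine congrArg₂ (· + ·) (congrArg (· • a0) ?_) (congrArg (· • wt s) ?_)
          · ring
          · field_simp
  -- at good parameters the residual is a nonzero such point
  have hrgood : ∀ t, (qP U * wr U).eval t ≠ 0 →
      evv t (res U) ≠ 0 ∧ L (evv t (res U)) = 0 ∧ U (evv t (res U)) (evv t (res U)) (evv t (res U)) = 0 := by
    intro t ht
    rw [eval_mul] at ht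
    obtain ⟨e0, e1, e2, -⟩ := tangent_facts hU ha hq (left_ne_zero_of_mul ht) (right_ne_zero_of_mul ht)
    set b := evv t (phi U) with hb
    set z := evv t (dv (phi U)) with hz
    have hr : evv t (res U) = U z z z • b + (-(3 * U b z z)) • z := by
      funext i
      simp [evv, res, eval_triP', hb, hz]
      ring
    refine ⟨?_, by rw [← eval_linP, hres, eval_zero], ?_⟩
    · rw [hr]
      intro h0
      have hWt := right_ne_zero_of_mul ht
      rw [wr, eval_det3, ← hb, ← hz] at hWt
      apply hWt
      have hz0 : ∀ i, z i = U z z z / (3 * U b z z) * b i := fun i => by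
        have := congrFun h0 i
        simp at this
        field_simp
        linear_combination -this
      simp only [det3, hz0]
      ring
    · rw [hr, hU.expand, e0, e1]
      ring
  -- pigeonhole
  let cr : (Fin 3 → k) → Fin 3 → k[X] := fun s =>
    ![res U 1 * C (s 2) - res U 2 * C (s 1), res U 2 * C (s 0) - res U 0 * C (s 2),
      res U 0 * C (s 1) - res U 1 * C (s 0)]
  obtain ⟨s, hsS, hs⟩ : ∃ s ∈ S, s ≠ 0 ∧ ∀ i, cr s i = 0 := by
    by_contra hnone
    push Not at hnone
    have hsel : ∀ s, ∃ i, s ∈ S → s ≠ 0 → cr s i ≠ 0 := fun s => by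
      by_cases h : s ∈ S ∧ s ≠ 0
      · obtain ⟨i, hi⟩ := hnone s h.1 h.2; exact ⟨i, fun _ _ => hi⟩
      · exact ⟨0, fun h1 h2 => absurd ⟨h1, h2⟩ h⟩
    choose sel hsel using hsel
    obtain ⟨t, ht⟩ := exists_good_t (k := k) (Finset.insertNone (S.filter (· ≠ 0)))
      (fun o => o.elim (qP U * wr U) fun s => cr s (sel s)) (by
        rintro (_ | s) hs
        · exact hgood
        · rw [Finset.some_mem_insertNone, Finset.mem_filter] at hs; exact hsel s hs.1 hs.2)
    obtain ⟨hne0, hLr, hUr⟩ := hrgood t (ht none Finset.none_mem_insertNone)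
    obtain ⟨s, hsS, l, hl⟩ := hcover _ hLr hUr
    have hs0 : s ≠ 0 := fun h => hne0 (by rw [hl, h, smul_zero])
    apply ht (some s) (by rw [Finset.some_mem_insertNone, Finset.mem_filter]; exact ⟨hsS, hs0⟩)
    have he : ∀ i, (res U i).eval t = l * s i := fun i => congrFun hl i
    show (cr s (sel s)).eval t = 0
    generalize sel s = i
    fin_cases i <;> simp [cr, he] <;> ring
  obtain ⟨hs0, hcr⟩ := hs
  have hd : det3 (phi U) (dv (phi U)) (cv s) = 0 := by
    have : det3 (phi U) (dv (phi U)) (cv s) * (qP U * wr U) = 0 := by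
      refine Polynomial.funext fun t => ?_
      rw [eval_mul, eval_zero, mul_eq_zero]
      by_cases ht : (qP U * wr U).eval t = 0
      · exact Or.inr ht
      refine Or.inl ?_
      obtain ⟨hne0, -, -⟩ := hrgood t ht
      rw [eval_det3, evv_cv]
      set R := evv t (res U) with hR
      have c0 := congrArg (Polynomial.eval t) (hcr 0)
      have c1 := congrArg (Polynomial.eval t) (hcr 1)
      have c2 := congrArg (Polynomial.eval t) (hcr 2)
      simp [cr] at c0 c1 c2
      have hRi : ∀ i, (res U i).eval t = R i := fun i => rfl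
      simp only [hRi] at c0 c1 c2
      have hz : det3 (evv t (phi U)) (evv t (dv (phi U))) R = 0 := by
        simp only [hR, det3, evv, res, eval_sub, eval_mul]
        ring
      obtain ⟨i, hi⟩ := Function.ne_iff.mp hne0
      set b := evv t (phi U)
      set z := evv t (dv (phi U))
      have : R i * det3 b z s = 0 := by
        fin_cases i <;> simp only [det3, Fin.zero_eta, Fin.mk_one, Fin.reduceFinMk] at hz ⊢
        · linear_combination s 0 * hz + (b 2 * z 0 - b 0 * z 2) * c2 - (b 0 * z 1 - b 1 * z 0) * c1
        · linear_combination s 1 * hz - (b 1 * z 2 - b 2 * z 1) * c2 + (b 0 * z 1 - b 1 * z 0) * c0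
        · linear_combination s 2 * hz + (b 1 * z 2 - b 2 * z 1) * c1 - (b 2 * z 0 - b 0 * z 2) * c0
      exact (mul_eq_zero.mp this).resolve_left hi
    exact (mul_eq_zero.mp this).resolve_right hgood
  have hd' : det3 (phi U) (dv (dv (phi U))) (cv s) = 0 := by
    have h := congrArg derivative hd
    rw [derivative_zero] at h
    rw [← h]
    simp only [det3, cv, dv, derivative_sub, derivative_add, derivative_mul, derivative_C]
    ring
  have hprop : ∀ t, (qP U * wr U).eval t ≠ 0 → ∃ al : k, al ≠ 0 ∧ s = al • evv t (phi U) := by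
    intro t ht
    rw [eval_mul] at ht
    have hWt := right_ne_zero_of_mul ht
    rw [wr, eval_det3] at hWt
    set b := evv t (phi U)
    set z := evv t (dv (phi U))
    set z' := evv t (dv (dv (phi U)))
    have d1 := congrArg (Polynomial.eval t) hd
    have d2 := congrArg (Polynomial.eval t) hd'
    rw [eval_det3, evv_cv, eval_zero] at d1 d2
    have hc := cramer b z z' s
    rw [d1, show det3 b s z' = 0 by rw [show det3 b s z' = -det3 b z' s by simp only [det3]; ring, d2, neg_zero],
      zero_smul, zero_smul, add_zero, add_zero] at hc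
    refine ⟨det3 s z z' / det3 b z z', div_ne_zero (fun h => hs0 ?_) hWt, ?_⟩
    · rw [h, zero_smul] at hc
      exact (smul_eq_zero.mp hc).resolve_left hWt
    · rw [div_eq_inv_mul, mul_smul, ← hc, inv_smul_smul₀ hWt]
  obtain ⟨t, ht⟩ := exists_good_t (k := k) ({()} : Finset Unit) (fun _ => qP U * wr U) (fun _ _ => hgood)
  obtain ⟨t', ht'⟩ := exists_good_t (k := k) (Finset.univ : Finset Bool)
    (fun o => if o then qP U * wr U else X - C t) (fun o _ => by
      cases o <;> simp [hgood, X_sub_C_ne_zero])
  have hgt := ht () (Finset.mem_singleton_self _)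
  have hgt' : (qP U * wr U).eval t' ≠ 0 := by simpa using ht' true (Finset.mem_univ _)
  have hne' : t' - t ≠ 0 := by simpa using ht' false (Finset.mem_univ _)
  obtain ⟨al, hal, hs1⟩ := hprop t hgt
  obtain ⟨be, hbe, hs2⟩ := hprop t' hgt'
  rw [hs1] at hs2
  have e1 := congrFun hs2 1
  have e2 := congrFun hs2 2
  simp [evv, phi] at e1 e2
  rw [eval_mul] at hgt'
  have : (t' - t) * (be * (qP U).eval t') = 0 := by linear_combination t * e1 - e2
  exact mul_ne_zero hne' (mul_ne_zero hbe (left_ne_zero_of_mul hgt')) this

end Groth.L14.Cubic.Section
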