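import Groth.Agent.L14.Cubic.NonT
import Groth.Agent.L14.Cubic.Section

/-!
A polynomial criterion for a point to have non-split tangent section.
-/

open MvPolynomial Module

namespace Groth.L14.Cubic

variable {k K : Type*} [Field k] [Field K] [Algebra k K]

/-- The trilinear form on polynomial vectors. -/
noncomputable def polyTri (F : MvPolynomial (Fin 4) k) (u v w : Fin 4 → MvPolynomial (Fin 4) k) :
    MvPolynomial (Fin 4) k :=
  ∑ i, ∑ j, ∑ l, C (coef F i j l) * (u i * (v j * w l))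

theorem aeval_polyTri (F : MvPolynomial (Fin 4) k) (u v w : Fin 4 → MvPolynomial (Fin 4) k) (b : Fin 4 → K) :
    aeval b (polyTri F u v w) = tri (MvPolynomial.map (algebraMap k K) F) (fun i => aeval b (u i))
      (fun i => aeval b (v i)) (fun i => aeval b (w i)) := by
  rw [tri_apply]
  simp [polyTri, coef_map, map_sum]

/-- Rows of the matrix testing whether `q` divides `c`. -/
def critRows {S : Type*} [CommRing S] (b0 b1 b2 c0 c1 c2 c3 : S) : Fin 4 → Fin 3 → S :=
  ![![b0, 0, c0], ![2 * b1, b0, 3 * c1], ![b2, 2 * b1, 3 * c2], ![0, b2, c3]]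

/-- Maximal minors. -/
def critMinor {S : Type*} [CommRing S] (b0 b1 b2 c0 c1 c2 c3 : S) (r : Fin 4) : S :=
  Section.det3 (critRows b0 b1 b2 c0 c1 c2 c3 (r.succAbove 0)) (critRows b0 b1 b2 c0 c1 c2 c3 (r.succAbove 1))
    (critRows b0 b1 b2 c0 c1 c2 c3 (r.succAbove 2))

theorem map_critMinor {S S' : Type*} [CommRing S] [CommRing S'] (f : S →+* S') (b0 b1 b2 c0 c1 c2 c3 : S)
    (r : Fin 4) : f (critMinor b0 b1 b2 c0 c1 c2 c3 r) =
      critMinor (f b0) (f b1) (f b2) (f c0) (f c1) (f c2) (f c3) r := by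
  have : ∀ i j, f (critRows b0 b1 b2 c0 c1 c2 c3 i j) =
      critRows (f b0) (f b1) (f b2) (f c0) (f c1) (f c2) (f c3) i j := fun i j => by
    fin_cases i <;> fin_cases j <;> simp [critRows, map_ofNat]
  simp [critMinor, Section.det3, this]

variable [CharZero K] {F : MvPolynomial (Fin 4) K}

theorem CubicNC.critMinor_eq_zero (h : CubicNC F) {b z e e' : Fin 4 → K} (hb : tri F b b b = 0)
    (hz : tri F b b z ≠ 0) (hs : SplitAt F b) (he : tri F b b e = 0) (he' : tri F b b e' = 0) (r : Fin 4) :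
    critMinor (tri F b e e) (tri F b e e') (tri F b e' e') (tri F e e e) (tri F e e e') (tri F e e' e')
      (tri F e' e' e') r = 0 := by
  have hT := tri_sym3 F
  obtain ⟨R₀, R₁, R₂, h0, h1, hR⟩ := h.split_data hb hz hs
  obtain ⟨c0', q0⟩ := hR e he
  obtain ⟨c3', q2⟩ := hR e' he'
  obtain ⟨cp, qp⟩ := hR ((1 : K) • e + (1 : K) • e') (by simp [he, he'])
  obtain ⟨cm, qm⟩ := hR ((1 : K) • e + (-1 : K) • e') (by simp [he, he'])
  rw [hT.expand] at cp cm
  simp only [map_add, map_smul, LinearMap.add_apply, LinearMap.smul_apply, smul_eq_mul, hT.s23 b e' e] at qp qm cp cm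
  by_cases h2 : R₂ b = 0
  · have b0 : tri F b e e = 0 := by linear_combination q0 / 3 + (R₀ e * R₁ e / 3) * h2
    have b2 : tri F b e' e' = 0 := by linear_combination q2 / 3 + (R₀ e' * R₁ e' / 3) * h2
    have b1 : tri F b e e' = 0 := by
      rw [h2] at qp
      linear_combination qp / 6 - b0 / 2 - b2 / 2
    rw [b0, b1, b2]
    fin_cases r <;> simp [critMinor, critRows, Section.det3, Fin.succAbove]
  obtain ⟨α, hα⟩ : ∃ α, α * R₂ b = 3 * R₂ e := ⟨3 * R₂ e / R₂ b, by field_simp⟩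
  obtain ⟨β, hβ⟩ : ∃ β, β * R₂ b = 3 * R₂ e' := ⟨3 * R₂ e' / R₂ b, by field_simp⟩
  have g0 : tri F e e e = α * tri F b e e := by
    linear_combination c0' - (α / 3) * q0 - (R₀ e * R₁ e / 3) * hα
  have g3 : tri F e' e' e' = β * tri F b e' e' := by
    linear_combination c3' - (β / 3) * q2 - (R₀ e' * R₁ e' / 3) * hβ
  have g1 : 3 * tri F e e e' = α * (2 * tri F b e e') + β * tri F b e e := by
    linear_combination (1 / 2 : K) * cp - (1 / 2 : K) * cm - c3' - (α / 6) * qp + (α / 6) * qm - (β / 3) * q0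
      - (R₀ e * R₁ e' + R₀ e' * R₁ e) / 3 * hα - R₀ e * R₁ e / 3 * hβ
  have g2 : 3 * tri F e e' e' = α * tri F b e' e' + β * (2 * tri F b e e') := by
    linear_combination (1 / 2 : K) * cp + (1 / 2 : K) * cm - c0' - (β / 6) * qp + (β / 6) * qm - (α / 3) * q2
      - (R₀ e * R₁ e' + R₀ e' * R₁ e) / 3 * hβ - R₀ e' * R₁ e' / 3 * hα
  fin_cases r <;> simp [critMinor, critRows, Section.det3, Fin.succAbove, g0, g1, g2, g3] <;> ring

theorem exists_critMinor_ne_zero [IsAlgClosed K] {b e e' z : Fin 4 → K}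
    (hb : tri F b b b = 0) (he : tri F b b e = 0) (he' : tri F b b e' = 0) (hz : tri F b b z ≠ 0)
    (hli : LinearIndependent K ![b, e, e', z]) (hns : ¬ SplitAt F b) :
    ∃ r, critMinor (tri F b e e) (tri F b e e') (tri F b e' e') (tri F e e e) (tri F e e e') (tri F e e' e')
      (tri F e' e' e') r ≠ 0 := by
  by_contra hc
  push Not at hc
  have hT := tri_sym3 F
  set b0 := tri F b e e with hb0
  set b1 := tri F b e e' with hb1
  set b2 := tri F b e' e' with hb2
  set c0 := tri F e e e with hc0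
  set c1 := tri F e e e' with hc1
  set c2 := tri F e e' e' with hc2
  set c3 := tri F e' e' e' with hc3
  have m0 := hc 0
  have m1 := hc 1
  have m2 := hc 2
  have m3 := hc 3
  simp [critMinor, critRows, Section.det3, Fin.succAbove] at m0 m1 m2 m3
  let bb := basisOfLinearIndependentOfCardEqFinrank hli (by simp)
  have hbb : ∀ i, bb i = ![b, e, e', z] i := fun i => by simp [bb, coe_basisOfLinearIndependentOfCardEqFinrank]
  have hdec : ∀ x, x = bb.coord 0 x • b + bb.coord 1 x • e + bb.coord 2 x • e' + bb.coord 3 x • z := fun x => by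
    conv_lhs => rw [← bb.sum_repr x]
    simp only [Fin.sum_univ_four, hbb, Matrix.cons_val_zero, Matrix.cons_val_one, Matrix.cons_val, Basis.coord_apply]
  have hco : ∀ x, tri F b b x = 0 → bb.coord 3 x = 0 := fun x hx => by
    rw [hdec x] at hx
    simpa [hb, he, he', hz] using hx
  have hF : ∀ x, tri F b b x = 0 → tri F x x x =
      3 * bb.coord 0 x * (b0 * bb.coord 1 x ^ 2 + 2 * b1 * bb.coord 1 x * bb.coord 2 x + b2 * bb.coord 2 x ^ 2) +
      (c0 * bb.coord 1 x ^ 3 + 3 * c1 * bb.coord 1 x ^ 2 * bb.coord 2 x + 3 * c2 * bb.coord 1 x * bb.coord 2 x ^ 2 +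
        c3 * bb.coord 2 x ^ 3) := by
    intro x hx
    conv_lhs => rw [hdec x, hco x hx, zero_smul, add_zero, add_assoc,
      ← one_smul K (bb.coord 1 x • e + bb.coord 2 x • e'), hT.expand, hT.expand (bb.coord 1 x) (bb.coord 2 x)]
    simp only [map_add, map_smul, LinearMap.add_apply, LinearMap.smul_apply, smul_eq_mul, hb, he, he',
      hT.s23 b e' e, ← hb0, ← hb1, ← hb2, ← hc0, ← hc1, ← hc2, ← hc3]
    ring
  have split : ∀ α β : K, c0 = α * b0 → 3 * c1 = α * (2 * b1) + β * b0 → 3 * c2 = α * b2 + β * (2 * b1) →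
      c3 = β * b2 → False := by
    intro α β g0 g1 g2 g3
    obtain ⟨r, r', s, s', hs⟩ := quad_split b2 (2 * b1) b0
    refine hns ⟨(3 : K) • bb.coord 0 + α • bb.coord 1 + β • bb.coord 2, r • bb.coord 1 + r' • bb.coord 2,
      s • bb.coord 1 + s' • bb.coord 2, fun x hx => ?_⟩
    rw [hF x hx]
    simp only [LinearMap.add_apply, LinearMap.smul_apply, smul_eq_mul]
    linear_combination (3 * bb.coord 0 x + α * bb.coord 1 x + β * bb.coord 2 x) * hs (bb.coord 1 x) (bb.coord 2 x)
      + bb.coord 1 x ^ 3 * g0 + bb.coord 1 x ^ 2 * bb.coord 2 x * g1 + bb.coord 1 x * bb.coord 2 x ^ 2 * g2 +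
      bb.coord 2 x ^ 3 * g3
  by_cases h0 : b0 = 0
  · by_cases h2 : b2 = 0
    · by_cases h1 : b1 = 0
      · obtain ⟨r, r', s, s', u, u', hs⟩ := cubic_split c3 (3 * c2) (3 * c1) c0
        refine hns ⟨r • bb.coord 1 + r' • bb.coord 2, s • bb.coord 1 + s' • bb.coord 2,
          u • bb.coord 1 + u' • bb.coord 2, fun x hx => ?_⟩
        rw [hF x hx, h0, h1, h2]
        simp only [LinearMap.add_apply, LinearMap.smul_apply, smul_eq_mul]
        linear_combination hs (bb.coord 1 x) (bb.coord 2 x)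
      · simp [h0, h2, h1] at m0 m1 m2 m3
        exact split (3 * c1 / (2 * b1)) (3 * c2 / (2 * b1)) (by simp [h0, m3]) (by rw [h0]; field_simp; ring)
          (by rw [h2]; field_simp; ring) (by simp [h2, m0])
    · obtain ⟨β, g3⟩ : ∃ β, c3 = β * b2 := ⟨c3 / b2, by field_simp⟩
      obtain ⟨α, g2⟩ : ∃ α, 3 * c2 = α * b2 + β * (2 * b1) := ⟨(3 * c2 - β * (2 * b1)) / b2, by field_simp; ring⟩
      refine split α β ?_ ?_ g2 g3
      · refine mul_left_cancel₀ (pow_ne_zero 2 h2) ?_
        rw [g2, g3] at m1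
        linear_combination m1
      · refine mul_left_cancel₀ (pow_ne_zero 2 h2) ?_
        rw [g2, g3] at m0
        linear_combination m0
  · obtain ⟨α, g0⟩ : ∃ α, c0 = α * b0 := ⟨c0 / b0, by field_simp⟩
    obtain ⟨β, g1⟩ : ∃ β, 3 * c1 = α * (2 * b1) + β * b0 := ⟨(3 * c1 - α * (2 * b1)) / b0, by field_simp; ring⟩
    refine split α β g0 g1 ?_ ?_
    · refine mul_left_cancel₀ (pow_ne_zero 2 h0) ?_
      rw [g0, g1] at m3
      linear_combination m3
    · refine mul_left_cancel₀ (pow_ne_zero 2 h0) ?_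
      rw [g0, g1] at m2
      linear_combination m2

omit [CharZero K] in
theorem exists_dual_of_homogeneous {L : MvPolynomial (Fin 4) K} (hL : L.IsHomogeneous 1) :
    ∃ R : (Fin 4 → K) →ₗ[K] K, ∀ x, eval x L = R x := by
  have hd : ∀ i, ∃ c, pderiv i L = C c := fun i =>
    ⟨_, totalDegree_eq_zero_iff_eq_C.mp ((totalDegree_zero_iff_isHomogeneous _).mpr hL.pderiv)⟩
  choose c hc using hd
  refine ⟨∑ i, c i • LinearMap.proj i, fun x => ?_⟩
  have := euler_eval hL x
  simp only [hc, eval_C, Nat.cast_one, one_mul] at this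
  rw [← this]
  simp [mul_comm]

end Groth.L14.Cubic
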