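import Groth.Agent.L14.Cubic.Polar
import Mathlib.LinearAlgebra.FiniteDimensional.Lemmas
import Mathlib.LinearAlgebra.Dimension.RankNullity
import Mathlib.LinearAlgebra.Matrix.ToLin

/-!
Eckardt points of a smooth cubic surface and the involutions attached to them.
-/

open Module

namespace Groth.L14.Cubic

variable {V : Type*} [AddCommGroup V] [Module ℂ V]

/-- A smooth symmetric trilinear form on a four dimensional space. -/
structure Surf (T : V →ₗ[ℂ] V →ₗ[ℂ] V →ₗ[ℂ] ℂ) : Prop where
  s12 : ∀ u v w, T u v w = T v u w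
  s23 : ∀ u v w, T u v w = T u w v
  dim : finrank ℂ V = 4
  smooth : ∀ v, v ≠ 0 → (∀ u, T v v u = 0) → False

variable (T : V →ₗ[ℂ] V →ₗ[ℂ] V →ₗ[ℂ] ℂ)

/-- Three distinct lines through the point. -/
def Eck (p : V) : Prop :=
  ∃ U : Fin 3 → Submodule ℂ V, Function.Injective U ∧
    ∀ i : Fin 3, finrank ℂ ↥(U i) = 2 ∧ p ∈ U i ∧ ∀ u ∈ U i, T u u u = 0

/-- The polar quadric of the point is the product of the tangent form with `L`. -/
def IsPolar (L : V →ₗ[ℂ] ℂ) (p : V) : Prop :=
  L p = 2 ∧ ∀ w, T p w w = L w * T p p w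

/-- Reflection. -/
def refl (L : V →ₗ[ℂ] ℂ) (p : V) : V →ₗ[ℂ] V := LinearMap.id - L.smulRight p

theorem refl_apply (L : V →ₗ[ℂ] ℂ) (p w : V) : refl L p w = w - L w • p := by simp [refl]

theorem refl_self {L : V →ₗ[ℂ] ℂ} {p : V} (h : L p = 2) : refl L p p = -p := by
  rw [refl_apply, h]; module

theorem refl_refl {L : V →ₗ[ℂ] ℂ} {p : V} (h : L p = 2) (w : V) : refl L p (refl L p w) = w := by
  simp only [refl_apply, map_sub, map_smul, h, smul_eq_mul]
  module

theorem finrank_ker_refl [FiniteDimensional ℂ V] {L : V →ₗ[ℂ] ℂ} {p : V} (h : L p = 2) (hd : finrank ℂ V = 4) :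
    finrank ℂ ↥(LinearMap.ker (refl L p - LinearMap.id)) = 3 := by
  have hp : p ≠ 0 := by rintro rfl; simp at h
  have hk : LinearMap.ker (refl L p - LinearMap.id) = LinearMap.ker L := by
    ext w; simp [refl_apply, hp]
  have hL : L ≠ 0 := by rintro rfl; simp at h
  rw [hk]
  have := L.finrank_range_add_finrank_ker
  rw [LinearMap.range_eq_top.mpr (LinearMap.surjective hL), finrank_top, finrank_self, hd] at this
  omega

theorem exists_quad_root {a b c : ℂ} (ha : a ≠ 0) : ∃ t : ℂ, a * (t * t) + b * t + c = 0 := by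
  obtain ⟨s, hs⟩ := IsAlgClosed.exists_eq_mul_self (discrim a b c)
  exact exists_quadratic_eq_zero ha ⟨s, hs⟩

theorem exists_cubic_root {a b c d : ℂ} (ha : a ≠ 0) :
    ∃ t : ℂ, a * t ^ 3 + b * t ^ 2 + c * t + d = 0 := by
  open Polynomial in
  obtain ⟨t, ht⟩ := IsAlgClosed.exists_root (C a * X ^ 3 + C b * X ^ 2 + C c * X + C d) (by
    rw [Polynomial.degree_cubic ha]; decide)
  exact ⟨t, by simpa [Polynomial.IsRoot] using ht⟩

namespace Surf

variable {T} (hT : Surf T)
include hT

theorem finDim : FiniteDimensional ℂ V := Module.finite_of_finrank_pos (by rw [hT.dim]; norm_num)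

theorem r1 (a b : V) : T b a a = T a a b := by rw [hT.s12 b a a, hT.s23 a b a]

theorem r2 (a b : V) : T a b a = T a a b := hT.s23 a b a

theorem expand (a b : ℂ) (x y : V) :
    T (a • x + b • y) (a • x + b • y) (a • x + b • y) =
      a ^ 3 * T x x x + 3 * a ^ 2 * b * T x x y + 3 * a * b ^ 2 * T x y y + b ^ 3 * T y y y := by
  simp only [map_add, map_smul, LinearMap.add_apply, LinearMap.smul_apply, smul_eq_mul]
  rw [hT.r1 x y, hT.r2 x y, hT.r2 y x, hT.r1 y x]
  ring

theorem expand2 (a b : ℂ) (x y u : V) :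
    T (a • x + b • y) (a • x + b • y) u =
      a ^ 2 * T x x u + 2 * a * b * T x y u + b ^ 2 * T y y u := by
  simp only [map_add, map_smul, LinearMap.add_apply, LinearMap.smul_apply, smul_eq_mul]
  rw [hT.s12 y x u]
  ring

theorem exists_linear (v : V) (hv : v ≠ 0) : ∃ u, T v v u = 1 := by
  by_contra hne
  push Not at hne
  refine hT.smooth v hv fun u => ?_
  by_contra hu
  exact hne ((T v v u)⁻¹ • u) (by rw [map_smul, smul_eq_mul, inv_mul_cancel₀ hu])

/-- A hyperplane is not contained in the surface. -/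
theorem hyperplane {L : V →ₗ[ℂ] ℂ} {p : V} (hL : L p ≠ 0) (h : ∀ v, L v = 0 → T v v v = 0) : False := by
  haveI := hT.finDim
  have hk : 3 ≤ finrank ℂ ↥(LinearMap.ker L) := by
    have := L.finrank_range_add_finrank_ker
    have h1 : finrank ℂ ↥(LinearMap.range L) ≤ 1 := le_trans (Submodule.finrank_le _) (by rw [finrank_self])
    rw [hT.dim] at this
    omega
  let b := Module.finBasis ℂ ↥(LinearMap.ker L)
  have hind := b.linearIndependent
  set x : V := (b ⟨0, by omega⟩ : V) with hx
  set y : V := (b ⟨1, by omega⟩ : V) with hy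
  have hx0 : L x = 0 := LinearMap.mem_ker.mp (b _).2
  have hy0 : L y = 0 := LinearMap.mem_ker.mp (b _).2
  have hxy : ∀ a c : ℂ, a • x + c • y = 0 → a = 0 ∧ c = 0 := by
    intro a c hac
    have h1 : LinearIndependent ℂ ![b ⟨0, by omega⟩, b ⟨1, by omega⟩] := by
      have := hind.comp ![(⟨0, by omega⟩ : Fin (finrank ℂ ↥(LinearMap.ker L))), ⟨1, by omega⟩]
        (by intro i j hij; fin_cases i <;> fin_cases j <;> simp_all)
      convert this using 1
      ext i; fin_cases i <;> rfl
    exact LinearIndependent.pair_iff.mp h1 a c (Subtype.ext (by simpa [hx, hy] using hac))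
  obtain ⟨v, hv, hv0, hvp⟩ : ∃ v, L v = 0 ∧ v ≠ 0 ∧ T v v p = 0 := by
    by_cases hyp : T y y p = 0
    · refine ⟨y, hy0, fun hh => ?_, hyp⟩
      exact one_ne_zero (hxy 0 1 (by simp [hh])).2
    · obtain ⟨t, ht⟩ := exists_quad_root (a := T y y p) (b := 2 * T x y p) (c := T x x p) hyp
      refine ⟨(1 : ℂ) • x + t • y, by simp [hx0, hy0], fun hh => one_ne_zero (hxy 1 t hh).1, ?_⟩
      rw [hT.expand2]
      linear_combination ht
  refine hT.smooth v hv0 fun u => ?_
  have hker : ∀ u, L u = 0 → T v v u = 0 := by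
    intro u hu
    have h1 := h ((1 : ℂ) • v + (1 : ℂ) • u) (by simp [hv, hu])
    have h2 := h ((1 : ℂ) • v + (-1 : ℂ) • u) (by simp [hv, hu])
    rw [hT.expand] at h1 h2
    linear_combination h1 / 6 - h2 / 6 - (h u hu) / 3
  have h3 := hker (u - (L u / L p) • p) (by simp [div_mul_cancel₀ _ hL])
  simpa [hvp] using h3

theorem expand_refl (L : V →ₗ[ℂ] ℂ) (p w : V) :
    T (refl L p w) (refl L p w) (refl L p w) =
      T w w w - 3 * L w * T p w w + 3 * L w ^ 2 * T p p w - L w ^ 3 * T p p p := by
  have h := hT.expand 1 (-L w) w p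
  rw [one_smul, neg_smul, ← sub_eq_add_neg, ← refl_apply] at h
  rw [h, hT.r1 w p, show T w p p = T p p w from hT.r1 p w]
  ring

theorem point_zero {L : V →ₗ[ℂ] ℂ} {p : V} (hP : IsPolar T L p) : T p p p = 0 := by
  have := hP.2 p
  rw [hP.1] at this
  linear_combination -this

theorem polar_preserves {L : V →ₗ[ℂ] ℂ} {p : V} (hP : IsPolar T L p) (w : V) :
    T (refl L p w) (refl L p w) (refl L p w) = T w w w := by
  rw [hT.expand_refl, hP.2 w, hT.point_zero hP]
  ring

theorem polar_of_preserves {L : V →ₗ[ℂ] ℂ} {p : V} (hLp : L p = 2) (c : ℂ)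
    (h : ∀ w, T (refl L p w) (refl L p w) (refl L p w) = c * T w w w) : IsPolar T L p ∧ c = 1 := by
  have hc : c = 1 := by
    by_contra hc
    refine hT.hyperplane (L := L) (p := p) (by rw [hLp]; norm_num) fun v hv => ?_
    have := h v
    rw [refl_apply, hv, zero_smul, sub_zero] at this
    have h0 : (c - 1) * T v v v = 0 := by linear_combination -this
    exact (mul_eq_zero.mp h0).resolve_left (sub_ne_zero.mpr hc)
  subst hc
  have hp : T p p p = 0 := by
    have := h p
    rw [refl_self hLp] at this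
    simp only [map_neg, LinearMap.neg_apply] at this
    linear_combination -this / 2
  have hw : ∀ w, L w * (L w * T p p w - T p w w) = 0 := by
    intro w
    have := h w
    rw [hT.expand_refl, hp] at this
    linear_combination this / 3
  refine ⟨⟨hLp, fun w => ?_⟩, rfl⟩
  by_cases h0 : L w = 0
  · have := hw ((1 : ℂ) • w + (1 : ℂ) • p)
    simp only [map_add, map_smul, LinearMap.add_apply, LinearMap.smul_apply, h0, hLp, hp, smul_eq_mul,
      hT.r2 p w] at this
    rw [h0]
    linear_combination -this / 2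
  · exact (sub_eq_zero.mp ((mul_eq_zero.mp (hw w)).resolve_left h0)).symm

theorem polar_unique {L L' : V →ₗ[ℂ] ℂ} {p : V} (h : IsPolar T L p) (h' : IsPolar T L' p) : L = L' := by
  have hp : p ≠ 0 := by rintro rfl; simpa using h.1
  obtain ⟨z, hz⟩ := hT.exists_linear p hp
  have e : ∀ w, (L w - L' w) * T p p w = 0 := fun w => by linear_combination h'.2 w - h.2 w
  refine LinearMap.ext fun w => ?_
  have hzz : L z = L' z := by
    have := e z
    rw [hz, mul_one, sub_eq_zero] at this
    exact this
  by_cases h0 : T p p w = 0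
  · have := e (w + z)
    simp only [map_add, h0, hz] at this
    linear_combination this - hzz
  · exact sub_eq_zero.mp ((mul_eq_zero.mp (e w)).resolve_right h0)

theorem polar_smul {L : V →ₗ[ℂ] ℂ} {p : V} (h : IsPolar T L p) {k : ℂ} (hk : k ≠ 0) :
    IsPolar T (k⁻¹ • L) (k • p) := by
  refine ⟨?_, fun w => ?_⟩
  · simp only [map_smul, LinearMap.smul_apply, h.1, smul_eq_mul]
    field_simp
  · simp only [map_smul, LinearMap.smul_apply, smul_eq_mul]
    rw [h.2 w]
    field_simp

theorem polar_bilin {L : V →ₗ[ℂ] ℂ} {p : V} (h : IsPolar T L p) (x y : V) :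
    2 * T p x y = L x * T p p y + L y * T p p x := by
  have h1 := h.2 (x + y)
  simp only [map_add, LinearMap.add_apply] at h1
  rw [hT.s23 p y x, h.2 x, h.2 y] at h1
  linear_combination h1

theorem exists_polar_of_eck {p : V} (hp : p ≠ 0) (hE : Eck T p) : ∃ L, IsPolar T L p := by
  haveI := hT.finDim
  obtain ⟨U, hinj, hU⟩ := hE
  have hp0 : T p p p = 0 := (hU 0).2.2 p (hU 0).2.1
  have hline : ∀ i, ∀ u ∈ U i, T p p u = 0 ∧ T p u u = 0 := by
    intro i u hu
    have h0 := (hU i).2.2 u hu
    have hmem : ∀ a : ℂ, (1 : ℂ) • p + a • u ∈ U i := fun a =>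
      add_mem ((U i).smul_mem _ (hU i).2.1) ((U i).smul_mem _ hu)
    have h1 := (hU i).2.2 _ (hmem 1)
    have h2 := (hU i).2.2 _ (hmem (-1))
    rw [hT.expand, hp0, h0] at h1 h2
    exact ⟨by linear_combination h1 / 6 - h2 / 6, by linear_combination h1 / 6 + h2 / 6⟩
  have hmk : ∀ i, ∃ u ∈ U i, u ∉ ℂ ∙ p := by
    intro i
    by_contra hne
    push Not at hne
    have := Submodule.finrank_mono hne
    rw [(hU i).1, finrank_span_singleton hp] at this
    omega
  choose u hu hup using hmk
  have hspan : ∀ i, U i = Submodule.span ℂ {p, u i} := by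
    intro i
    symm
    refine Submodule.eq_of_le_of_finrank_eq
      (Submodule.span_le.mpr (Set.insert_subset (hU i).2.1 (Set.singleton_subset_iff.mpr (hu i)))) ?_
    rw [(hU i).1]
    have hli : LinearIndependent ℂ ![p, u i] := by
      rw [LinearIndependent.pair_iff' hp]
      intro a ha
      exact hup i (ha ▸ Submodule.smul_mem _ _ (Submodule.mem_span_singleton_self p))
    have := finrank_span_eq_card hli
    rw [show ({p, u i} : Set V) = Set.range ![p, u i] by ext x; simp [eq_comm, or_comm]]
    rw [this, Fintype.card_fin]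
  let D := T p p
  obtain ⟨z, hz⟩ := hT.exists_linear p hp
  have hli : LinearIndependent ℂ ![p, u 0, u 1] := by
    rw [Fintype.linearIndependent_iff]
    intro g hg
    simp only [Fin.sum_univ_three, Matrix.cons_val_zero, Matrix.cons_val_one, Matrix.cons_val] at hg
    have hg2 : g 2 = 0 := by
      by_contra hne
      have hmem : u 1 ∈ U 0 := by
        have : u 1 = -(g 2)⁻¹ • (g 0 • p + g 1 • u 0) := by
          rw [eq_neg_of_add_eq_zero_left hg, neg_smul, smul_neg, neg_neg, inv_smul_smul₀ hne]
        rw [this]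
        exact (U 0).smul_mem _ (add_mem ((U 0).smul_mem _ (hU 0).2.1) ((U 0).smul_mem _ (hu 0)))
      have : U 1 = U 0 := by
        refine Submodule.eq_of_le_of_finrank_eq ?_ (by rw [(hU 1).1, (hU 0).1])
        rw [hspan 1]
        exact Submodule.span_le.mpr (Set.insert_subset (hU 0).2.1 (Set.singleton_subset_iff.mpr hmem))
      exact absurd (hinj this) (by decide)
    rw [hg2, zero_smul, add_zero] at hg
    have hg1 : g 1 = 0 := by
      by_contra hne
      apply hup 0
      have : u 0 = (-(g 1)⁻¹ * g 0) • p := by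
        rw [mul_smul, eq_neg_of_add_eq_zero_left hg, neg_smul, smul_neg, neg_neg, inv_smul_smul₀ hne]
      rw [this]
      exact Submodule.smul_mem _ _ (Submodule.mem_span_singleton_self p)
    rw [hg1, zero_smul, add_zero, smul_eq_zero] at hg
    intro i
    fin_cases i
    · exact hg.resolve_right hp
    · exact hg1
    · exact hg2
  set K := Submodule.span ℂ (Set.range ![p, u 0, u 1]) with hK
  have hKD : K = LinearMap.ker D := by
    refine Submodule.eq_of_le_of_finrank_eq (Submodule.span_le.mpr ?_) ?_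
    · rintro _ ⟨i, rfl⟩
      fin_cases i
      · exact hp0
      · exact (hline 0 _ (hu 0)).1
      · exact (hline 1 _ (hu 1)).1
    · rw [hK, finrank_span_eq_card hli, Fintype.card_fin]
      have := D.finrank_range_add_finrank_ker
      rw [LinearMap.range_eq_top.mpr (LinearMap.surjective (f := D) fun h => by
        have := LinearMap.congr_fun h z; simp only [D, hz, LinearMap.zero_apply] at this; exact one_ne_zero this),
        finrank_top, finrank_self, hT.dim] at this
      omega
  obtain ⟨g, hg⟩ := (Submodule.mem_span_range_iff_exists_fun ℂ).mp (show u 2 ∈ K by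
    rw [hKD]; exact (hline 2 _ (hu 2)).1)
  simp only [Fin.sum_univ_three, Matrix.cons_val_zero, Matrix.cons_val_one, Matrix.cons_val] at hg
  have hg1 : g 1 ≠ 0 := by
    intro h0
    have hmem : u 2 ∈ U 1 := by
      rw [← hg, h0, zero_smul, add_zero]
      exact add_mem ((U 1).smul_mem _ (hU 1).2.1) ((U 1).smul_mem _ (hu 1))
    have : U 2 = U 1 := by
      refine Submodule.eq_of_le_of_finrank_eq ?_ (by rw [(hU 2).1, (hU 1).1])
      rw [hspan 2]
      exact Submodule.span_le.mpr (Set.insert_subset (hU 1).2.1 (Set.singleton_subset_iff.mpr hmem))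
    exact absurd (hinj this) (by decide)
  have hg2 : g 2 ≠ 0 := by
    intro h0
    have hmem : u 2 ∈ U 0 := by
      rw [← hg, h0, zero_smul, add_zero]
      exact add_mem ((U 0).smul_mem _ (hU 0).2.1) ((U 0).smul_mem _ (hu 0))
    have : U 2 = U 0 := by
      refine Submodule.eq_of_le_of_finrank_eq ?_ (by rw [(hU 2).1, (hU 0).1])
      rw [hspan 2]
      exact Submodule.span_le.mpr (Set.insert_subset (hU 0).2.1 (Set.singleton_subset_iff.mpr hmem))
    exact absurd (hinj this) (by decide)
  have hpp : ∀ x, T p x p = T p p x := fun x => hT.r2 p x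
  have h01 : T p (u 0) (u 1) = 0 := by
    have h2 := (hline 2 _ (hu 2)).2
    rw [← hg] at h2
    simp only [map_add, map_smul, LinearMap.add_apply, LinearMap.smul_apply, smul_eq_mul, hpp, hp0,
      (hline 0 _ (hu 0)).1, (hline 1 _ (hu 1)).1, (hline 0 _ (hu 0)).2, (hline 1 _ (hu 1)).2,
      hT.s23 p (u 1) (u 0)] at h2
    have : (g 1 * g 2) * T p (u 0) (u 1) = 0 := by linear_combination h2 / 2
    exact (mul_eq_zero.mp this).resolve_left (mul_ne_zero hg1 hg2)
  have hzero : ∀ x ∈ K, T p x x = 0 := by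
    intro x hx
    obtain ⟨a, rfl⟩ := (Submodule.mem_span_range_iff_exists_fun ℂ).mp hx
    simp only [Fin.sum_univ_three, Matrix.cons_val_zero, Matrix.cons_val_one, Matrix.cons_val,
      map_add, map_smul, LinearMap.add_apply, LinearMap.smul_apply, smul_eq_mul, hpp, hp0,
      (hline 0 _ (hu 0)).1, (hline 1 _ (hu 1)).1, (hline 0 _ (hu 0)).2, (hline 1 _ (hu 1)).2,
      hT.s23 p (u 1) (u 0), h01, mul_zero, add_zero]
  refine ⟨2 • (T p).flip z - T p z z • D, ?_, fun w => ?_⟩
  · simp only [LinearMap.sub_apply, LinearMap.smul_apply, LinearMap.flip_apply, D, hp0, hz, smul_eq_mul,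
      nsmul_eq_mul]
    simp
  · have h1 := hzero (w - D w • z) (by
      rw [hKD, LinearMap.mem_ker, map_sub, map_smul, show D z = 1 from hz, smul_eq_mul, mul_one, sub_self])
    simp only [map_sub, map_smul, LinearMap.sub_apply, LinearMap.smul_apply, smul_eq_mul, hT.s23 p z w] at h1
    simp only [LinearMap.sub_apply, LinearMap.smul_apply, LinearMap.flip_apply, D, smul_eq_mul,
      nsmul_eq_mul] at h1 ⊢
    push_cast
    linear_combination h1

theorem eck_of_polar {L : V →ₗ[ℂ] ℂ} {p : V} (hP : IsPolar T L p) : Eck T p := by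
  haveI := hT.finDim
  have hp : p ≠ 0 := by rintro rfl; simpa using hP.1
  have hp0 : T p p p = 0 := hT.point_zero hP
  obtain ⟨z, hz⟩ := hT.exists_linear p hp
  set D := T p p with hD
  set K := LinearMap.ker (D.prod L) with hK
  have memK : ∀ x, x ∈ K ↔ D x = 0 ∧ L x = 0 := fun x => by simp [hK, LinearMap.ker_prod]
  have hsurj : Function.Surjective (D.prod L) := by
    rintro ⟨a, b⟩
    refine ⟨a • z + ((b - a * L z) / 2) • p, ?_⟩
    simp [hz, hP.1, hp0]
  have hKdim : finrank ℂ ↥K = 2 := by
    have := (D.prod L).finrank_range_add_finrank_ker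
    rw [LinearMap.range_eq_top.mpr hsurj, finrank_top, Module.finrank_prod, finrank_self, hT.dim] at this
    rw [hK]
    omega
  have hdbl : ∀ v ∈ K, v ≠ 0 → (∀ u ∈ K, T v v u = 0) → False := by
    intro v hv hv0 hvu
    obtain ⟨hvD, hvL⟩ := (memK v).mp hv
    obtain ⟨t, ht⟩ := exists_quad_root (a := (1 : ℂ)) (b := 2 * T p v z) (c := T v v z) one_ne_zero
    refine hT.smooth ((1 : ℂ) • v + t • p) ?_ fun u => ?_
    · intro h0
      apply hv0
      have := congrArg L h0
      simp [hvL, hP.1] at this
      simpa [this] using h0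
    · have hu : u = D u • z + ((L u - D u * L z) / 2) • p +
          (u - D u • z - ((L u - D u * L z) / 2) • p) := by abel
      set u' := u - D u • z - ((L u - D u * L z) / 2) • p with hu'
      have hu'K : u' ∈ K := by
        rw [memK, hu']
        constructor
        · simp [hz, hp0]
        · simp [hP.1]
      obtain ⟨hu'D, hu'L⟩ := (memK u').mp hu'K
      have e1 : T ((1 : ℂ) • v + t • p) ((1 : ℂ) • v + t • p) z = 0 := by
        rw [hT.expand2, hT.s12 v p z, hz]
        linear_combination ht
      have e2 : T ((1 : ℂ) • v + t • p) ((1 : ℂ) • v + t • p) p = 0 := by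
        rw [hT.expand2, hp0, show T v v p = T p v v from (hT.r1 v p).symm, hP.2 v, hvL,
          show T v p p = T p p v from hT.r1 p v, ← hD, hvD]
        ring
      have e3 : T ((1 : ℂ) • v + t • p) ((1 : ℂ) • v + t • p) u' = 0 := by
        have hb := hT.polar_bilin hP v u'
        rw [hvL, hu'L] at hb
        rw [hT.expand2, hvu u' hu'K, hT.s12 v p u', ← hD, hu'D]
        linear_combination t * hb
      rw [hu, map_add, map_add, map_smul, map_smul, e1, e2, e3]
      simp
  obtain ⟨y, hyK, hy⟩ : ∃ y ∈ K, T y y y ≠ 0 := by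
    by_contra hne
    push Not at hne
    have hbot : K ≠ ⊥ := by
      intro h; rw [h, finrank_bot] at hKdim; omega
    obtain ⟨v, hv, hv0⟩ := Submodule.exists_mem_ne_zero_of_ne_bot hbot
    refine hdbl v hv hv0 fun u hu => ?_
    have hmem : ∀ a : ℂ, (1 : ℂ) • v + a • u ∈ K := fun a => add_mem (K.smul_mem _ hv) (K.smul_mem _ hu)
    have h1 := hne _ (hmem 1)
    have h2 := hne _ (hmem (-1))
    rw [hT.expand, hne v hv, hne u hu] at h1 h2
    linear_combination h1 / 6 - h2 / 6
  have hy0 : y ≠ 0 := by rintro rfl; simp at hy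
  obtain ⟨x, hxK, hxy⟩ : ∃ x ∈ K, x ∉ ℂ ∙ y := by
    by_contra hne
    push Not at hne
    have := Submodule.finrank_mono hne
    rw [hKdim, finrank_span_singleton hy0] at this
    omega
  obtain ⟨r, hr⟩ := exists_cubic_root (a := T y y y) (b := 3 * T x y y) (c := 3 * T x x y) (d := T x x x) hy
  set v := x + r • y with hv
  have hvK : v ∈ K := add_mem hxK (K.smul_mem _ hyK)
  have hvy : ∀ a b : ℂ, a • v + b • y = 0 → a = 0 ∧ b = 0 := by
    intro a b hab
    have ha : a = 0 := by
      by_contra hne
      apply hxy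
      have : x = (-r - a⁻¹ * b) • y := by
        have h2 : a⁻¹ • (a • v + b • y) = 0 := by rw [hab, smul_zero]
        rw [smul_add, inv_smul_smul₀ hne, hv] at h2
        rw [sub_smul, neg_smul, mul_smul, ← sub_eq_zero, ← h2]
        abel
      rw [this]; exact Submodule.smul_mem _ _ (Submodule.mem_span_singleton_self y)
    rw [ha, zero_smul, zero_add, smul_eq_zero] at hab
    exact ⟨ha, hab.resolve_right hy0⟩
  have hli : LinearIndependent ℂ ![v, y] := LinearIndependent.pair_iff.mpr hvy
  have hKspan : Submodule.span ℂ (Set.range ![v, y]) = K := by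
    refine Submodule.eq_of_le_of_finrank_eq (Submodule.span_le.mpr ?_) ?_
    · rintro _ ⟨i, rfl⟩; fin_cases i <;> assumption
    · rw [finrank_span_eq_card hli, hKdim, Fintype.card_fin]
  have hv3 : T v v v = 0 := by
    rw [show v = (1 : ℂ) • x + r • y by rw [one_smul], hT.expand]
    linear_combination hr
  have hroot : ∀ w ∈ K, w ≠ 0 → T w w w = 0 → T w w y ≠ 0 ∨ T w w v ≠ 0 := by
    intro w hw hw0 hw3
    by_contra hne
    push Not at hne
    refine hdbl w hw hw0 fun u hu => ?_
    rw [← hKspan] at hu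
    obtain ⟨g, rfl⟩ := (Submodule.mem_span_range_iff_exists_fun ℂ).mp hu
    simp [Fin.sum_univ_two, hne.1, hne.2]
  have hv0 : v ≠ 0 := fun h => one_ne_zero (hvy 1 0 (by simp [h])).1
  have hA : T v v y ≠ 0 := (hroot v hvK hv0 hv3).resolve_right (not_not.mpr hv3)
  obtain ⟨s, hs⟩ := exists_quad_root (a := T y y y) (b := 3 * T v y y) (c := 3 * T v v y) hy
  set s' := -(3 * T v y y) / T y y y - s with hs'
  have hs2 : T y y y * (s' * s') + 3 * T v y y * s' + 3 * T v v y = 0 := by
    rw [hs']; field_simp; linear_combination T y y y * hs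
  have hval : ∀ t : ℂ, T y y y * (t * t) + 3 * T v y y * t + 3 * T v v y = 0 →
      t ≠ 0 ∧ T (v + t • y) (v + t • y) (v + t • y) = 0 := by
    intro t ht
    refine ⟨fun h0 => hA ?_, ?_⟩
    · rw [h0] at ht; linear_combination ht / 3
    · rw [show v + t • y = (1 : ℂ) • v + t • y by rw [one_smul], hT.expand, hv3]
      linear_combination t * ht
  have hne : s ≠ s' := by
    intro heq
    have hd : 2 * T y y y * s + 3 * T v y y = 0 := by
      have : T y y y * (s + s') = -(3 * T v y y) := by rw [hs']; field_simp; ring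
      rw [← heq] at this
      linear_combination this
    have hwK : v + s • y ∈ K := add_mem hvK (K.smul_mem _ hyK)
    have hw0 : v + s • y ≠ 0 := fun h => one_ne_zero (hvy 1 s (by simpa using h)).1
    have e1 : T (v + s • y) (v + s • y) y = 0 := by
      rw [show v + s • y = (1 : ℂ) • v + s • y by rw [one_smul], hT.expand2]
      linear_combination hs / 3 + s / 3 * hd
    have e2 := (hval s hs).2
    rw [map_add, map_smul, e1, smul_zero, add_zero] at e2
    exact ((hroot _ hwK hw0 (by rw [map_add, map_smul, e1, smul_zero, add_zero, e2])).elim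
      (fun h => h e1) (fun h => h e2))
  let w : Fin 3 → V := ![v, v + s • y, v + s' • y]
  have hwK : ∀ i, w i ∈ K := by
    intro i; fin_cases i
    · exact hvK
    · exact add_mem hvK (K.smul_mem _ hyK)
    · exact add_mem hvK (K.smul_mem _ hyK)
  have hw3 : ∀ i, T (w i) (w i) (w i) = 0 := by
    intro i; fin_cases i
    · exact hv3
    · exact (hval s hs).2
    · exact (hval s' hs2).2
  let c : Fin 3 → ℂ := ![0, s, s']
  have hwc : ∀ i, w i = v + c i • y := by
    intro i; fin_cases i <;> simp [w, c]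
  have hc : Function.Injective c := by
    intro i j hij
    fin_cases i <;> fin_cases j <;> simp [c] at hij <;> first
      | rfl
      | exact absurd hij (hval s hs).1
      | exact absurd hij.symm (hval s hs).1
      | exact absurd hij (hval s' hs2).1
      | exact absurd hij.symm (hval s' hs2).1
      | exact absurd hij hne
      | exact absurd hij.symm hne
  refine ⟨fun i => Submodule.span ℂ (Set.range ![p, w i]), ?_, fun i => ⟨?_, ?_, ?_⟩⟩
  · intro i j hij
    have hmem : w i ∈ Submodule.span ℂ (Set.range ![p, w j]) := by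
      rw [← show Submodule.span ℂ (Set.range ![p, w i]) = Submodule.span ℂ (Set.range ![p, w j]) from hij]
      exact Submodule.subset_span ⟨1, rfl⟩
    obtain ⟨g, hg⟩ := (Submodule.mem_span_range_iff_exists_fun ℂ).mp hmem
    simp only [Fin.sum_univ_two, Matrix.cons_val_zero, Matrix.cons_val_one] at hg
    have hL := congrArg L hg
    simp [hP.1, ((memK _).mp (hwK i)).2, ((memK _).mp (hwK j)).2] at hL
    rw [hL, zero_smul, zero_add, hwc, hwc] at hg
    have := hvy (g 1 - 1) (g 1 * c j - c i) (by linear_combination (norm := module) hg)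
    apply hc
    have h1 : g 1 = 1 := sub_eq_zero.mp this.1
    rw [h1, one_mul] at this
    exact (sub_eq_zero.mp this.2).symm
  · rw [finrank_span_eq_card, Fintype.card_fin]
    rw [LinearIndependent.pair_iff]
    intro a b hab
    have hL := congrArg L hab
    simp [hP.1, ((memK _).mp (hwK i)).2] at hL
    rw [hL, zero_smul, zero_add, hwc, smul_add, smul_smul] at hab
    exact ⟨hL, (hvy b _ hab).1⟩
  · exact Submodule.subset_span ⟨0, rfl⟩
  · intro u hu
    obtain ⟨g, rfl⟩ := (Submodule.mem_span_range_iff_exists_fun ℂ).mp hu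
    obtain ⟨hD0, hL0⟩ := (memK _).mp (hwK i)
    simp only [Fin.sum_univ_two, Matrix.cons_val_zero, Matrix.cons_val_one]
    rw [hT.expand, hp0, hw3, hP.2, hL0, ← hD, hD0]
    ring

end Surf

end Groth.L14.Cubic
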