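import Groth.Agent.L14.Cubic.Polar
import Groth.Agent.L21.Tsen.Norm
import Mathlib.LinearAlgebra.Matrix.ToLinearEquiv
import Mathlib.LinearAlgebra.FiniteDimensional.Lemmas

/-!
Flexes of plane cubics.
-/

open MvPolynomial Module

namespace Groth.L14.Cubic

/-- A smooth symmetric trilinear form on a three dimensional coordinate space. -/
structure Curve (T : (Fin 3 → ℂ) →ₗ[ℂ] (Fin 3 → ℂ) →ₗ[ℂ] (Fin 3 → ℂ) →ₗ[ℂ] ℂ) : Prop where
  s12 : ∀ u v w, T u v w = T v u w
  s23 : ∀ u v w, T u v w = T u w v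
  smooth : ∀ v, v ≠ 0 → (∀ u, T v v u = 0) → False

/-- Flex of a plane cubic, in terms of the polar form. -/
def Flex (T : (Fin 3 → ℂ) →ₗ[ℂ] (Fin 3 → ℂ) →ₗ[ℂ] (Fin 3 → ℂ) →ₗ[ℂ] ℂ) (v : Fin 3 → ℂ) : Prop :=
  ∃ w, LinearIndependent ℂ ![v, w] ∧ T v v v = 0 ∧ T v v w = 0 ∧ T v w w = 0

variable {n : ℕ}

theorem tri_expand (f : MvPolynomial (Fin n) ℂ) (a b : ℂ) (x y : Fin n → ℂ) :
    tri f (a • x + b • y) (a • x + b • y) (a • x + b • y) =
      a ^ 3 * tri f x x x + 3 * a ^ 2 * b * tri f x x y + 3 * a * b ^ 2 * tri f x y y + b ^ 3 * tri f y y y := by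
  simp only [map_add, map_smul, LinearMap.add_apply, LinearMap.smul_apply, smul_eq_mul]
  rw [tri_swap12 f y x x, tri_swap23 f x y x, tri_swap12 f y x y, tri_swap23 f y y x, tri_swap12 f y x y]
  ring

theorem tri_xxy {f : MvPolynomial (Fin n) ℂ} (hf : f.IsHomogeneous 3) (x y : Fin n → ℂ) :
    6 * tri f x x y = eval (x + y) f - eval (x - y) f - 2 * eval y f := by
  rw [show x - y = (1 : ℂ) • x + (-1 : ℂ) • y by module, show x + y = (1 : ℂ) • x + (1 : ℂ) • y by module,
    eval_eq_tri hf, eval_eq_tri hf, eval_eq_tri hf, tri_expand, tri_expand]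
  ring

theorem tri_xzy {f : MvPolynomial (Fin n) ℂ} (x z y : Fin n → ℂ) :
    4 * tri f x z y = tri f (x + z) (x + z) y - tri f (x - z) (x - z) y := by
  simp only [map_add, map_sub, LinearMap.add_apply, LinearMap.sub_apply]
  rw [tri_swap12 f z x y]
  ring

theorem tri_transport {f g : MvPolynomial (Fin n) ℂ} (hf : f.IsHomogeneous 3) (hg : g.IsHomogeneous 3)
    (R : (Fin n → ℂ) →ₗ[ℂ] (Fin n → ℂ)) {c : ℂ} (h : ∀ v, eval (R v) f = c * eval v g)
    (x z y : Fin n → ℂ) : tri f (R x) (R z) (R y) = c * tri g x z y := by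
  have h2 : ∀ a b, tri f (R a) (R a) (R b) = c * tri g a a b := by
    intro a b
    have h1 := tri_xxy hf (R a) (R b)
    rw [← map_add, ← map_sub, h, h, h] at h1
    linear_combination h1 / 6 - c / 6 * tri_xxy hg a b
  have h4 := tri_xzy (f := f) (R x) (R z) (R y)
  rw [← map_add, ← map_sub, h2, h2] at h4
  linear_combination h4 / 4 - c / 4 * tri_xzy (f := g) x z y

theorem curve_tri {f : MvPolynomial (Fin 3) ℂ} (hf : f.IsHomogeneous 3)
    (hsm : ∀ v : Fin 3 → ℂ, v ≠ 0 → eval v f = 0 → ∃ i : Fin 3, eval v (pderiv i f) ≠ 0) : Curve (tri f) :=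
  ⟨tri_swap12 f, tri_swap23 f, smooth_tri hf hsm⟩

theorem flex_iff {f : MvPolynomial (Fin 3) ℂ} (hf : f.IsHomogeneous 3) (v : Fin 3 → ℂ) :
    (∃ w : Fin 3 → ℂ, LinearIndependent ℂ ![v, w] ∧ ∀ t : ℂ, eval (v + t • w) f = t ^ 3 * eval w f) ↔
      Flex (tri f) v := by
  have he : ∀ w t, eval (v + t • w) f =
      tri f v v v + 3 * t * tri f v v w + 3 * t ^ 2 * tri f v w w + t ^ 3 * tri f w w w := by
    intro w t
    rw [show v + t • w = (1 : ℂ) • v + t • w by rw [one_smul], eval_eq_tri hf, tri_expand]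
    ring
  constructor
  · rintro ⟨w, hw, h⟩
    have h0 := h 0
    have h1 := h 1
    have h2 := h (-1)
    rw [he, eval_eq_tri hf] at h0 h1 h2
    exact ⟨w, hw, by linear_combination h0, by linear_combination h1 / 6 - h2 / 6,
      by linear_combination h1 / 6 + h2 / 6 - h0 / 3⟩
  · rintro ⟨w, hw, h0, h1, h2⟩
    exact ⟨w, hw, fun t => by rw [he, eval_eq_tri hf, h0, h1, h2]; ring⟩

theorem span3_eq_top {v w z : Fin 3 → ℂ} (hw : LinearIndependent ℂ ![v, w])
    (hz : z ∉ Submodule.span ℂ {v, w}) : Submodule.span ℂ (Set.range ![v, w, z]) = ⊤ := by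
  have hli : LinearIndependent ℂ ![v, w, z] := by
    rw [Fintype.linearIndependent_iff]
    intro g hg
    simp only [Fin.sum_univ_three, Matrix.cons_val_zero, Matrix.cons_val_one, Matrix.cons_val] at hg
    have h2 : g 2 = 0 := by
      by_contra hne
      refine hz (Submodule.mem_span_pair.mpr ⟨-((g 2)⁻¹ * g 0), -((g 2)⁻¹ * g 1), ?_⟩)
      have := congrArg (fun x => (g 2)⁻¹ • x) hg
      simp only [smul_add, smul_smul, inv_mul_cancel₀ hne, one_smul, smul_zero] at this
      rw [eq_neg_of_add_eq_zero_right this]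
      module
    rw [h2, zero_smul, add_zero] at hg
    obtain ⟨h0, h1⟩ := LinearIndependent.pair_iff.mp hw _ _ hg
    intro i; fin_cases i <;> assumption
  refine Submodule.eq_top_of_finrank_eq ?_
  rw [finrank_span_eq_card hli, Fintype.card_fin, Module.finrank_pi, Fintype.card_fin]

theorem exists_not_mem_pair (v w : Fin 3 → ℂ) : ∃ z, z ∉ Submodule.span ℂ {v, w} := by
  by_contra hne
  push Not at hne
  have h : Submodule.span ℂ {v, w} = ⊤ := Submodule.eq_top_iff'.mpr hne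
  classical
  have hc := finrank_span_finset_le_card (R := ℂ) ({v, w} : Finset (Fin 3 → ℂ))
  rw [Finset.coe_pair, Set.finrank, h, finrank_top, Module.finrank_pi, Fintype.card_fin] at hc
  have := Finset.card_le_two (a := v) (b := w)
  omega

variable {T : (Fin 3 → ℂ) →ₗ[ℂ] (Fin 3 → ℂ) →ₗ[ℂ] (Fin 3 → ℂ) →ₗ[ℂ] ℂ}

theorem exists_kernel_of_flex {v : Fin 3 → ℂ} (hF : Flex T v) (hs : ∀ x, T v v x = T v x v)
    (hs' : ∀ x y, T v x y = T v y x) :
    ∃ u, u ≠ 0 ∧ ∀ x, T v u x = 0 := by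
  obtain ⟨w, hw, h0, h1, h2⟩ := hF
  obtain ⟨z, hz⟩ := exists_not_mem_pair v w
  have htop := span3_eq_top hw hz
  obtain ⟨a, b, hab, habz⟩ : ∃ a b : ℂ, (a ≠ 0 ∨ b ≠ 0) ∧ a * T v v z + b * T v w z = 0 := by
    by_cases h : T v v z = 0
    · exact ⟨1, 0, Or.inl one_ne_zero, by rw [h]; ring⟩
    · exact ⟨-T v w z, T v v z, Or.inr h, by ring⟩
  refine ⟨a • v + b • w, fun h => ?_, fun x => ?_⟩
  · obtain ⟨ha, hb⟩ := LinearIndependent.pair_iff.mp hw a b h
    exact hab.elim (· ha) (· hb)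
  · obtain ⟨g, rfl⟩ := (Submodule.mem_span_range_iff_exists_fun ℂ).mp
      (htop ▸ Submodule.mem_top : x ∈ Submodule.span ℂ (Set.range ![v, w, z]))
    simp only [Fin.sum_univ_three, Matrix.cons_val_zero, Matrix.cons_val_one, Matrix.cons_val, map_add,
      map_smul, LinearMap.add_apply, LinearMap.smul_apply, smul_eq_mul, h0, h1, h2,
      show T v w v = 0 by rw [hs' w v, h1]]
    linear_combination g 2 * habz

theorem exists_flex {f : MvPolynomial (Fin 3) ℂ} (hf : f.IsHomogeneous 3)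
    (hsm : ∀ v : Fin 3 → ℂ, v ≠ 0 → eval v f = 0 → ∃ i : Fin 3, eval v (pderiv i f) ≠ 0) :
    ∃ v, v ≠ 0 ∧ Flex (tri f) v := by
  classical
  let e : Fin 3 → Fin 3 → ℂ := fun i => Pi.single i 1
  let M : Matrix (Fin 3) (Fin 3) (MvPolynomial (Fin 3) ℂ) :=
    Matrix.of fun i j => ∑ l, C (tri f (e l) (e i) (e j)) * X l
  have hM : ∀ i j, (M i j).IsHomogeneous 1 := fun i j => by
    simp only [M, Matrix.of_apply]
    exact IsHomogeneous.sum _ _ _ fun l _ => (isHomogeneous_X ℂ l).C_mul _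
  have hdet : M.det.IsHomogeneous 3 := by simpa using Groth.L21.Tsen.isHomogeneous_det M hM
  obtain ⟨v, hv, hv'⟩ := Groth.L21.Tsen.exists_zero (Groth.L21.Tsen.isCi_zero ℂ) ![f, M.det] ![3, 3]
    (fun j => by fin_cases j <;> assumption) (fun j => by fin_cases j <;> norm_num) (by simp)
  have hf0 : eval v f = 0 := hv' 0
  have hd0 : eval v M.det = 0 := hv' 1
  rw [RingHom.map_det] at hd0
  obtain ⟨u, hu, hu0⟩ := Matrix.exists_mulVec_eq_zero_iff.mpr hd0
  have hexp : ∀ x : Fin 3 → ℂ, x = ∑ l, x l • e l := fun x => by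
    funext i; simp [e, Pi.single_apply]
  have hker : ∀ x, tri f v x u = 0 := by
    have hi : ∀ i, tri f v (e i) u = 0 := by
      intro i
      have := congrFun hu0 i
      simp only [Matrix.mulVec, dotProduct, RingHom.mapMatrix_apply, Matrix.map_apply, M, Matrix.of_apply,
        map_sum, map_mul, eval_C, eval_X, Pi.zero_apply] at this
      rw [← this]
      conv_lhs => rw [hexp v, hexp u]
      simp only [map_sum, LinearMap.coe_sum, Finset.sum_apply, map_smul, LinearMap.smul_apply, smul_eq_mul,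
        Finset.sum_mul, Finset.mul_sum]
      refine Finset.sum_congr rfl fun j _ => ?_
      refine Finset.sum_congr rfl fun l _ => ?_
      ring
    intro x
    rw [hexp x, map_sum, LinearMap.coe_sum, Finset.sum_apply]
    exact Finset.sum_eq_zero fun l _ => by simp [hi]
  refine ⟨v, hv, u, ?_, ?_, ?_, ?_⟩
  · rw [LinearIndependent.pair_iff' hv]
    intro a ha
    have ha0 : a ≠ 0 := by rintro rfl; exact hu (by rw [← ha, zero_smul])
    refine smooth_tri hf hsm v hv fun x => ?_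
    have := hker x
    rw [← ha, map_smul, smul_eq_mul, mul_eq_zero, tri_swap23] at this
    exact this.resolve_left ha0
  · rwa [← eval_eq_tri hf]
  · exact hker v
  · exact hker u

end Groth.L14.Cubic
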