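import Groth.Agent.L14.Cubic.Normal
import Mathlib.SetTheory.Cardinal.Finite

/-!
Flexes and projective automorphisms of Hesse cubics.
-/

open MvPolynomial Module

namespace Groth.L14.Cubic

/-- The base flex. -/
def P0 : Fin 3 → ℂ := ![0, 1, -1]

/-- Monomial automorphisms of the Hesse pencil. -/
noncomputable def G (i j : Fin 3) : Matrix (Fin 3) (Fin 3) ℂ :=
  Matrix.of fun r c => if r = c + i then om ^ (j.val * c.val) else 0

theorem eval_G (k : ℂ) (i j : Fin 3) (v : Fin 3 → ℂ) :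
    eval ((G i j).mulVec v) (HesseCubic.form k) = eval v (HesseCubic.form k) := by
  have h3 := om_cube
  have h6 : om ^ 6 = 1 := by linear_combination (om ^ 3 + 1) * h3
  have h12 : om ^ 12 = 1 := by linear_combination (om ^ 6 + 1) * h6
  rw [eval_form, eval_form]
  fin_cases i <;> fin_cases j <;>
    simp [G, Matrix.mulVec, dotProduct, Fin.sum_univ_three] <;> ring_nf <;> simp [h3, h6, h12] <;> ring_nf

theorem det_G (i j : Fin 3) : (G i j).det = 1 := by
  have h3 := om_cube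
  have h6 : om ^ 6 = 1 := by linear_combination (om ^ 3 + 1) * h3
  fin_cases i <;> fin_cases j <;>
    simp [G, Matrix.det_fin_three] <;> ring_nf <;> simp [h3, h6]

/-- The point `G i j P0`. -/
noncomputable def flexPt (i j : Fin 3) : Fin 3 → ℂ := (G i j).mulVec P0

theorem flexPt_zero (j : Fin 3) : flexPt 0 j = om ^ (j.val) • ![0, 1, -(om ^ (j.val))] := by
  funext r
  fin_cases j <;> fin_cases r <;> simp [flexPt, P0, G, Matrix.mulVec, dotProduct, Fin.sum_univ_three] <;> ring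

theorem flexPt_one (j : Fin 3) : flexPt 1 j = om ^ (j.val) • ![-(om ^ (j.val)), 0, 1] := by
  funext r
  fin_cases j <;> fin_cases r <;> simp [flexPt, P0, G, Matrix.mulVec, dotProduct, Fin.sum_univ_three] <;> ring

theorem flexPt_two (j : Fin 3) : flexPt 2 j = om ^ (j.val) • ![1, -(om ^ (j.val)), 0] := by
  funext r
  fin_cases j <;> fin_cases r <;> simp [flexPt, P0, G, Matrix.mulVec, dotProduct, Fin.sum_univ_three] <;> ring

theorem cube_root_cases {γ : ℂ} (h : γ ^ 3 = 1) : ∃ j : Fin 3, γ = om ^ (j.val) := by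
  have h' : (γ - 1) * ((γ - om) * (γ - om ^ 2)) = 0 := by
    linear_combination h - γ ^ 2 * om_eq + γ * (om_eq + (om_cube)) - (om_cube)
  rcases mul_eq_zero.mp h' with h1 | h1
  · exact ⟨0, by simpa [sub_eq_zero] using h1⟩
  rcases mul_eq_zero.mp h1 with h2 | h2
  · exact ⟨1, by simpa [sub_eq_zero] using h2⟩
  · exact ⟨2, by simpa [sub_eq_zero] using h2⟩

theorem flex_map {f g : MvPolynomial (Fin 3) ℂ} (hf : f.IsHomogeneous 3) (hg : g.IsHomogeneous 3)
    (R : (Fin 3 → ℂ) →ₗ[ℂ] (Fin 3 → ℂ)) (hR : Function.Injective R) {c : ℂ}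
    (h : ∀ v, eval (R v) f = c * eval v g) {v : Fin 3 → ℂ} (hv : Flex (tri g) v) : Flex (tri f) (R v) := by
  obtain ⟨w, hw, h0, h1, h2⟩ := hv
  refine ⟨R w, ?_, ?_, ?_, ?_⟩
  · rw [LinearIndependent.pair_iff]
    intro a b hab
    exact LinearIndependent.pair_iff.mp hw a b (hR (by rw [map_add, map_smul, map_smul, hab, map_zero]))
  all_goals rw [tri_transport hf hg R h]
  · rw [h0, mul_zero]
  · rw [h1, mul_zero]
  · rw [h2, mul_zero]

theorem flex_smul {f : MvPolynomial (Fin 3) ℂ} {v : Fin 3 → ℂ} {c : ℂ} (hc : c ≠ 0) (hv : Flex (tri f) v) :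
    Flex (tri f) (c • v) := by
  obtain ⟨w, hw, h0, h1, h2⟩ := hv
  refine ⟨w, ?_, by simp [h0], by simp [h1], by simp [h2]⟩
  rw [LinearIndependent.pair_iff] at hw ⊢
  intro a b hab
  rw [smul_smul] at hab
  obtain ⟨h1', h2'⟩ := hw _ _ hab
  exact ⟨(mul_eq_zero.mp h1').resolve_right hc, h2'⟩

theorem mulVec_inj {A : Matrix (Fin 3) (Fin 3) ℂ} (hA : IsUnit A.det) :
    Function.Injective (Matrix.toLin' A) := by
  intro x y h
  have := congrArg (A⁻¹).mulVec (show A.mulVec x = A.mulVec y from h)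
  rwa [Matrix.mulVec_mulVec, Matrix.mulVec_mulVec, Matrix.nonsing_inv_mul _ hA, Matrix.one_mulVec,
    Matrix.one_mulVec] at this

theorem flex_P0 (k : ℂ) : Flex (tri (HesseCubic.form k)) P0 := by
  refine ⟨![1, -k, 0], ?_, ?_, ?_, ?_⟩
  · rw [LinearIndependent.pair_iff]
    intro a b h
    have e0 := congrFun h 0
    have e2 := congrFun h 2
    simp [P0] at e0 e2
    exact ⟨e2, e0⟩
  all_goals simp [tri_form_xxy, tri_form, P0]
  all_goals ring

theorem flex_flexPt (k : ℂ) (i j : Fin 3) : Flex (tri (HesseCubic.form k)) (flexPt i j) :=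
  flex_map (form_homog k) (form_homog k) (Matrix.toLin' (G i j)) (mulVec_inj (by rw [det_G]; exact isUnit_one))
    (c := 1) (fun v => by rw [Matrix.toLin'_apply, eval_G, one_mul]) (flex_P0 k)

/-- The nine points in the form used in the statement. -/
def IsNine (v : Fin 3 → ℂ) : Prop :=
  ∃ γ c : ℂ, γ ^ 3 = 1 ∧ (v = c • ![0, 1, -γ] ∨ v = c • ![-γ, 0, 1] ∨ v = c • ![1, -γ, 0])

theorem isNine_flexPt {v : Fin 3 → ℂ} (h : IsNine v) : ∃ i j, ∃ c : ℂ, v = c • flexPt i j := by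
  obtain ⟨γ, c, hγ, hv⟩ := h
  obtain ⟨j, rfl⟩ := cube_root_cases hγ
  have ho : om ^ (j.val) ≠ 0 := pow_ne_zero _ fun h => by
    have := om_cube; rw [h] at this; norm_num at this
  rcases hv with rfl | rfl | rfl
  · exact ⟨0, j, c * (om ^ (j.val))⁻¹, by rw [flexPt_zero, smul_smul, mul_assoc, inv_mul_cancel₀ ho, mul_one]⟩
  · exact ⟨1, j, c * (om ^ (j.val))⁻¹, by rw [flexPt_one, smul_smul, mul_assoc, inv_mul_cancel₀ ho, mul_one]⟩
  · exact ⟨2, j, c * (om ^ (j.val))⁻¹, by rw [flexPt_two, smul_smul, mul_assoc, inv_mul_cancel₀ ho, mul_one]⟩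

theorem isNine_of_flex {k : ℂ} (hk : k ^ 3 ≠ 1) {v : Fin 3 → ℂ} (hv : v ≠ 0)
    (hF : Flex (tri (HesseCubic.form k)) v) : IsNine v := by
  obtain ⟨u, hu, hker⟩ := exists_kernel_of_flex hF (fun x => tri_swap23 _ _ _ _) (fun x y => tri_swap23 _ _ _ _)
  have hf0 : eval v (HesseCubic.form k) = 0 := by
    obtain ⟨w, -, h0, -⟩ := hF
    rwa [eval_eq_tri (form_homog k)]
  rw [eval_form] at hf0
  let M : Matrix (Fin 3) (Fin 3) ℂ := !![v 0, -k / 2 * v 2, -k / 2 * v 1; -k / 2 * v 2, v 1, -k / 2 * v 0;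
    -k / 2 * v 1, -k / 2 * v 0, v 2]
  have hM : M.det = 0 := by
    refine Matrix.exists_mulVec_eq_zero_iff.mp ⟨u, hu, ?_⟩
    have e0 := hker ![1, 0, 0]
    have e1 := hker ![0, 1, 0]
    have e2 := hker ![0, 0, 1]
    simp [tri_form] at e0 e1 e2
    funext r
    fin_cases r <;> simp [M, Matrix.mulVec, dotProduct, Fin.sum_univ_three]
    · linear_combination e0
    · linear_combination e1
    · linear_combination e2
  rw [Matrix.det_fin_three] at hM
  simp [M] at hM
  have hp : v 0 * v 1 * v 2 * (1 - k ^ 3) = 0 := by linear_combination hM + k ^ 2 / 4 * hf0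
  have hp0 := (mul_eq_zero.mp hp).resolve_right (sub_ne_zero.mpr (Ne.symm hk))
  have hzero : ∀ a b : Fin 3, v a ^ 3 + v b ^ 3 = 0 → v b = 0 → v a = 0 := fun a b h hb => by
    rw [hb] at h
    exact eq_zero_of_pow_eq_zero (n := 3) (by linear_combination h)
  rcases mul_eq_zero.mp hp0 with h01 | h2
  · rcases mul_eq_zero.mp h01 with h0 | h1
    · have hs : v 1 ^ 3 + v 2 ^ 3 = 0 := by rw [h0] at hf0; linear_combination hf0
      have h1 : v 1 ≠ 0 := fun h => hv (by
        funext r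
        fin_cases r <;> [exact h0; exact h; exact hzero 2 1 (by linear_combination hs) h])
      refine ⟨-v 2 / v 1, v 1, ?_, Or.inl ?_⟩
      · field_simp
        linear_combination -hs
      · funext r; fin_cases r <;> simp [h0] <;> field_simp
    · have hs : v 2 ^ 3 + v 0 ^ 3 = 0 := by rw [h1] at hf0; linear_combination hf0
      have h2 : v 2 ≠ 0 := fun h => hv (by
        funext r
        fin_cases r <;> [exact hzero 0 2 (by linear_combination hs) h; exact h1; exact h])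
      refine ⟨-v 0 / v 2, v 2, ?_, Or.inr (Or.inl ?_)⟩
      · field_simp
        linear_combination -hs
      · funext r; fin_cases r <;> simp [h1] <;> field_simp
  · have hs : v 0 ^ 3 + v 1 ^ 3 = 0 := by rw [h2] at hf0; linear_combination hf0
    have h0 : v 0 ≠ 0 := fun h => hv (by
      funext r
      fin_cases r <;> [exact h; exact hzero 1 0 (by linear_combination hs) h; exact h2])
    refine ⟨-v 1 / v 0, v 0, ?_, Or.inr (Or.inr ?_)⟩
    · field_simp
      linear_combination -hs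
    · funext r; fin_cases r <;> simp [h2] <;> field_simp

theorem flex_form_iff {k : ℂ} (hk : k ^ 3 ≠ 1) {v : Fin 3 → ℂ} (hv : v ≠ 0) :
    Flex (tri (HesseCubic.form k)) v ↔ IsNine v := by
  refine ⟨isNine_of_flex hk hv, fun h => ?_⟩
  obtain ⟨i, j, c, rfl⟩ := isNine_flexPt h
  exact flex_smul (fun hc => hv (by rw [hc, zero_smul])) (flex_flexPt k i j)

theorem flex_eq_flexPt {k : ℂ} (hk : k ^ 3 ≠ 1) {v : Fin 3 → ℂ} (hv : v ≠ 0)
    (hF : Flex (tri (HesseCubic.form k)) v) : ∃ i j, ∃ c : ℂ, c ≠ 0 ∧ v = c • flexPt i j := by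
  obtain ⟨i, j, c, rfl⟩ := isNine_flexPt (isNine_of_flex hk hv hF)
  exact ⟨i, j, c, fun hc => hv (by rw [hc, zero_smul]), rfl⟩

theorem three_roots {a b c : ℂ} (h : ∀ γ : ℂ, γ ^ 3 = 1 → a + γ * b + γ ^ 2 * c = 0) :
    a = 0 ∧ b = 0 ∧ c = 0 := by
  have e0 := h 1 (one_pow _)
  have e1 := h om om_cube
  have e2 := h (om ^ 2) (by linear_combination (om ^ 3 + 1) * om_cube)
  have h4 : (om ^ 2) ^ 2 = om := by linear_combination om * om_cube
  rw [h4] at e2
  have ha : a = 0 := by linear_combination (e0 + e1 + e2 - (b + c) * om_eq) / 3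
  have hb : (om - om ^ 2) * b = 0 := by linear_combination e1 - om ^ 2 * e0 + (om ^ 2 - 1) * ha
  have hb0 : b = 0 := by
    refine (mul_eq_zero.mp hb).resolve_left fun hh => ?_
    have : om * (1 - om) = 0 := by linear_combination hh
    rcases mul_eq_zero.mp this with h0 | h0
    · have := om_cube; rw [h0] at this; norm_num at this
    · exact om_ne_one (by linear_combination -h0)
  exact ⟨ha, hb0, by linear_combination e0 - ha - hb0⟩

theorem scalar_of_fix_nine (B : Matrix (Fin 3) (Fin 3) ℂ)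
    (h : ∀ v, IsNine v → v ≠ 0 → ∃ d : ℂ, B.mulVec v = d • v) : ∃ c : ℂ, B = c • (1 : Matrix (Fin 3) (Fin 3) ℂ) := by
  have key : ∀ (u : ℂ → (Fin 3 → ℂ)), (∀ γ, γ ^ 3 = 1 → IsNine (u γ) ∧ u γ ≠ 0) →
      ∀ γ, γ ^ 3 = 1 → ∃ d : ℂ, B.mulVec (u γ) = d • u γ := fun u hu γ hγ => h _ (hu γ hγ).1 (hu γ hγ).2
  have k0 := key (fun γ => ![0, 1, -γ]) fun γ hγ => ⟨⟨γ, 1, hγ, Or.inl (one_smul _ _).symm⟩, by simp⟩
  have k1 := key (fun γ => ![-γ, 0, 1]) fun γ hγ => ⟨⟨γ, 1, hγ, Or.inr (Or.inl (one_smul _ _).symm)⟩, by simp⟩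
  have k2 := key (fun γ => ![1, -γ, 0]) fun γ hγ => ⟨⟨γ, 1, hγ, Or.inr (Or.inr (one_smul _ _).symm)⟩, by simp⟩
  obtain ⟨h01, h02, -⟩ := three_roots (a := B 0 1) (b := -B 0 2) (c := 0) fun γ hγ => by
    obtain ⟨d, hd⟩ := k0 γ hγ
    have := congrFun hd 0
    simp [Matrix.mulVec, dotProduct, Fin.sum_univ_three] at this
    linear_combination this
  obtain ⟨h21, h11, h12⟩ := three_roots (a := B 2 1) (b := B 1 1 - B 2 2) (c := -B 1 2) fun γ hγ => by
    obtain ⟨d, hd⟩ := k0 γ hγ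
    have e1 := congrFun hd 1
    have e2 := congrFun hd 2
    simp [Matrix.mulVec, dotProduct, Fin.sum_univ_three] at e1 e2
    linear_combination e2 + γ * e1
  obtain ⟨h12', h10, -⟩ := three_roots (a := B 1 2) (b := -B 1 0) (c := 0) fun γ hγ => by
    obtain ⟨d, hd⟩ := k1 γ hγ
    have := congrFun hd 1
    simp [Matrix.mulVec, dotProduct, Fin.sum_univ_three] at this
    linear_combination this
  obtain ⟨-, h20, -⟩ := three_roots (a := B 2 1) (b := -B 2 0) (c := 0) fun γ hγ => by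
    obtain ⟨d, hd⟩ := k2 γ⁻¹ (by rw [inv_pow, hγ, inv_one])
    have hγ0 : γ ≠ 0 := fun h => by rw [h] at hγ; norm_num at hγ
    have := congrFun hd 2
    simp [Matrix.mulVec, dotProduct, Fin.sum_univ_three] at this
    field_simp at this
    linear_combination -this
  obtain ⟨h02', h22, -⟩ := three_roots (a := B 0 2) (b := B 2 2 - B 0 0) (c := -B 2 0) fun γ hγ => by
    obtain ⟨d, hd⟩ := k1 γ hγ
    have e0 := congrFun hd 0
    have e2 := congrFun hd 2
    simp [Matrix.mulVec, dotProduct, Fin.sum_univ_three] at e0 e2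
    linear_combination e0 + γ * e2
  refine ⟨B 0 0, ?_⟩
  ext r s
  fin_cases r <;> fin_cases s <;> simp
  · exact h01
  · exact neg_eq_zero.mp h02
  · exact neg_eq_zero.mp h10
  · linear_combination h11 + h22
  · exact h12'
  · exact neg_eq_zero.mp h20
  · exact h21
  · linear_combination h22

end Groth.L14.Cubic
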