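import Groth.Agent.L14.Cubic.Triangle

/-!
An irreducible cubic surface which is not a cone has a smooth point whose tangent section is not
three lines.
-/

open Module

namespace Groth.L14.Cubic

variable {K : Type*} [Field K] [CharZero K] [IsAlgClosed K] {F : MvPolynomial (Fin 4) K}

/-- Tangent vector `D z • u - D u • z`. -/
noncomputable def tvec (F : MvPolynomial (Fin 4) K) (z u b : Fin 4 → K) : Fin 4 → K :=
  tri F b b z • u - tri F b b u • z

omit [IsAlgClosed K] in
theorem tvec_mem (z u b : Fin 4 → K) : tri F b b (tvec F z u b) = 0 := by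
  simp [tvec, map_sub, map_smul]; ring

omit [IsAlgClosed K] in
theorem isPolyFun_tvec (z u : Fin 4 → K) (i : Fin 4) : IsPolyFun fun b => tvec F z u b i := by
  have hid : ∀ i : Fin 4, IsPolyFun (k := K) fun b : Fin 4 → K => b i := fun i => IsPolyFun.linear (LinearMap.proj i)
  have : (fun b => tvec F z u b i) = fun b => tri F b b z * u i - tri F b b u * z i := by
    funext b; simp [tvec]
  rw [this]
  exact ((IsPolyFun.tri (tri F) id id (fun _ => z) hid hid (fun i => IsPolyFun.const _)).mul (IsPolyFun.const _)).sub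
    ((IsPolyFun.tri (tri F) id id (fun _ => u) hid hid (fun i => IsPolyFun.const _)).mul (IsPolyFun.const _))

/-- Not every point is an Eckardt-like point. -/
theorem CubicNC.exists_second_ne (h : CubicNC F) :
    ∃ z u b, tri F b b b = 0 ∧ tri F b (tvec F z u b) (tvec F z u b) ≠ 0 := by
  by_contra hc
  push Not at hc
  have hT := tri_sym3 F
  obtain ⟨b, hb, hbz⟩ := h.exists_polar_ne (v := ev 0) fun e => by
    have := congrFun e 0; simp [ev] at this
  set z : Fin 4 → K := ev 0 with hz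
  have hq : ∀ x, tri F b b x = 0 → tri F b x x = 0 := by
    intro x hx
    have := hc z x b hb
    simp only [tvec, hx, zero_smul, sub_zero, map_smul, LinearMap.smul_apply, smul_eq_mul] at this
    simpa [hbz] using this
  have hq2 : ∀ x y, tri F b b x = 0 → tri F b b y = 0 → tri F b x y = 0 := by
    intro x y hx hy
    have := hq (x + y) (by simp [hx, hy])
    simp only [map_add, LinearMap.add_apply, hq x hx, hq y hy, hT.s23 b y x] at this
    linear_combination this / 2
  obtain ⟨x, hx, hx3⟩ := h.section_ne_zero hbz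
  -- the polynomial identity
  obtain ⟨p, hp⟩ : IsPolyFun fun c => tri F c (tvec F z x c) (tvec F z x c) :=
    IsPolyFun.tri (tri F) id (tvec F z x) (tvec F z x) (fun i => IsPolyFun.linear (LinearMap.proj i))
      (isPolyFun_tvec z x) (isPolyFun_tvec z x)
  beta_reduce at hp
  obtain ⟨Q, hQ⟩ := h.dvd_of_vanish (G := p) fun c hc' => by rw [hp]; exact hc z x c (by rw [← h.ev3]; exact hc')
  open Polynomial in
  let ℓ : Fin 4 → K[X] := fun i => Polynomial.C (b i) + Polynomial.X * Polynomial.C (x i)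
  let cst : (Fin 4 → K) → Fin 4 → Polynomial K := fun v i => Polynomial.C (v i)
  let E : Fin 4 → Polynomial K := fun i =>
    triP (tri F) ℓ ℓ (cst z) * Polynomial.C (x i) - triP (tri F) ℓ ℓ (cst x) * Polynomial.C (z i)
  let Q' : Polynomial K := MvPolynomial.eval₂ Polynomial.C ℓ Q
  have hℓ : ∀ s, (fun i => (ℓ i).eval s) = b + s • x := fun s => by funext i; simp [ℓ]; ring
  have hcst : ∀ (v : Fin 4 → K) s, (fun i => (cst v i).eval s) = v := fun v s => by funext i; simp [cst]
  have hE : ∀ s, (fun i => (E i).eval s) = tvec F z x (b + s • x) := fun s => by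
    funext i
    simp [E, eval_triP, hℓ, hcst, tvec]
  have hid : triP (tri F) ℓ E E = triP (tri F) ℓ ℓ ℓ * Q' := by
    refine Polynomial.funext fun s => ?_
    rw [Polynomial.eval_mul, eval_triP, eval_triP, hℓ, hE, ← hp, hQ, map_mul, h.ev3]
    congr 1
    show _ = (Polynomial.evalRingHom s) (MvPolynomial.eval₂ Polynomial.C ℓ Q)
    rw [MvPolynomial.eval₂_comp_left]
    simp only [MvPolynomial.eval, MvPolynomial.coe_eval₂Hom]
    congr 1
    · ext a; simp
    · funext i; simp [ℓ]; ring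
  have hd := congrArg (fun P => (Polynomial.derivative P).eval 0) hid
  have hdℓ : (fun i => (dv ℓ i).eval 0) = x := by funext i; simp [dv, ℓ]
  have hℓ0 : (fun i => (ℓ i).eval 0) = b := by rw [hℓ]; simp
  have hE0 : (fun i => (E i).eval 0) = tri F b b z • x := by
    rw [hE]; simp [tvec, hx]
  have hdE : (fun i => (dv E i).eval 0) = (2 * tri F b z x) • x - (2 * tri F b x x) • z := by
    funext i
    show (Polynomial.derivative (E i)).eval 0 = _
    simp only [E, Polynomial.derivative_sub, Polynomial.derivative_mul, Polynomial.derivative_C, mul_zero,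
      add_zero, derivative_triP, Polynomial.eval_sub, Polynomial.eval_mul, Polynomial.eval_add, eval_triP,
      Polynomial.eval_C, hℓ0, hdℓ, hcst]
    have : ∀ v, (fun i => Polynomial.eval 0 (dv (cst v) i)) = 0 := fun v => by funext i; simp [dv, cst]
    simp only [this, map_zero, add_zero, Pi.sub_apply, Pi.smul_apply, smul_eq_mul, hT.s12 x b,
      hT.s23 b x z]
    ring
  rw [hq x hx, mul_zero, zero_smul, sub_zero] at hdE
  simp only [Polynomial.derivative_mul, derivative_triP, Polynomial.eval_add, Polynomial.eval_mul, eval_triP,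
    hdℓ, hℓ0, hE0, hdE] at hd
  simp only [map_smul, LinearMap.smul_apply, smul_eq_mul, hT.s12 x b, hT.r2 b x, hx, hb, hq x hx, mul_zero,
    zero_mul, add_zero] at hd
  exact hx3 ((mul_eq_zero.mp ((mul_eq_zero.mp hd).resolve_left hbz)).resolve_left hbz)

/-- A point with a double line in its tangent section. -/
structure DoubleLine (F : MvPolynomial (Fin 4) K) (b : Fin 4 → K) (A B : (Fin 4 → K) →ₗ[K] K) : Prop where
  sect : ∀ x, tri F b b x = 0 → tri F x x x = A x * B x ^ 2
  hB : B b = 0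
  hA : A b ≠ 0
  hx : ∃ x, tri F b b x = 0 ∧ B x ≠ 0
  hb : tri F b b b = 0
  hz : ∃ z, tri F b b z ≠ 0

omit [CharZero K] [IsAlgClosed K] in
/-- The common kernel of two independent functionals is spanned by two independent vectors in it. -/
theorem mem_span_pair {f g : (Fin 4 → K) →ₗ[K] K} {z x0 : Fin 4 → K} (hz : f z ≠ 0) (hx0 : f x0 = 0)
    (hg : g x0 ≠ 0) {v w x : Fin 4 → K} (hli : LinearIndependent K ![v, w]) (fv : f v = 0) (gv : g v = 0)
    (fw : f w = 0) (gw : g w = 0) (fx : f x = 0) (gx : g x = 0) : x ∈ Submodule.span K (Set.range ![v, w]) := by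
  let Φ : (Fin 4 → K) →ₗ[K] (Fin 2 → K) := LinearMap.pi ![f, g]
  have hsurj : Function.Surjective Φ := by
    intro y
    refine ⟨(y 0 / f z) • z + ((y 1 - y 0 / f z * g z) / g x0) • x0, ?_⟩
    funext i
    fin_cases i
    · simp [Φ, hx0, hz]
    · simp [Φ, hg]
  have hk : finrank K (LinearMap.ker Φ) = 2 := by
    have := Φ.finrank_range_add_finrank_ker
    rw [LinearMap.range_eq_top.mpr hsurj, finrank_top] at this
    simp only [Module.finrank_pi, Fintype.card_fin] at this
    omega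
  have hmem : ∀ {y}, f y = 0 → g y = 0 → y ∈ LinearMap.ker Φ := fun {y} a b => by
    rw [LinearMap.mem_ker]; funext i; fin_cases i <;> simp [Φ, a, b]
  have hle : Submodule.span K (Set.range ![v, w]) ≤ LinearMap.ker Φ := by
    rw [Submodule.span_le]
    rintro _ ⟨i, rfl⟩
    fin_cases i
    · exact hmem fv gv
    · exact hmem fw gw
  have := Submodule.eq_of_le_of_finrank_eq hle (by rw [finrank_span_eq_card hli, hk]; simp)
  rw [this]
  exact hmem fx gx

omit [IsAlgClosed K] in
theorem DoubleLine.meet {b b' : Fin 4 → K} {A B A' B' : (Fin 4 → K) →ₗ[K] K} (h : DoubleLine F b A B)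
    (h' : DoubleLine F b' A' B') :
    (∃ v, v ≠ 0 ∧ tri F b b v = 0 ∧ B v = 0 ∧ tri F b' b' v = 0 ∧ B' v = 0) ∨
      ∀ x, tri F b b x = 0 → A x = 0 → tri F b' b' x = 0 := by
  obtain ⟨v, hv, hv1, hv2, hv3⟩ := exists_common3 (tri F b b) (tri F b' b') B
  by_cases hB' : B' v = 0
  · exact .inl ⟨v, hv, hv1, hv3, hv2, hB'⟩
  have eq : ∀ x, tri F b b x = 0 → tri F b' b' x = 0 → A' x * B' x ^ 2 = A x * B x ^ 2 := fun x h1 h2 => by
    rw [← h.sect x h1, h'.sect x h2]
  have hA'v : A' v = 0 := by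
    have := eq v hv1 hv2
    rw [hv3, zero_pow two_ne_zero, mul_zero] at this
    exact (mul_eq_zero.mp this).resolve_right (pow_ne_zero 2 hB')
  have hA'0 : ∀ x, tri F b b x = 0 → tri F b' b' x = 0 → A x * B x ^ 2 = 0 := by
    intro x h1 h2
    have e1 := eq (v + x) (by simp [hv1, h1]) (by simp [hv2, h2])
    have e2 := eq (v + (-1 : K) • x) (by simp [hv1, h1]) (by simp [hv2, h2])
    have e3 := eq (v + (2 : K) • x) (by simp [hv1, h1]) (by simp [hv2, h2])
    simp only [map_add, map_smul, smul_eq_mul, hA'v, hv3, zero_add] at e1 e2 e3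
    have e0 := eq x h1 h2
    have k1 : A' x * B' v ^ 2 = A v * B x ^ 2 * 0 := by
      linear_combination e1 - (1 / 3 : K) * e2 - (1 / 6 : K) * e3
    rw [mul_zero] at k1
    rw [← e0, (mul_eq_zero.mp k1).resolve_right (pow_ne_zero 2 hB'), zero_mul]
  by_cases hBl : ∀ x, tri F b b x = 0 → tri F b' b' x = 0 → B x = 0
  · obtain ⟨w, hw, hw1, hw2, hw3⟩ := exists_common3 (tri F b b) (tri F b' b') B'
    exact .inl ⟨w, hw, hw1, hBl w hw1 hw2, hw2, hw3⟩
  right
  push Not at hBl
  obtain ⟨x2, hx21, hx22, hx2B⟩ := hBl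
  have hAl : ∀ x, tri F b b x = 0 → tri F b' b' x = 0 → A x = 0 := by
    intro x h1 h2
    by_contra hAx
    have hBx : B x = 0 := by simpa [hAx] using hA'0 x h1 h2
    have hAx2 : A x2 = 0 := by simpa [hx2B] using hA'0 x2 hx21 hx22
    have := hA'0 (x + x2) (by simp [h1, hx21]) (by simp [hx22, h2])
    simp [hBx, hAx2, hAx, hx2B] at this
  intro x h1 h2
  by_contra hx'
  obtain ⟨z, hz⟩ := h.hz
  -- the line `D = D' = 0` is two-dimensional
  obtain ⟨w, hw, hw1, hw2, -⟩ := exists_common3 (tri F b b) (tri F b' b') (tri F b b)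
  obtain ⟨l, hl⟩ : ∃ l : (Fin 4 → K) →ₗ[K] K, l w ≠ 0 := by
    obtain ⟨i, hi⟩ := Function.ne_iff.mp hw
    exact ⟨LinearMap.proj i, hi⟩
  obtain ⟨w', hw', hw'1, hw'2, hw'3⟩ := exists_common3 (tri F b b) (tri F b' b') l
  have hli : LinearIndependent K ![w, w'] := by
    rw [LinearIndependent.pair_iff]
    intro s t e
    have := congrArg l e
    simp [hw'3, hl] at this
    subst this
    simp [hw'] at e
    exact ⟨rfl, e⟩
  have hmem := mem_span_pair hz h.hb h.hA hli hw1 (hAl w hw1 hw2) hw'1 (hAl w' hw'1 hw'2) h1 h2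
  refine hx' (LinearMap.mem_ker.mp ((Submodule.span_le (p := LinearMap.ker (tri F b' b'))).mpr ?_ hmem))
  rintro _ ⟨i, rfl⟩
  fin_cases i
  · exact hw2
  · exact hw'2

theorem CubicNC.no_doubleLines (h : CubicNC F) {z u b0 : Fin 4 → K} (hb0 : tri F b0 b0 b0 = 0)
    (hφ : tri F b0 (tvec F z u b0) (tvec F z u b0) ≠ 0)
    (hall : ∀ b, tri F b b b = 0 → tri F b (tvec F z u b) (tvec F z u b) ≠ 0 → ∃ A B, DoubleLine F b A B) : False := by
  classical
  have hid : ∀ i : Fin 4, IsPolyFun (k := K) fun b : Fin 4 → K => b i := fun i => IsPolyFun.linear (LinearMap.proj i)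
  have hpφ : IsPolyFun fun b => tri F b (tvec F z u b) (tvec F z u b) :=
    IsPolyFun.tri (tri F) id _ _ hid (isPolyFun_tvec z u) (isPolyFun_tvec z u)
  have hpD : ∀ v, IsPolyFun fun b => tri F b b v := fun v =>
    IsPolyFun.tri (tri F) id id (fun _ => v) hid hid (fun i => IsPolyFun.const _)
  obtain ⟨A1, B1, h1⟩ := hall b0 hb0 hφ
  obtain ⟨m1, hm1, hm1D, hm1A, -⟩ := exists_common3 (tri F b0 b0) A1 A1
  obtain ⟨z1, hz1⟩ := h1.hz
  obtain ⟨b2, hb2, hb2'⟩ := h.exists_avoid (Finset.univ : Finset (Fin 3))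
    ![fun b => tri F b (tvec F z u b) (tvec F z u b), fun b => tri F b b m1, fun b => tri F b0 b0 b]
    (fun i => by
      fin_cases i
      · exact hpφ
      · exact hpD m1
      · exact IsPolyFun.linear (tri F b0 b0))
    (fun i _ => by
      fin_cases i
      · exact ⟨b0, hb0, hφ⟩
      · exact h.exists_polar_ne hm1
      · exact h.exists_linear_ne fun e => hz1 (by rw [e]; rfl))
  have k0 : tri F b2 (tvec F z u b2) (tvec F z u b2) ≠ 0 := by simpa using hb2' 0 (Finset.mem_univ _)
  have k1 : tri F b2 b2 m1 ≠ 0 := by simpa using hb2' 1 (Finset.mem_univ _)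
  have k2 : tri F b0 b0 b2 ≠ 0 := by simpa using hb2' 2 (Finset.mem_univ _)
  obtain ⟨A2, B2, h2⟩ := hall b2 hb2 k0
  obtain ⟨m2, hm2, hm2D, hm2A, -⟩ := exists_common3 (tri F b2 b2) A2 A2
  obtain ⟨v, hv, hv1, hv1', hv2, hv2'⟩ := (h1.meet h2).resolve_right fun e => k1 (e m1 hm1D hm1A)
  obtain ⟨x1, hx1, hx1'⟩ := h1.hx
  obtain ⟨x2, hx2, hx2'⟩ := h2.hx
  obtain ⟨z2, hz2⟩ := h2.hz
  have huniq : ∀ y, tri F b0 b0 y = 0 → B1 y = 0 → tri F b2 b2 y = 0 → B2 y = 0 →
      ¬ LinearIndependent K ![v, y] := by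
    intro y a1 a2 a3 a4 hli
    have := mem_span_pair hz2 hx2 hx2' hli hv2 hv2' a3 a4 hb2 h2.hB
    refine k2 (LinearMap.mem_ker.mp ((Submodule.span_le (p := LinearMap.ker (tri F b0 b0))).mpr ?_ this))
    rintro _ ⟨i, rfl⟩
    fin_cases i
    · exact hv1
    · exact a1
  -- a plane containing both double lines
  let Ψ : (Fin 4 → K) →ₗ[K] ((Fin 4 → K) →ₗ[K] K) :=
    Fintype.linearCombination K ![tri F b0 b0, B1, tri F b2 b2, B2]
  obtain ⟨g, hg, hg0⟩ : ∃ g, Ψ g = 0 ∧ g ≠ 0 := by
    by_contra hc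
    push Not at hc
    have hinj : Function.Injective Ψ := (injective_iff_map_eq_zero _).mpr hc
    have hs : Function.Surjective Ψ :=
      (LinearMap.injective_iff_surjective_of_finrank_eq_finrank (by simp)).mp hinj
    obtain ⟨i, hi⟩ := Function.ne_iff.mp hv
    obtain ⟨g, hg⟩ := hs (LinearMap.proj i)
    have := LinearMap.congr_fun hg v
    simp [Ψ, Fintype.linearCombination_apply, Fin.sum_univ_four, hv1, hv1', hv2, hv2'] at this
    exact hi this.symm
  have hg' : ∀ x, g 0 * tri F b0 b0 x + g 1 * B1 x + g 2 * tri F b2 b2 x + g 3 * B2 x = 0 := fun x => by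
    have := LinearMap.congr_fun hg x
    simpa [Ψ, Fintype.linearCombination_apply, Fin.sum_univ_four] using this
  let π : (Fin 4 → K) →ₗ[K] K := g 0 • tri F b0 b0 + g 1 • B1
  have hπ1 : ∀ x, tri F b0 b0 x = 0 → B1 x = 0 → π x = 0 := fun x a c => by simp [π, a, c]
  have hπ2 : ∀ x, tri F b2 b2 x = 0 → B2 x = 0 → π x = 0 := fun x a c => by
    have := hg' x
    rw [a, c, mul_zero, mul_zero, add_zero, add_zero] at this
    simpa [π] using this
  have hπ : π ≠ 0 := by
    intro e
    have e' : ∀ x, g 0 * tri F b0 b0 x + g 1 * B1 x = 0 := fun x => by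
      simpa [π] using LinearMap.congr_fun e x
    have g1 : g 1 = 0 := by simpa [hx1, hx1'] using e' x1
    have g0 : g 0 = 0 := by simpa [g1, hz1] using e' z1
    have g3 : g 3 = 0 := by simpa [g1, g0, hx2, hx2'] using hg' x2
    have g2 : g 2 = 0 := by simpa [g1, g0, g3, hz2] using hg' z2
    exact hg0 (funext fun i => by fin_cases i <;> assumption)
  obtain ⟨b, hb, hb'⟩ := h.exists_avoid (Finset.univ : Finset (Fin 5))
    ![fun b => tri F b (tvec F z u b) (tvec F z u b), fun b => tri F b b m1, fun b => tri F b b m2,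
      fun b => π b, fun b => tri F b b v]
    (fun i => by
      fin_cases i
      · exact hpφ
      · exact hpD m1
      · exact hpD m2
      · exact IsPolyFun.linear π
      · exact hpD v)
    (fun i _ => by
      fin_cases i
      · exact ⟨b0, hb0, hφ⟩
      · exact h.exists_polar_ne hm1
      · exact h.exists_polar_ne hm2
      · exact h.exists_linear_ne hπ
      · exact h.exists_polar_ne hv)
  have j0 : tri F b (tvec F z u b) (tvec F z u b) ≠ 0 := by simpa using hb' 0 (Finset.mem_univ _)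
  have j1 : tri F b b m1 ≠ 0 := by simpa using hb' 1 (Finset.mem_univ _)
  have j2 : tri F b b m2 ≠ 0 := by simpa using hb' 2 (Finset.mem_univ _)
  have j3 : π b ≠ 0 := by simpa using hb' 3 (Finset.mem_univ _)
  have j4 : tri F b b v ≠ 0 := by simpa using hb' 4 (Finset.mem_univ _)
  obtain ⟨A, B, h3⟩ := hall b hb j0
  obtain ⟨v1, hv1ne, c1, c1', d1, d1'⟩ := (h1.meet h3).resolve_right fun e => j1 (e m1 hm1D hm1A)
  obtain ⟨v2, hv2ne, c2, c2', d2, d2'⟩ := (h2.meet h3).resolve_right fun e => j2 (e m2 hm2D hm2A)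
  by_cases hli : LinearIndependent K ![v1, v2]
  · obtain ⟨x3, hx3, hx3'⟩ := h3.hx
    obtain ⟨z3, hz3⟩ := h3.hz
    have := mem_span_pair hz3 hx3 hx3' hli d1 d1' d2 d2' hb h3.hB
    refine j3 (LinearMap.mem_ker.mp ((Submodule.span_le (p := LinearMap.ker π)).mpr ?_ this))
    rintro _ ⟨i, rfl⟩
    fin_cases i
    · exact hπ1 v1 c1 c1'
    · exact hπ2 v2 c2 c2'
  · rw [LinearIndependent.pair_iff' hv1ne] at hli
    push Not at hli
    obtain ⟨a, ha⟩ := hli
    have e1 : tri F b2 b2 v1 = 0 ∧ B2 v1 = 0 := by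
      have ha0 : a ≠ 0 := by rintro rfl; simp at ha; exact hv2ne ha.symm
      rw [← ha, map_smul, smul_eq_mul] at c2 c2'
      exact ⟨(mul_eq_zero.mp c2).resolve_left ha0, (mul_eq_zero.mp c2').resolve_left ha0⟩
    have := huniq v1 c1 c1' e1.1 e1.2
    rw [LinearIndependent.pair_iff' hv] at this
    push Not at this
    obtain ⟨c, hc⟩ := this
    rw [← hc, map_smul, smul_eq_mul] at d1
    exact j4 ((mul_eq_zero.mp d1).resolve_left (by rintro rfl; simp at hc; exact hv1ne hc.symm))

/-- An irreducible cubic surface which is not a cone has a smooth point which is not split. -/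
theorem CubicNC.exists_not_splitAt (h : CubicNC F) :
    ∃ b y, tri F b b b = 0 ∧ tri F b b y ≠ 0 ∧ ¬ SplitAt F b := by
  by_contra hc
  push Not at hc
  have hT := tri_sym3 F
  obtain ⟨z, u, b0, hb0, hφ⟩ := h.exists_second_ne
  refine h.no_doubleLines hb0 hφ fun b hb hφb => ?_
  have hw : tri F b b (tvec F z u b) = 0 := tvec_mem z u b
  obtain ⟨y, hy⟩ : ∃ y, tri F b b y ≠ 0 := by
    by_contra hy
    push Not at hy
    exact hφb (by simp [tvec, hy])
  obtain ⟨R₀, R₁, R₂, h0, h1, hR⟩ := h.split_data hb hy (hc b y hb hy)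
  set w := tvec F z u b with hwdef
  have hq := (hR w hw).2
  have hq0 : R₀ w * R₁ w * R₂ b ≠ 0 := hq ▸ mul_ne_zero three_ne_zero hφb
  have hw0 : R₀ w ≠ 0 := left_ne_zero_of_mul (left_ne_zero_of_mul hq0)
  have hw1 : R₁ w ≠ 0 := right_ne_zero_of_mul (left_ne_zero_of_mul hq0)
  have h2 : R₂ b ≠ 0 := right_ne_zero_of_mul hq0
  by_cases hdep : ∀ x, tri F b b x = 0 → R₁ x = R₁ w / R₀ w * R₀ x
  · refine ⟨(R₁ w / R₀ w) • R₂, R₀, fun x hx => ?_, h0, ?_, ⟨w, hw, hw0⟩, hb, ⟨y, hy⟩⟩
    · rw [(hR x hx).1, hdep x hx]; simp; ring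
    · simp [hw0, hw1, h2]
  exfalso
  push Not at hdep
  obtain ⟨x, hx, hxne⟩ := hdep
  -- triangle
  let f2' := x - (R₀ x / R₀ w) • w
  have hf0 : R₀ f2' = 0 := by simp [f2', div_mul_cancel₀ _ hw0]
  have hf1 : R₁ f2' ≠ 0 := by
    intro e
    apply hxne
    simp [f2'] at e
    field_simp
    field_simp at e
    linear_combination e
  have hfD : tri F b b f2' = 0 := by simp [f2', hx, hw]
  set f2 := (R₁ f2')⁻¹ • f2' with hf2
  set f1 := (R₀ w)⁻¹ • (w - R₁ w • f2) with hf1def
  set e0 := (R₂ b)⁻¹ • b with he0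
  set e2 := f2 - R₂ f2 • e0 with he2
  set e1 := f1 - R₂ f1 • e0 with he1
  have a00 : R₀ e0 = 0 := by simp [he0, h0]
  have a10 : R₁ e0 = 0 := by simp [he0, h1]
  have a20 : R₂ e0 = 1 := by simp [he0, h2]
  have a22 : R₂ e2 = 0 := by simp [he2, a20]
  have a21 : R₂ e1 = 0 := by simp [he1, a20]
  have a02 : R₀ e2 = 0 := by simp [he2, a00, hf2, hf0]
  have a12 : R₁ e2 = 1 := by simp [he2, a10, hf2, hf1]
  have a01 : R₀ e1 = 1 := by simp [he1, a00, hf1def, hf2, hf0, hw0]
  have a11 : R₁ e1 = 0 := by simp [he1, a10, hf1def, hf2, hf1]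
  have De0 : tri F b b e0 = 0 := by simp [he0, hb]
  have Df2 : tri F b b f2 = 0 := by simp [hf2, hfD]
  have De2 : tri F b b e2 = 0 := by simp [he2, Df2, De0]
  have De1 : tri F b b e1 = 0 := by simp [he1, hf1def, Df2, hw, De0]
  have hD0 : tri F e0 e0 y ≠ 0 := by simp [he0, hy, h2]
  set zz := (3 * tri F e0 e0 y)⁻¹ • y with hzz
  have hzz0 : 3 * tri F e0 e0 zz = 1 := by
    simp [hzz]; field_simp
  have Dzz : tri F b b zz ≠ 0 := by simp [hzz, hy, hD0]
  have hli : LinearIndependent K ![e0, e1, e2, zz] := by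
    rw [Fintype.linearIndependent_iff]
    intro g hg
    simp only [Fin.sum_univ_four, Matrix.cons_val_zero, Matrix.cons_val_one, Matrix.cons_val] at hg
    have g3 : g 3 = 0 := by
      have := congrArg (tri F b b) hg
      simpa [De0, De1, De2, Dzz] using this
    simp only [g3, zero_smul, add_zero] at hg
    have g0 : g 0 = 0 := by simpa [a20, a21, a22] using congrArg R₂ hg
    have g1 : g 1 = 0 := by simpa [a00, a01, a02] using congrArg R₀ hg
    have g2 : g 2 = 0 := by simpa [a10, a11, a12] using congrArg R₁ hg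
    intro i; fin_cases i <;> assumption
  have hsec : ∀ s t r : K, tri F (s • e0 + t • e1 + r • e2) (s • e0 + t • e1 + r • e2) (s • e0 + t • e1 + r • e2) =
      s * t * r := by
    intro s t r
    rw [(hR (s • e0 + t • e1 + r • e2) (by simp [De0, De1, De2])).1]
    simp [a00, a01, a02, a10, a11, a12, a20, a21, a22]
    ring
  refine triangle_false h hli (q11 := 3 * tri F e1 e1 zz) (q22 := 3 * tri F e2 e2 zz)
    (q01 := 6 * tri F e0 e1 zz) (q02 := 6 * tri F e0 e2 zz) (q12 := 6 * tri F e1 e2 zz)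
    (q03 := 3 * tri F e0 zz zz) (q13 := 3 * tri F e1 zz zz) (q23 := 3 * tri F e2 zz zz)
    (q33 := tri F zz zz zz) (fun s t r q => ?_) fun c v hc' hv => hc c v hc' hv
  have hexp := hT.expand (1 : K) q (s • e0 + t • e1 + r • e2) zz
  rw [one_smul, hsec] at hexp
  rw [hexp]
  simp only [map_add, map_smul, LinearMap.add_apply, LinearMap.smul_apply, smul_eq_mul,
    hT.s12 e1 e0, hT.s12 e2 e0, hT.s12 e2 e1]
  linear_combination (s ^ 2 * q) * hzz0

end Groth.L14.Cubic
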