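import Groth.Agent.L14.Cubic.Flex
import Groth.Prelude.Def_W4c5monodromycubicsHesse

/-!
Hesse normal form of smooth plane cubics.
-/

open MvPolynomial Module

namespace Groth.L14.Cubic

theorem exists_omega : ∃ ω : ℂ, ω ^ 2 + ω + 1 = 0 := by
  obtain ⟨s, hs⟩ := IsAlgClosed.exists_eq_mul_self (discrim (1 : ℂ) 1 1)
  obtain ⟨t, ht⟩ := exists_quadratic_eq_zero (one_ne_zero : (1 : ℂ) ≠ 0) ⟨s, hs⟩
  exact ⟨t, by linear_combination ht⟩

/-- A fixed primitive cube root of unity. -/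
noncomputable def om : ℂ := exists_omega.choose

theorem om_eq : om ^ 2 + om + 1 = 0 := exists_omega.choose_spec

theorem om_cube : om ^ 3 = 1 := by linear_combination (om - 1) * om_eq

theorem om_ne_one : om ≠ 1 := by
  intro h
  have := om_eq
  rw [h] at this
  norm_num at this

theorem eval_form (k : ℂ) (v : Fin 3 → ℂ) :
    eval v (HesseCubic.form k) = v 0 ^ 3 + v 1 ^ 3 + v 2 ^ 3 - 3 * k * (v 0 * v 1 * v 2) := by
  simp [HesseCubic.form]

theorem form_homog (k : ℂ) : (HesseCubic.form k).IsHomogeneous 3 := by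
  have hp : ∀ i : Fin 3, (X i ^ 3 : MvPolynomial (Fin 3) ℂ).IsHomogeneous 3 := fun i => by
    simpa using (isHomogeneous_X ℂ i).pow 3
  exact (((hp 0).add (hp 1)).add (hp 2)).sub
    ((((isHomogeneous_X ℂ 0).mul (isHomogeneous_X ℂ 1)).mul (isHomogeneous_X ℂ 2)).C_mul _)

theorem tri_form_xxy (k : ℂ) (v u : Fin 3 → ℂ) : tri (HesseCubic.form k) v v u =
    (v 0 ^ 2 - k * v 1 * v 2) * u 0 + (v 1 ^ 2 - k * v 0 * v 2) * u 1 + (v 2 ^ 2 - k * v 0 * v 1) * u 2 := by
  have h := tri_xxy (form_homog k) v u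
  simp only [eval_form, Pi.add_apply, Pi.sub_apply] at h
  linear_combination h / 6

theorem tri_form (k : ℂ) (u v w : Fin 3 → ℂ) : tri (HesseCubic.form k) u v w =
    u 0 * v 0 * w 0 + u 1 * v 1 * w 1 + u 2 * v 2 * w 2 -
      k / 2 * (u 0 * v 1 * w 2 + u 0 * v 2 * w 1 + u 1 * v 0 * w 2 + u 1 * v 2 * w 0 + u 2 * v 0 * w 1 +
        u 2 * v 1 * w 0) := by
  have h := tri_xzy (f := HesseCubic.form k) u v w
  simp only [tri_form_xxy, Pi.add_apply, Pi.sub_apply] at h
  linear_combination h / 4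

theorem form_smooth (k : ℂ) (hk : k ^ 3 ≠ 1) (v : Fin 3 → ℂ) (hv : v ≠ 0)
    (h : ∀ u, tri (HesseCubic.form k) v v u = 0) : False := by
  have h0 := h ![1, 0, 0]
  have h1 := h ![0, 1, 0]
  have h2 := h ![0, 0, 1]
  simp [tri_form_xxy] at h0 h1 h2
  have hp : (v 0 * v 1 * v 2) ^ 2 * (1 - k ^ 3) = 0 := by
    linear_combination (v 1 ^ 2 * v 2 ^ 2) * h0 + (k * v 1 * v 2 * v 2 ^ 2) * h1 +
      (k ^ 2 * v 1 * v 2 * v 0 * v 2) * h2
  have hp0 : v 0 * v 1 * v 2 = 0 := by
    have := (mul_eq_zero.mp hp).resolve_right (sub_ne_zero.mpr (Ne.symm hk))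
    exact pow_eq_zero_iff (by norm_num) |>.mp this
  have e0 : v 0 ^ 3 = 0 := by linear_combination v 0 * h0 + k * hp0
  have e1 : v 1 ^ 3 = 0 := by linear_combination v 1 * h1 + k * hp0
  have e2 : v 2 ^ 3 = 0 := by linear_combination v 2 * h2 + k * hp0
  apply hv
  funext i
  fin_cases i
  · exact eq_zero_of_pow_eq_zero e0
  · exact eq_zero_of_pow_eq_zero e1
  · exact eq_zero_of_pow_eq_zero e2

theorem curve_form (k : ℂ) (hk : k ^ 3 ≠ 1) : Curve (tri (HesseCubic.form k)) :=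
  ⟨tri_swap12 _, tri_swap23 _, form_smooth k hk⟩

variable {f : MvPolynomial (Fin 3) ℂ} (hf : f.IsHomogeneous 3)
  (hsm : ∀ v : Fin 3 → ℂ, v ≠ 0 → eval v f = 0 → ∃ i : Fin 3, eval v (pderiv i f) ≠ 0)
include hf hsm

theorem exists_weierstrass : ∃ (P : (Fin 3 → ℂ) →ₗ[ℂ] (Fin 3 → ℂ)) (c a e h : ℂ), Function.Injective P ∧
    c ≠ 0 ∧ a ≠ 0 ∧
    ∀ x, eval (P x) f = c * x 0 ^ 3 + a * x 1 ^ 2 * x 2 + e * x 0 * x 2 ^ 2 + h * x 2 ^ 3 := by
  obtain ⟨O, hO, w, hw, h0, h1, h2⟩ := exists_flex hf hsm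
  obtain ⟨z, hz⟩ := exists_not_mem_pair O w
  have htop := span3_eq_top hw hz
  have hS := curve_tri hf hsm
  set T := tri f with hT
  have lift : ∀ v, T v v O = 0 → T v v w = 0 → T v v z = 0 → ∀ u, T v v u = 0 := by
    intro v a b d u
    obtain ⟨g, rfl⟩ := (Submodule.mem_span_range_iff_exists_fun ℂ).mp
      (htop ▸ Submodule.mem_top : u ∈ Submodule.span ℂ (Set.range ![O, w, z]))
    simp [Fin.sum_univ_three, a, b, d]
  have hα : T O O z ≠ 0 := fun h => hS.smooth O hO (lift O h0 h1 h)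
  have r : T O w O = 0 := by rw [hS.s23, h1]
  have hc : T w w w ≠ 0 := by
    intro hc
    obtain ⟨t, ht⟩ : ∃ t : ℂ, T O O z * (t * t) + 2 * T O w z * t + T w w z = 0 := by
      obtain ⟨s, hs⟩ := IsAlgClosed.exists_eq_mul_self (discrim (T O O z) (2 * T O w z) (T w w z))
      exact exists_quadratic_eq_zero hα ⟨s, hs⟩
    refine hS.smooth (w + t • O) ?_ (lift _ ?_ ?_ ?_)
    · intro h
      exact one_ne_zero (LinearIndependent.pair_iff.mp hw t 1 (by rw [one_smul, add_comm]; exact h)).2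
    · simp only [map_add, map_smul, LinearMap.add_apply, LinearMap.smul_apply, smul_eq_mul,
        hS.s12 w O, h0, h1, h2, r, show T w w O = 0 by rw [hS.s23, hS.s12, h2]]
      ring
    · simp only [map_add, map_smul, LinearMap.add_apply, LinearMap.smul_apply, smul_eq_mul,
        hS.s12 w O, h1, h2, hc]
      ring
    · simp only [map_add, map_smul, LinearMap.add_apply, LinearMap.smul_apply, smul_eq_mul, hS.s12 w O]
      linear_combination ht
  -- normalise the basis
  set w' := w + (-(T O w z) / T O O z) • O with hw'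
  have a1 : T O O w' = 0 := by simp [hw', h0, h1]
  have a2 : T O w' w' = 0 := by simp [hw', h0, h1, h2, r]
  have a3 : T O w' z = 0 := by
    simp only [hw', map_add, map_smul, LinearMap.add_apply, LinearMap.smul_apply, smul_eq_mul]
    field_simp
    ring
  have a4 : T w' w' w' = T w w w := by
    simp [hw', h0, h1, h2, r, hS.s12 w O, show T w w O = 0 by rw [hS.s23, hS.s12, h2]]
  set d := -(T w' w' z) / T w' w' w' with hd
  set z₁ := z + d • w' with hz₁
  have b1 : T O O z₁ = T O O z := by simp [hz₁, a1]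
  have b2 : T O w' z₁ = 0 := by simp [hz₁, a2, a3]
  have b3 : T w' w' z₁ = 0 := by
    simp only [hz₁, map_add, map_smul, smul_eq_mul, hd]
    field_simp [show T w' w' w' ≠ 0 by rw [a4]; exact hc]
    ring
  set z₂ := z₁ + (-(T O z₁ z₁) / (2 * T O O z)) • O with hz₂
  have r1 : T O z₁ O = T O O z := by rw [hS.s23, b1]
  have r2 : T O w' O = 0 := by rw [hS.s23, a1]
  have c1 : T O O z₂ = T O O z := by simp [hz₂, h0, b1]
  have c2 : T O w' z₂ = 0 := by simp [hz₂, b2, r2]
  have c3 : T w' w' z₂ = 0 := by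
    simp [hz₂, b3, show T w' w' O = 0 by rw [hS.s23, hS.s12, a2]]
  have c4 : T O z₂ z₂ = 0 := by
    simp only [hz₂, map_add, map_smul, LinearMap.add_apply, LinearMap.smul_apply, smul_eq_mul, b1, r1, h0]
    field_simp
    ring
  set P := (LinearMap.proj 0 : (Fin 3 → ℂ) →ₗ[ℂ] ℂ).smulRight w' + (LinearMap.proj 1).smulRight O +
    (LinearMap.proj 2).smulRight z₂ with hP
  refine ⟨P, T w w w, 3 * T O O z, 3 * T w' z₂ z₂, T z₂ z₂ z₂, ?_, hc, mul_ne_zero three_ne_zero hα, fun x => ?_⟩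
  · rw [injective_iff_map_eq_zero]
    intro x hx
    simp [hP] at hx
    have e2 := congrArg (T O O) hx
    simp [a1, c1, h0, hα] at e2
    rw [e2, zero_smul, add_zero] at hx
    have hx' : (x 1 + x 0 * (-(T O w z) / T O O z)) • O + x 0 • w = 0 := by
      rw [← hx, hw']; module
    obtain ⟨e1, e0⟩ := LinearIndependent.pair_iff.mp hw _ _ hx'
    rw [e0, zero_mul, add_zero] at e1
    funext i; fin_cases i <;> assumption
  · rw [eval_eq_tri hf, ← hT]
    simp only [hP, LinearMap.add_apply, LinearMap.smulRight_apply, LinearMap.proj_apply, map_add, map_smul,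
      LinearMap.smul_apply, smul_eq_mul,
      h0, a1, a2, a4, c1, c2, c3, c4, r2,
      show T O z₂ O = T O O z by rw [hS.s23, c1],
      show T O z₂ w' = 0 by rw [hS.s23, c2],
      show T w' O O = 0 by rw [hS.s12, r2],
      show T w' O w' = 0 by rw [hS.s12, a2],
      show T w' w' O = 0 by rw [hS.s23, hS.s12, a2],
      show T w' O z₂ = 0 by rw [hS.s12, c2],
      show T w' z₂ O = 0 by rw [hS.s23, hS.s12, c2],
      show T w' z₂ w' = 0 by rw [hS.s23, c3],
      show T z₂ O O = T O O z by rw [hS.s12, hS.s23, c1],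
      show T z₂ O w' = 0 by rw [hS.s12, hS.s23, c2],
      show T z₂ O z₂ = 0 by rw [hS.s12, c4],
      show T z₂ w' O = 0 by rw [hS.s23, hS.s12, hS.s23, c2],
      show T z₂ w' w' = 0 by rw [hS.s12, hS.s23, c3],
      show T z₂ z₂ O = 0 by rw [hS.s23, hS.s12, c4],
      show T z₂ w' z₂ = T w' z₂ z₂ by rw [hS.s12],
      show T z₂ z₂ w' = T w' z₂ z₂ by rw [hS.s23, hS.s12]]
    ring

omit hf hsm in
theorem vvu_zero {g : MvPolynomial (Fin 3) ℂ} (hg : g.IsHomogeneous 3) (v u : Fin 3 → ℂ)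
    (h : eval (v + u) g - eval (v - u) g - 2 * eval u g = 0) : tri g v v u = 0 := by
  have := tri_xxy hg v u
  linear_combination this / 6 + h / 6

theorem hesse_normal : ∃ (A : Matrix (Fin 3) (Fin 3) ℂ) (k c : ℂ), IsUnit A.det ∧ k ^ 3 ≠ 1 ∧ k ≠ 0 ∧ c ≠ 0 ∧
    ∀ x, eval (A.mulVec x) f = c * eval x (HesseCubic.form k) := by
  obtain ⟨P, c, a, e, h, hinj, hc, ha, hP⟩ := exists_weierstrass hf hsm
  have hS := curve_tri hf hsm
  have hsurj : Function.Surjective P := LinearMap.injective_iff_surjective.mp hinj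
  have hsing : ∀ x : Fin 3 → ℂ, x ≠ 0 →
      (∀ y, eval (P (x + y)) f - eval (P (x - y)) f - 2 * eval (P y) f = 0) → False := by
    intro x hx hy
    refine hS.smooth (P x) (fun h0 => hx (hinj (by rw [h0, map_zero]))) fun u => ?_
    obtain ⟨y, rfl⟩ := hsurj u
    exact vvu_zero hf _ _ (by rw [← map_add, ← map_sub]; exact hy y)
  obtain ⟨r, hr, hg0, hrel⟩ : ∃ r : ℂ, r ≠ 0 ∧ c * r ^ 3 + e * r + h ≠ 0 ∧
      (3 * c * r ^ 2 + e) ^ 2 = 4 * (c * r ^ 3 + e * r + h) * (3 * c * r) := by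
    obtain ⟨r, hr, hroot⟩ : ∃ r : ℂ, r ≠ 0 ∧
        3 * c ^ 2 * r ^ 4 + 6 * c * e * r ^ 2 + 12 * c * h * r - e ^ 2 = 0 := by
      by_cases he : e = 0
      · obtain ⟨r, hr⟩ := IsAlgClosed.exists_pow_nat_eq (-(4 * h) / c) (n := 3) (by norm_num)
        refine ⟨r, fun h0 => ?_, ?_⟩
        · have hh : h = 0 := by
            rw [h0] at hr
            have := hr.symm
            simpa [hc] using this
          refine hsing ![0, 0, 1] (by simp) fun y => ?_
          simp only [hP, he, hh, Pi.add_apply, Pi.sub_apply, Matrix.cons_val_zero, Matrix.cons_val_one, Matrix.cons_val]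
          ring
        · rw [he]
          field_simp at hr
          linear_combination 3 * c * r * hr
      · obtain ⟨r, hr⟩ := IsAlgClosed.exists_root
          (Polynomial.C (3 * c ^ 2) * Polynomial.X ^ 4 + Polynomial.C (6 * c * e) * Polynomial.X ^ 2 +
            Polynomial.C (12 * c * h) * Polynomial.X - Polynomial.C (e ^ 2)) (by
            rw [show Polynomial.degree _ = (4 : ℕ) from ?_]
            · decide
            · compute_degree!)
        have hr' : 3 * c ^ 2 * r ^ 4 + 6 * c * e * r ^ 2 + 12 * c * h * r - e ^ 2 = 0 := by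
          simpa [Polynomial.IsRoot] using hr
        refine ⟨r, fun h0 => he ?_, hr'⟩
        rw [h0] at hr'
        exact eq_zero_of_pow_eq_zero (n := 2) (by linear_combination -hr')
    refine ⟨r, hr, fun hg => ?_, by linear_combination -hroot⟩
    have hg1 : 3 * c * r ^ 2 + e = 0 :=
      eq_zero_of_pow_eq_zero (n := 2) (by linear_combination -hroot + 12 * c * r * hg)
    refine hsing ![r, 0, 1] (by simp) fun y => ?_
    simp only [hP, Pi.add_apply, Pi.sub_apply, Matrix.cons_val_zero, Matrix.cons_val_one, Matrix.cons_val]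
    linear_combination 6 * y 2 * hg + 2 * (y 0 - r * y 2) * hg1
  set g0 := c * r ^ 3 + e * r + h with hg0def
  obtain ⟨y0, hy0⟩ := IsAlgClosed.exists_eq_mul_self (-g0 / a)
  have hy0ne : y0 ≠ 0 := by
    intro h0; rw [h0, mul_zero, div_eq_zero_iff, neg_eq_zero] at hy0; exact hy0.elim hg0 ha
  have hy0' : a * (y0 * y0) = -g0 := by rw [← hy0]; field_simp
  set s := -(3 * c * r ^ 2 + e) / (2 * a * y0) with hs
  have hsne : s ≠ 0 := by
    have hg1 : 3 * c * r ^ 2 + e ≠ 0 := by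
      intro h0
      rw [h0] at hrel
      have : g0 * (c * r) = 0 := by linear_combination -hrel / 12
      exact (mul_ne_zero hg0 (mul_ne_zero hc hr)) this
    rw [hs]
    exact div_ne_zero (neg_ne_zero.mpr hg1) (mul_ne_zero (mul_ne_zero two_ne_zero ha) hy0ne)
  have hsy : 3 * c * r ^ 2 + e = -(2 * a * s * y0) := by rw [hs]; field_simp
  have hs2 : a * s ^ 2 = -(3 * c * r) := by
    have h1 : (2 * a * s * y0) ^ 2 = 4 * g0 * (3 * c * r) := by rw [← hrel, hsy]; ring
    have h2 : (a * s ^ 2 + 3 * c * r) * g0 = 0 := by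
      linear_combination -h1 / 4 + a * s ^ 2 * hy0'
    exact eq_neg_of_add_eq_zero_left ((mul_eq_zero.mp h2).resolve_right hg0)
  -- coordinates with respect to the triangle of tangents
  let Φ : (Fin 3 → ℂ) → (Fin 3 → ℂ) := fun u =>
    ![u 0 + u 1 + u 2 - r * (s / y0) * u 2, s * (u 1 - u 0), -(s / y0) * u 2]
  have hΦ : ∀ u, eval (P (Φ u)) f = 4 * a * s ^ 3 / y0 * (u 0 * u 1 * u 2) + c * (u 0 + u 1 + u 2) ^ 3 := by
    intro u
    rw [hP]
    simp only [Φ, Matrix.cons_val_zero, Matrix.cons_val_one, Matrix.cons_val]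
    set S := u 0 + u 1 + u 2 with hS'
    set q := s / y0 with hq
    have hqy : q * y0 = s := by rw [hq]; field_simp
    rw [show 4 * a * s ^ 3 / y0 * (u 0 * u 1 * u 2) = 4 * a * s ^ 2 * q * (u 0 * u 1 * u 2) by
      rw [hq]; field_simp]
    have hy0'' : a * (y0 * y0) = -(c * r ^ 3 + e * r + h) := hy0'
    linear_combination (-S ^ 2 * q * u 2) * hs2 + (S * q ^ 2 * u 2 ^ 2) * hsy - (q ^ 3 * u 2 ^ 3) * hy0'' +
      (-2 * a * s * S * q * u 2 ^ 2 + a * q * u 2 ^ 3 * (q * y0 + s)) * hqy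
  set ν := 4 * a * s ^ 3 / y0 with hν
  have hνne : ν ≠ 0 := div_ne_zero (mul_ne_zero (mul_ne_zero (by norm_num) ha) (pow_ne_zero _ hsne)) hy0ne
  set μ := c / ν with hμ
  have h27 : 27 * μ + 1 ≠ 0 := by
    intro h0
    have h0' : ν + 27 * c = 0 := by
      rw [hμ] at h0
      field_simp at h0
      linear_combination h0
    refine hsing (Φ ![1, 1, 1]) ?_ fun y => ?_
    · intro hz
      have := congrFun hz 2
      simp [Φ, hsne, hy0ne] at this
    · obtain ⟨u, rfl⟩ : ∃ u, Φ u = y := by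
        refine ⟨![((y 0 - r * y 2) + (y0 / s) * y 2 - y 1 / s) / 2,
          ((y 0 - r * y 2) + (y0 / s) * y 2 + y 1 / s) / 2, -(y0 / s) * y 2], ?_⟩
        funext i
        fin_cases i <;> simp [Φ] <;> field_simp <;> ring
      have hadd : Φ ![1, 1, 1] + Φ u = Φ (![1, 1, 1] + u) := by
        funext i; fin_cases i <;> simp only [Φ, Pi.add_apply, Pi.sub_apply, Pi.smul_apply, smul_eq_mul, Fin.zero_eta, Fin.mk_one, Fin.reduceFinMk, Matrix.cons_val_zero, Matrix.cons_val_one, Matrix.cons_val] <;> ring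
      have hsub : Φ ![1, 1, 1] - Φ u = Φ (![1, 1, 1] - u) := by
        funext i; fin_cases i <;> simp only [Φ, Pi.add_apply, Pi.sub_apply, Pi.smul_apply, smul_eq_mul, Fin.zero_eta, Fin.mk_one, Fin.reduceFinMk, Matrix.cons_val_zero, Matrix.cons_val_one, Matrix.cons_val] <;> ring
      rw [hadd, hsub, hΦ, hΦ, hΦ]
      simp only [Pi.add_apply, Pi.sub_apply, Matrix.cons_val_zero, Matrix.cons_val_one, Matrix.cons_val]
      linear_combination 2 * (u 0 + u 1 + u 2) * h0'
  obtain ⟨k, hk⟩ := IsAlgClosed.exists_pow_nat_eq (1 / (27 * μ + 1)) (n := 3) (by norm_num)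
  have hk' : k ^ 3 * (27 * μ + 1) = 1 := by rw [hk]; field_simp
  have hk0 : k ≠ 0 := by rintro rfl; simp at hk'
  have hk1 : k ^ 3 ≠ 1 := by
    intro h1
    rw [h1, one_mul] at hk'
    have : μ = 0 := by linear_combination hk' / 27
    exact div_ne_zero hc hνne this
  let Ψ : Matrix (Fin 3) (Fin 3) ℂ := !![k, 1, 1; om ^ 2 * (k * om), om ^ 2, om ^ 2 * om ^ 2;
    om * (k * om ^ 2), om, om * om ^ 4]
  have hΨ : ∀ x, eval (P (Φ (Ψ.mulVec x))) f = ν * eval x (HesseCubic.form k) := by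
    intro x
    rw [hΦ, eval_form]
    have h3 := om_cube
    have e4 : om ^ 4 = om := by linear_combination om * h3
    have u0 : Ψ.mulVec x 0 = k * x 0 + x 1 + x 2 := by
      simp [Ψ, Matrix.mulVec, dotProduct, Fin.sum_univ_three]
    have u1 : Ψ.mulVec x 1 = k * x 0 + om ^ 2 * x 1 + om * x 2 := by
      simp [Ψ, Matrix.mulVec, dotProduct, Fin.sum_univ_three]
      linear_combination k * x 0 * h3 + x 2 * e4
    have u2 : Ψ.mulVec x 2 = k * x 0 + om * x 1 + om ^ 2 * x 2 := by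
      simp [Ψ, Matrix.mulVec, dotProduct, Fin.sum_univ_three]
      linear_combination k * x 0 * h3 + om * x 2 * e4
    rw [u0, u1, u2]
    have hprod : (k * x 0 + x 1 + x 2) * (k * x 0 + om ^ 2 * x 1 + om * x 2) *
        (k * x 0 + om * x 1 + om ^ 2 * x 2) = k ^ 3 * x 0 ^ 3 + x 1 ^ 3 + x 2 ^ 3 - 3 * k * (x 0 * x 1 * x 2) := by
      have e2 : (k * x 0 + om ^ 2 * x 1 + om * x 2) * (k * x 0 + om * x 1 + om ^ 2 * x 2) =
          (k * x 0) ^ 2 + x 1 ^ 2 + x 2 ^ 2 - k * x 0 * x 1 - k * x 0 * x 2 - x 1 * x 2 := by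
        linear_combination (k * x 0 * (x 1 + x 2) + x 1 * x 2) * om_eq + (x 1 ^ 2 + x 2 ^ 2 + om * x 1 * x 2) * h3
      rw [mul_assoc, e2]
      ring
    have hsum : k * x 0 + x 1 + x 2 + (k * x 0 + om ^ 2 * x 1 + om * x 2) +
        (k * x 0 + om * x 1 + om ^ 2 * x 2) = 3 * k * x 0 := by
      linear_combination (x 1 + x 2) * om_eq
    rw [hprod, hsum, show c = ν * μ by rw [hμ]; field_simp]
    linear_combination ν * x 0 ^ 3 * hk'
  let L : (Fin 3 → ℂ) →ₗ[ℂ] (Fin 3 → ℂ) :=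
    { toFun := fun x => P (Φ (Ψ.mulVec x))
      map_add' := fun x y => by
        rw [← map_add, Matrix.mulVec_add]; congr 1
        funext i; fin_cases i <;> simp only [Φ, Pi.add_apply, Pi.sub_apply, Pi.smul_apply, smul_eq_mul, Fin.zero_eta, Fin.mk_one, Fin.reduceFinMk, Matrix.cons_val_zero, Matrix.cons_val_one, Matrix.cons_val] <;> ring
      map_smul' := fun m x => by
        rw [RingHom.id_apply, ← map_smul, Matrix.mulVec_smul]; congr 1
        funext i; fin_cases i <;> simp only [Φ, Pi.add_apply, Pi.sub_apply, Pi.smul_apply, smul_eq_mul, Fin.zero_eta, Fin.mk_one, Fin.reduceFinMk, Matrix.cons_val_zero, Matrix.cons_val_one, Matrix.cons_val] <;> ring }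
  refine ⟨LinearMap.toMatrix' L, k, ν, ?_, hk1, hk0, hνne, fun x => ?_⟩
  · rw [isUnit_iff_ne_zero]
    intro hdet
    obtain ⟨x, hx, hx0⟩ := Matrix.exists_mulVec_eq_zero_iff.mpr hdet
    rw [LinearMap.toMatrix'_mulVec] at hx0
    refine form_smooth k hk1 x hx fun u => ?_
    have := tri_transport hf (form_homog k) L hΨ x x u
    rw [hx0] at this
    simp [hνne] at this
    exact this
  · rw [LinearMap.toMatrix'_mulVec]
    exact hΨ x

end Groth.L14.Cubic
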