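import Mathlib.LinearAlgebra.Matrix.Determinant.Basic
import Mathlib.Tactic

/-!
The bordered skew matrix of five points in general position.
-/

namespace Groth.L14.Cubic

open Matrix

variable {S : Type*} [CommRing S]

/-- The five quadrics through the standard points. -/
def quad5 (x : Fin 4 → S) : Fin 5 → S :=
  ![x 0 * x 1 - x 0 * x 2, x 0 * x 1 - x 0 * x 3, x 1 * x 2 - x 0 * x 2, x 1 * x 3 - x 0 * x 3,
    x 2 * x 3 - x 0 * x 2]

/-- The bordered matrix. -/
def border (x : Fin 4 → S) (l : Fin 5 → S) : Matrix (Fin 6) (Fin 6) S :=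
  !![0, 0, x 0 - x 3, 0, x 1 - x 0, l 0;
     0, 0, -x 0, x 2, x 0 - x 1, l 1;
     -(x 0 - x 3), x 0, 0, -x 0, x 0, l 2;
     0, -x 2, x 0, 0, -x 0, l 3;
     -(x 1 - x 0), -(x 0 - x 1), -x 0, x 0, 0, l 4;
     -l 0, -l 1, -l 2, -l 3, -l 4, 0]

theorem border_transpose (x : Fin 4 → S) (l : Fin 5 → S) : (border x l)ᵀ = -border x l := by
  ext i j
  fin_cases i <;> fin_cases j <;> simp [border]

theorem border_diag (x : Fin 4 → S) (l : Fin 5 → S) (i : Fin 6) : border x l i i = 0 := by
  fin_cases i <;> simp [border]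

set_option maxHeartbeats 1000000 in
theorem border_det (x : Fin 4 → S) (l : Fin 5 → S) :
    (border x l).det = (∑ s, l s * quad5 x s) ^ 2 := by
  simp [border, quad5, Matrix.det_succ_row_zero, Fin.sum_univ_succ, Fin.succAbove, Matrix.vecHead, Matrix.vecTail]
  ring

end Groth.L14.Cubic
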