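import Groth.Agent.L14.Cubic.TriTools

/-!
Change of field for the polar form, and splitting of binary forms.
-/

open MvPolynomial

namespace Groth.L14.Cubic

variable {k K : Type*} [Field k] [Field K] {n : ℕ}

theorem coef_map (φ : k →+* K) (f : MvPolynomial (Fin n) k) (i j l : Fin n) :
    coef (map φ f) i j l = φ (coef f i j l) := by
  rw [coef, coef, pderiv_map, pderiv_map, pderiv_map, eval_zero, eval_zero]
  simp [constantCoeff_map, map_div₀, map_ofNat]

theorem tri_map (φ : k →+* K) (f : MvPolynomial (Fin n) k) (u v w : Fin n → k) :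
    tri (map φ f) (fun i => φ (u i)) (fun i => φ (v i)) (fun i => φ (w i)) = φ (tri f u v w) := by
  rw [tri_apply, tri_apply]
  simp [coef_map, map_sum]

/-- Linear form with coefficients mapped to the extension. -/
noncomputable def linForm (φ : k →+* K) (L : (Fin n → k) →ₗ[k] k) : MvPolynomial (Fin n) K :=
  ∑ i, C (φ (L (ev i))) * X i

theorem linForm_homogeneous (φ : k →+* K) (L : (Fin n → k) →ₗ[k] k) : (linForm φ L).IsHomogeneous 1 :=
  IsHomogeneous.sum _ _ _ fun i _ => (isHomogeneous_X K i).C_mul _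

theorem eval_linForm (φ : k →+* K) (L : (Fin n → k) →ₗ[k] k) (x : Fin n → K) :
    eval x (linForm φ L) = ∑ i, φ (L (ev i)) * x i := by
  simp [linForm]

theorem mem_span_of_vanish [Infinite K] {ℓ p : MvPolynomial (Fin n) K} (hℓ : ℓ.IsHomogeneous 1)
    (z : Fin n → K) (hz : eval z ℓ = 1) (h : ∀ x, eval x ℓ = 0 → eval x p = 0) : p ∈ Ideal.span {ℓ} := by
  have hlin : ∀ x (s : K), eval (fun i => x i - s * z i) ℓ = eval x ℓ - s * eval z ℓ := by
    intro x s
    have he := fun y => euler_eval hℓ y
    have hd : ∀ i, ∃ c, pderiv i ℓ = C c := fun i =>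
      ⟨_, totalDegree_eq_zero_iff_eq_C.mp ((totalDegree_zero_iff_isHomogeneous _).mpr hℓ.pderiv)⟩
    choose c hc using hd
    have hev : ∀ y : Fin n → K, eval y ℓ = ∑ i, y i * c i := fun y => by
      have := he y
      simp only [hc, eval_C, Nat.cast_one, one_mul] at this
      exact this.symm
    simp only [hev, sub_mul, Finset.sum_sub_distrib, Finset.mul_sum, mul_assoc]
  let π : MvPolynomial (Fin n) K →ₐ[K] MvPolynomial (Fin n) K := aeval fun i => X i - ℓ * C (z i)
  have h0 : π p = 0 := by
    refine MvPolynomial.funext fun x => ?_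
    rw [map_zero]
    have : eval x (π p) = eval (fun i => x i - eval x ℓ * z i) p := by
      have hc : (aeval x : MvPolynomial (Fin n) K →ₐ[K] K).comp π = aeval fun i => x i - eval x ℓ * z i :=
        MvPolynomial.algHom_ext fun i => by simp [π, aeval_eq_eval]
      have := DFunLike.congr_fun hc p
      simpa [aeval_eq_eval] using this
    rw [this]
    exact h _ (by rw [hlin, hz, mul_one, sub_self])
  have hq : (Ideal.Quotient.mkₐ K (Ideal.span {ℓ})).comp π = Ideal.Quotient.mkₐ K (Ideal.span {ℓ}) :=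
    MvPolynomial.algHom_ext fun i => by
      simp only [AlgHom.comp_apply, π, aeval_X, Ideal.Quotient.mkₐ_eq_mk]
      rw [Ideal.Quotient.eq]
      simp only [sub_sub_cancel_left, Submodule.neg_mem_iff]
      exact Ideal.mul_mem_right _ _ (Ideal.subset_span rfl)
  have := DFunLike.congr_fun hq p
  rw [AlgHom.comp_apply, h0, map_zero] at this
  exact Ideal.Quotient.eq_zero_iff_mem.mp this.symm

variable [IsAlgClosed K]

theorem quad_split (a b c : K) : ∃ r r' s s' : K, ∀ x y : K,
    a * y ^ 2 + b * x * y + c * x ^ 2 = (r * x + r' * y) * (s * x + s' * y) := by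
  by_cases ha : a = 0
  · exact ⟨1, 0, c, b, fun x y => by rw [ha]; ring⟩
  · obtain ⟨t, ht⟩ := IsAlgClosed.exists_root (Polynomial.C a * Polynomial.X ^ 2 + Polynomial.C b * Polynomial.X + Polynomial.C c)
      (by rw [Polynomial.degree_quadratic ha]; decide)
    have ht' : a * t ^ 2 + b * t + c = 0 := by simpa [Polynomial.IsRoot] using ht
    exact ⟨-t, 1, b + a * t, a, fun x y => by linear_combination x ^ 2 * ht'⟩

theorem cubic_split (a b c d : K) : ∃ r r' s s' u u' : K, ∀ x y : K,
    a * y ^ 3 + b * x * y ^ 2 + c * x ^ 2 * y + d * x ^ 3 =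
      (r * x + r' * y) * ((s * x + s' * y) * (u * x + u' * y)) := by
  by_cases ha : a = 0
  · obtain ⟨s, s', u, u', h⟩ := quad_split b c d
    exact ⟨1, 0, s, s', u, u', fun x y => by rw [ha, ← h]; ring⟩
  · obtain ⟨t, ht⟩ := IsAlgClosed.exists_root (Polynomial.C a * Polynomial.X ^ 3 + Polynomial.C b * Polynomial.X ^ 2 +
      Polynomial.C c * Polynomial.X + Polynomial.C d) (by rw [Polynomial.degree_cubic ha]; decide)
    have ht' : a * t ^ 3 + b * t ^ 2 + c * t + d = 0 := by simpa [Polynomial.IsRoot] using ht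
    obtain ⟨s, s', u, u', h⟩ := quad_split a (b + a * t) (c + t * (b + a * t))
    exact ⟨-t, 1, s, s', u, u', fun x y => by rw [← h]; linear_combination x ^ 3 * ht'⟩

end Groth.L14.Cubic
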