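import Groth.Agent.L14.Cubic.Section
import Groth.Agent.L14.Cubic.Split
import Mathlib.LinearAlgebra.FiniteDimensional.Lemmas
import Mathlib.LinearAlgebra.Dual.Lemmas
import Mathlib.FieldTheory.IsAlgClosed.AlgebraicClosure

/-!
Five rational points in general position on a cubic surface with a rational point.
-/

open Module

namespace Groth.L14.Cubic

variable {k : Type*} [Field k]

/-- Residual intersection of the line through `b` in direction `w`. -/
def resid (T : (Fin 4 → k) →ₗ[k] (Fin 4 → k) →ₗ[k] (Fin 4 → k) →ₗ[k] k) (b w : Fin 4 → k) : Fin 4 → k :=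
  T w w w • b + (-(3 * T b w w)) • w

theorem resid_mem {T : (Fin 4 → k) →ₗ[k] (Fin 4 → k) →ₗ[k] (Fin 4 → k) →ₗ[k] k} (hT : Sym3 T)
    {b w : Fin 4 → k} (h0 : T b b b = 0) (h1 : T b b w = 0) :
    T (resid T b w) (resid T b w) (resid T b w) = 0 := by
  rw [resid, hT.expand, h0, h1]; ring

theorem exists_dual_vanish {m : ℕ} (hm : m < 4) (v : Fin m → Fin 4 → k) :
    ∃ L : (Fin 4 → k) →ₗ[k] k, L ≠ 0 ∧ ∀ i, L (v i) = 0 := by
  have hlt : Submodule.span k (Set.range v) < ⊤ := by
    refine Ne.lt_top fun h => ?_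
    have := finrank_range_le_card (R := k) v
    rw [Set.finrank, h, finrank_top, Module.finrank_pi, Fintype.card_fin, Fintype.card_fin] at this
    omega
  obtain ⟨L, hL, hle⟩ := Submodule.exists_le_ker_of_lt_top _ hlt
  exact ⟨L, hL, fun i => LinearMap.mem_ker.mp (hle (Submodule.subset_span ⟨i, rfl⟩))⟩

theorem not_mem_span_of_dual {ι : Type*} {v : ι → Fin 4 → k} {x : Fin 4 → k} (L : (Fin 4 → k) →ₗ[k] k)
    (hv : ∀ i, L (v i) = 0) (hx : L x ≠ 0) : x ∉ Submodule.span k (Set.range v) := fun hmem =>
  hx (LinearMap.mem_ker.mp (Submodule.span_le.mpr (by rintro _ ⟨i, rfl⟩; exact hv i) hmem))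

theorem five_general {p : Fin 4 → Fin 4 → k} (hp : LinearIndependent k p) {x : Fin 4 → k}
    (hx : ∀ j : Fin 4, ∃ L : (Fin 4 → k) →ₗ[k] k, (∀ i : Fin 3, L (p (j.succAbove i)) = 0) ∧ L x ≠ 0) :
    ∀ j : Fin 5, LinearIndependent k fun i : Fin 4 => (Fin.snoc p x : Fin 5 → Fin 4 → k) (j.succAbove i) := by
  intro j
  induction j using Fin.lastCases with
  | last =>
    convert hp using 1
    funext i
    show (Fin.snoc p x : Fin 5 → Fin 4 → k) ((Fin.last 4).succAbove i) = p i
    rw [Fin.succAbove_last, Fin.snoc_castSucc]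
  | cast j =>
    have : (fun i : Fin 4 => (Fin.snoc p x : Fin 5 → Fin 4 → k) (j.castSucc.succAbove i)) =
        Fin.snoc (fun i : Fin 3 => p (j.succAbove i)) x := by
      funext i
      induction i using Fin.lastCases with
      | last =>
        rw [Fin.snoc_last]
        rw [show j.castSucc.succAbove (Fin.last 3) = Fin.last 4 by fin_cases j <;> rfl, Fin.snoc_last]
      | cast i =>
        rw [Fin.snoc_castSucc, show j.castSucc.succAbove i.castSucc = (j.succAbove i).castSucc by
          fin_cases j <;> fin_cases i <;> rfl, Fin.snoc_castSucc]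
    rw [this, linearIndependent_finSnoc]
    obtain ⟨L, hL, hLx⟩ := hx j
    exact ⟨hp.comp _ Fin.succAbove_right_injective, not_mem_span_of_dual L hL hLx⟩

variable [CharZero k]

theorem five_points_singular (T : (Fin 4 → k) →ₗ[k] (Fin 4 → k) →ₗ[k] (Fin 4 → k) →ₗ[k] k) (hT : Sym3 T)
    {a : Fin 4 → k} (ha : a ≠ 0) (hsing : ∀ v, T a a v = 0)
    (hres : ∀ L : (Fin 4 → k) →ₗ[k] k, L ≠ 0 → ∃ w, L (resid T a w) ≠ 0) :
    ∃ p : Fin 5 → Fin 4 → k, p 0 = a ∧ (∀ j, T (p j) (p j) (p j) = 0) ∧
      ∀ j : Fin 5, LinearIndependent k fun i : Fin 4 => p (j.succAbove i) := by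
  have hmem : ∀ w, T (resid T a w) (resid T a w) (resid T a w) = 0 := fun w => resid_mem hT (hsing a) (hsing w)
  obtain ⟨L1, hL1, hv1⟩ := exists_dual_vanish (k := k) (by norm_num) ![a]
  obtain ⟨w1, hw1⟩ := hres L1 hL1
  have h2 : LinearIndependent k (Fin.snoc ![a] (resid T a w1) : Fin 2 → Fin 4 → k) := by
    rw [linearIndependent_finSnoc]
    exact ⟨linearIndependent_unique_iff.mpr ha, not_mem_span_of_dual L1 hv1 hw1⟩
  obtain ⟨L2, hL2, hv2⟩ := exists_dual_vanish (k := k) (by norm_num) (Fin.snoc ![a] (resid T a w1) : Fin 2 → Fin 4 → k)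
  obtain ⟨w2, hw2⟩ := hres L2 hL2
  have h3 : LinearIndependent k
      (Fin.snoc (Fin.snoc ![a] (resid T a w1) : Fin 2 → Fin 4 → k) (resid T a w2) : Fin 3 → Fin 4 → k) := by
    rw [linearIndependent_finSnoc]
    exact ⟨h2, not_mem_span_of_dual L2 hv2 hw2⟩
  obtain ⟨L3, hL3, hv3⟩ := exists_dual_vanish (k := k) (by norm_num)
    (Fin.snoc (Fin.snoc ![a] (resid T a w1) : Fin 2 → Fin 4 → k) (resid T a w2) : Fin 3 → Fin 4 → k)
  obtain ⟨w3, hw3⟩ := hres L3 hL3
  set p : Fin 4 → Fin 4 → k := Fin.snoc (Fin.snoc (Fin.snoc ![a] (resid T a w1) : Fin 2 → Fin 4 → k)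
    (resid T a w2) : Fin 3 → Fin 4 → k) (resid T a w3) with hp_def
  have h4 : LinearIndependent k p := by
    rw [hp_def, linearIndependent_finSnoc]
    exact ⟨h3, not_mem_span_of_dual L3 hv3 hw3⟩
  choose M hM hMv using fun j : Fin 4 => exists_dual_vanish (k := k) (by norm_num) fun i : Fin 3 => p (j.succAbove i)
  have hpoly : ∀ j, IsPolyFun fun w => M j (resid T a w) := by
    intro j
    have : (fun w => M j (resid T a w)) = fun w => T w w w * M j a - (3 * T a w w) * M j w := by
      funext w; simp [resid]; ring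
    rw [this]
    exact ((IsPolyFun.tri T id id id (fun i => IsPolyFun.linear (LinearMap.proj i))
      (fun i => IsPolyFun.linear (LinearMap.proj i)) (fun i => IsPolyFun.linear (LinearMap.proj i))).mul
        (IsPolyFun.const _)).sub (((IsPolyFun.const 3).mul (IsPolyFun.tri T (fun _ => a) id id
          (fun i => IsPolyFun.const _) (fun i => IsPolyFun.linear (LinearMap.proj i))
          (fun i => IsPolyFun.linear (LinearMap.proj i)))).mul (IsPolyFun.linear (M j)))
  obtain ⟨w4, hw4⟩ := exists_all_ne_zero (Finset.univ : Finset (Fin 4)) (fun j w => M j (resid T a w)) hpoly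
    fun j _ => hres (M j) (hM j)
  have hp0 : p 0 = a := rfl
  refine ⟨Fin.snoc p (resid T a w4), rfl, fun j => ?_,
    five_general h4 fun j => ⟨M j, hMv j, hw4 j (Finset.mem_univ j)⟩⟩
  fin_cases j
  · show T (p 0) (p 0) (p 0) = 0
    rw [hp0]; exact hsing a
  all_goals exact hmem _

theorem five_points_smooth (T : (Fin 4 → k) →ₗ[k] (Fin 4 → k) →ₗ[k] (Fin 4 → k) →ₗ[k] k) (hT : Sym3 T)
    (e : (Fin 3 → k) →ₗ[k] (Fin 4 → k)) (U : (Fin 3 → k) →ₗ[k] (Fin 3 → k) →ₗ[k] (Fin 3 → k) →ₗ[k] k)
    (hU : ∀ u v w, U u v w = T (e u) (e v) (e w)) (he : Function.Injective e)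
    {z0 : Fin 4 → k} (hz0 : T (e Section.a0) (e Section.a0) z0 = 1)
    (hspan : ∀ x, T (e Section.a0) (e Section.a0) x = 0 → ∃ v, e v = x)
    (hH : ∀ v, T (e Section.a0) (e Section.a0) (e v) = 0)
    (hq : Section.qP U ≠ 0)
    (hne : ∀ μ κ : k, Section.cP U ≠ (Polynomial.C μ + Polynomial.C κ * Polynomial.X) * Section.qP U) :
    ∃ p : Fin 5 → Fin 4 → k, p 0 = e Section.a0 ∧ (∀ j, T (p j) (p j) (p j) = 0) ∧
      ∀ j : Fin 5, LinearIndependent k fun i : Fin 4 => p (j.succAbove i) := by
  classical
  open Section in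
  have hUs : Sym3 U := ⟨fun u v w => by rw [hU, hU, hT.s12], fun u v w => by rw [hU, hU, hT.s23]⟩
  have ha : ∀ v, U Section.a0 Section.a0 v = 0 := fun v => by rw [hU]; exact hH v
  set a := e Section.a0 with haa
  let D := T a a
  have hgood := mul_ne_zero hq (Section.wr_ne_zero hUs ha hq hne)
  obtain ⟨t1, h1'⟩ := exists_good_t (k := k) ({()} : Finset Unit)
    (fun _ => Section.qP U * Section.wr U) (fun _ _ => hgood)
  have ht1 := h1' () (Finset.mem_singleton_self _)
  obtain ⟨t2, ht2'⟩ := exists_good_t (k := k) (Finset.univ : Finset Bool)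
    (fun o => if o then Section.qP U * Section.wr U else Polynomial.X - Polynomial.C t1) (fun o _ => by
      cases o <;> simp [hgood, Polynomial.X_sub_C_ne_zero])
  have ht2 : (Section.qP U * Section.wr U).eval t2 ≠ 0 := by simpa using ht2' true (Finset.mem_univ _)
  have ht12 : t2 - t1 ≠ 0 := by simpa using ht2' false (Finset.mem_univ _)
  rw [Polynomial.eval_mul] at ht1 ht2
  let B : k → Fin 4 → k := fun t => e (Section.evv t (Section.phi U))
  let Z : k → Fin 4 → k := fun t => e (Section.evv t (dv (Section.phi U)))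
  let π : k → (Fin 4 → k) →ₗ[k] (Fin 4 → k) := fun t =>
    LinearMap.id - ((T (B t) (B t) a)⁻¹ • T (B t) (B t)).smulRight a
  have hπ : ∀ t, (Section.qP U).eval t ≠ 0 → (Section.wr U).eval t ≠ 0 →
      T (B t) (B t) (B t) = 0 ∧ T (B t) (B t) (Z t) = 0 ∧ T (B t) (Z t) (Z t) ≠ 0 ∧
        (∀ x, T (B t) (B t) (π t x) = 0) ∧ π t (Z t) = Z t ∧ (∀ x, D (π t x) = D x) ∧ D (B t) = 0 := by
    intro t hqt hWt
    obtain ⟨e0, e1, e2, e3⟩ := Section.tangent_facts hUs ha hq hqt hWt
    rw [hU] at e0 e1 e2 e3
    refine ⟨e0, e1, e2, fun x => ?_, ?_, fun x => ?_, hH _⟩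
    · show T (B t) (B t) (x - ((T (B t) (B t) a)⁻¹ * T (B t) (B t) x) • a) = 0
      rw [map_sub, map_smul, smul_eq_mul, mul_comm (_⁻¹) _, mul_assoc,
        inv_mul_cancel₀ (show T (B t) (B t) a ≠ 0 from e3), mul_one, sub_self]
    · show Z t - ((T (B t) (B t) a)⁻¹ * T (B t) (B t) (Z t)) • a = Z t
      rw [show T (B t) (B t) (Z t) = 0 from e1, mul_zero, zero_smul, sub_zero]
    · show D (x - ((T (B t) (B t) a)⁻¹ * T (B t) (B t) x) • a) = D x
      rw [map_sub, map_smul, show D a = 0 from hH _, smul_zero, sub_zero]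
  have hlinπ : ∀ t i, IsPolyFun fun x => π t x i := fun t i => IsPolyFun.linear ((LinearMap.proj i) ∘ₗ π t)
  have hpD : ∀ t, IsPolyFun fun x => D (π t x) := fun t => IsPolyFun.linear (D ∘ₗ π t)
  have hpQ : ∀ t, IsPolyFun fun x => T (B t) (π t x) (π t x) := fun t =>
    IsPolyFun.tri T (fun _ => B t) (π t) (π t) (fun i => IsPolyFun.const _) (hlinπ t) (hlinπ t)
  have hDres : ∀ t x, D (B t) = 0 → D (resid T (B t) (π t x)) = -(3 * T (B t) (π t x) (π t x)) * D (π t x) := by
    intro t x h
    simp [resid, h]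
  -- the point off the tangent plane
  obtain ⟨f0, f1, f2, f3, f4, f5, f6⟩ := hπ t1 (left_ne_zero_of_mul ht1) (right_ne_zero_of_mul ht1)
  obtain ⟨x3, hx3⟩ := exists_all_ne_zero (Finset.univ : Finset Bool)
    (fun o x => if o then T (B t1) (π t1 x) (π t1 x) else D (π t1 x))
    (fun o => by cases o <;> simp only [Bool.false_eq_true, if_false, if_true] <;> [exact hpD t1; exact hpQ t1])
    (fun o _ => by
      cases o
      · exact ⟨z0, by simp [f5, D, hz0]⟩
      · exact ⟨Z t1, by simp [f4, f2]⟩)
  set q3 := resid T (B t1) (π t1 x3) with hq3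
  have hq3X : T q3 q3 q3 = 0 := resid_mem hT f0 (f3 x3)
  have hq3D : D q3 ≠ 0 := by
    rw [hq3, hDres _ _ f6]
    exact mul_ne_zero (neg_ne_zero.mpr (mul_ne_zero three_ne_zero (by simpa using hx3 true (Finset.mem_univ _))))
      (by simpa using hx3 false (Finset.mem_univ _))
  set p : Fin 4 → Fin 4 → k := Fin.snoc (![a, B t1, B t2]) q3 with hp_def
  have h4 : LinearIndependent k p := by
    rw [hp_def, linearIndependent_finSnoc]
    refine ⟨?_, not_mem_span_of_dual D (fun i => ?_) hq3D⟩
    · rw [Fintype.linearIndependent_iff]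
      intro g hg
      simp only [Fin.sum_univ_three, Matrix.cons_val_zero, Matrix.cons_val_one, Matrix.cons_val, B, haa,
        ← map_smul, ← map_add] at hg
      have hv := he (hg.trans (map_zero e).symm)
      have c0 := congrFun hv 0
      have c1 := congrFun hv 1
      have c2 := congrFun hv 2
      simp only [Section.a0, Section.evv, Section.phi, Pi.add_apply, Pi.smul_apply, smul_eq_mul, Pi.zero_apply,
        Matrix.cons_val_zero, Matrix.cons_val_one, Matrix.cons_val, Polynomial.eval_mul, Polynomial.eval_X] at c0 c1 c2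
      have hg2 : g 2 = 0 := by
        have : g 2 * ((Section.qP U).eval t2 * (t2 - t1)) = 0 := by linear_combination c2 - t1 * c1
        exact (mul_eq_zero.mp this).resolve_right (mul_ne_zero (left_ne_zero_of_mul ht2) ht12)
      have hg1 : g 1 = 0 := by
        rw [hg2] at c1
        simp [left_ne_zero_of_mul ht1] at c1
        exact c1
      intro i
      fin_cases i
      · simp [hg1, hg2] at c0; exact c0
      · exact hg1
      · exact hg2
    · fin_cases i
      · exact hH _
      · exact hH _
      · exact hH _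
  choose M hM hMv using fun j : Fin 4 => exists_dual_vanish (k := k) (by norm_num) fun i : Fin 3 => p (j.succAbove i)
  have hL : ∀ j : Fin 4, j ≠ 3 → (M j ∘ₗ e) ≠ 0 := by
    intro j hj h0
    apply hM j
    refine LinearMap.ext fun x => ?_
    have hq : M j q3 = 0 := by
      have : ∃ i : Fin 3, j.succAbove i = 3 := Fin.exists_succAbove_eq (Ne.symm hj)
      obtain ⟨i, hi⟩ := this
      have := hMv j i
      rw [hi] at this
      exact this
    obtain ⟨v, hv⟩ := hspan (x - (D x / D q3) • q3) (by
      show D _ = 0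
      rw [map_sub, map_smul, smul_eq_mul, div_mul_cancel₀ _ hq3D, sub_self])
    have : M j (e v) = 0 := LinearMap.congr_fun h0 v
    rw [hv, map_sub, map_smul, hq, smul_zero, sub_zero] at this
    rw [this, LinearMap.zero_apply]
  have havoid : ∀ j : Fin 4, j ≠ 3 → Section.linP (M j ∘ₗ e) (Section.phi U) ≠ 0 ∧
      Section.linP (M j ∘ₗ e) (Section.res U) ≠ 0 := by
    intro j hj
    fin_cases j
    · exact Section.exists_avoid hUs ha hq hne _ (hL 0 (by decide)) (left_ne_zero_of_mul ht1) (hMv 0 0)
    · exact Section.exists_avoid hUs ha hq hne _ (hL 1 (by decide)) (left_ne_zero_of_mul ht2) (hMv 1 1)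
    · exact Section.exists_avoid hUs ha hq hne _ (hL 2 (by decide)) (left_ne_zero_of_mul ht1) (hMv 2 1)
    · exact absurd rfl hj
  obtain ⟨t, ht'⟩ := exists_good_t (k := k) (Finset.univ : Finset (Fin 4))
    (fun j => if j = 3 then Section.qP U * Section.wr U
      else Section.linP (M j ∘ₗ e) (Section.res U)) (fun j _ => by
      by_cases hj : j = 3
      · simp [hj, hgood]
      · simpa [hj] using (havoid j hj).2)
  have ht : (Section.qP U * Section.wr U).eval t ≠ 0 := by simpa using ht' 3 (Finset.mem_univ _)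
  rw [Polynomial.eval_mul] at ht
  obtain ⟨g0, g1, g2, g3, g4, g5, g6⟩ := hπ t (left_ne_zero_of_mul ht) (right_ne_zero_of_mul ht)
  have hresid : resid T (B t) (Z t) = e (Section.evv t (Section.res U)) := by
    have : Section.evv t (Section.res U) = U (Section.evv t (dv (Section.phi U))) (Section.evv t (dv (Section.phi U)))
        (Section.evv t (dv (Section.phi U))) • Section.evv t (Section.phi U) +
        (-(3 * U (Section.evv t (Section.phi U)) (Section.evv t (dv (Section.phi U)))
          (Section.evv t (dv (Section.phi U))))) • Section.evv t (dv (Section.phi U)) := by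
      funext i
      simp [Section.evv, Section.res, Section.eval_triP', hU]
      ring
    rw [this, map_add, map_smul, map_smul, hU, hU]
    rfl
  obtain ⟨x4, hx4⟩ := exists_all_ne_zero (Finset.univ : Finset (Option (Fin 4)))
    (fun o x => o.elim (T (B t) (π t x) (π t x))
      fun j => if j = 3 then D (π t x) else M j (resid T (B t) (π t x)))
    (fun o => by
      cases o with
      | none => exact hpQ t
      | some j =>
        simp only [Option.elim_some]
        by_cases hj : j = 3
        · simp only [hj, if_true]; exact hpD t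
        · simp only [hj, if_false]
          have : (fun x => M j (resid T (B t) (π t x))) =
              fun x => T (π t x) (π t x) (π t x) * M j (B t) - (3 * T (B t) (π t x) (π t x)) * (M j ∘ₗ π t) x := by
            funext x; simp [resid]; ring
          rw [this]
          exact ((IsPolyFun.tri T (π t) (π t) (π t) (hlinπ t) (hlinπ t) (hlinπ t)).mul (IsPolyFun.const _)).sub
            (((IsPolyFun.const 3).mul (hpQ t)).mul (IsPolyFun.linear _)))
    (fun o _ => by
      cases o with
      | none => exact ⟨Z t, by simpa [g4] using g2⟩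
      | some j =>
        by_cases hj : j = 3
        · exact ⟨z0, by simp [hj, g5, D, hz0]⟩
        · refine ⟨Z t, ?_⟩
          have h := ht' j (Finset.mem_univ _)
          rw [if_neg hj, Section.eval_linP] at h
          simpa [hj, g4, hresid] using h)
  set q4 := resid T (B t) (π t x4) with hq4
  refine ⟨Fin.snoc p q4, rfl, fun j => ?_, five_general h4 fun j => ?_⟩
  · fin_cases j
    · exact hH _
    · exact f0
    · exact (hπ t2 (left_ne_zero_of_mul ht2) (right_ne_zero_of_mul ht2)).1
    · exact hq3X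
    · exact resid_mem hT g0 (g3 x4)
  · by_cases hj : j = 3
    · subst hj
      refine ⟨D, fun i => ?_, ?_⟩
      · fin_cases i <;> exact hH _
      · rw [hq4, hDres _ _ g6]
        exact mul_ne_zero (neg_ne_zero.mpr (mul_ne_zero three_ne_zero
          (by simpa using hx4 none (Finset.mem_univ _)))) (by simpa using hx4 (some 3) (Finset.mem_univ _))
    · exact ⟨M j, hMv j, by simpa [hj] using hx4 (some j) (Finset.mem_univ _)⟩

open MvPolynomial in
theorem five_points_of_not_TPoint (F : MvPolynomial (Fin 4) k) (hF : F.IsHomogeneous 3)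
    (hirr : Irreducible (MvPolynomial.map (algebraMap k (AlgebraicClosure k)) F))
    (hcone : ¬ ∃ v : Fin 4 → k, v ≠ 0 ∧ ∑ i : Fin 4, v i • MvPolynomial.pderiv i F = 0)
    (a : Fin 4 → k) (ha : a ≠ 0) (hFa : MvPolynomial.eval a F = 0)
    (ℓ : MvPolynomial (Fin 4) (AlgebraicClosure k))
    (hℓ : ℓ = ∑ i : Fin 4, C (algebraMap k (AlgebraicClosure k) (eval a (pderiv i F))) * X i)
    (hT : ¬ ∃ L₁ L₂ L₃ : MvPolynomial (Fin 4) (AlgebraicClosure k), L₁.IsHomogeneous 1 ∧ L₂.IsHomogeneous 1 ∧
      L₃.IsHomogeneous 1 ∧ MvPolynomial.map (algebraMap k (AlgebraicClosure k)) F - L₁ * L₂ * L₃ ∈ Ideal.span {ℓ}) :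
    ∃ p : Fin 5 → Fin 4 → k, p 0 = a ∧ (∀ j, eval (p j) F = 0) ∧
      ∀ j : Fin 5, LinearIndependent k fun i : Fin 4 => p (j.succAbove i) := by
  classical
  set φ := algebraMap k (AlgebraicClosure k) with hφ
  set T := tri F with hTdef
  have hTs : Sym3 T := tri_sym3 F
  have hev : ∀ v, eval v F = T v v v := eval_eq_tri hF
  have haaa : T a a a = 0 := by rw [← hev]; exact hFa
  simp only [hev]
  by_cases hsing : ∀ v, T a a v = 0
  · -- singular point
    refine five_points_singular T hTs ha hsing fun L hL => ?_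
    by_contra hne
    push Not at hne
    by_cases hLa : L a = 0
    · have hQL : ∀ w, T a w w * L w = 0 := by
        intro w
        have := hne w
        simp [resid, hLa] at this
        rcases this with h | h <;> simp [h]
      obtain ⟨w0, hw0⟩ : ∃ w, T a w w ≠ 0 := by
        by_contra hQ
        push Not at hQ
        refine hcone ⟨a, ha, MvPolynomial.funext fun w => ?_⟩
        have h := deriv_eq_tri hF w a
        rw [show T w w a = T a w w from (hTs.r1 w a).symm, hQ, mul_zero] at h
        simpa [smul_eval] using h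
      apply hL
      refine LinearMap.ext fun v => ?_
      rw [LinearMap.zero_apply]
      have hLw0 : L w0 = 0 := (mul_eq_zero.mp (hQL w0)).resolve_left hw0
      by_contra hv
      have e1 := hQL (w0 + v)
      have e2 := hQL (w0 + (2 : k) • v)
      have e3 := hQL (w0 + (-1 : k) • v)
      simp only [map_add, map_smul, LinearMap.add_apply, LinearMap.smul_apply, smul_eq_mul, hLw0, zero_add,
        hTs.s23 a v w0] at e1 e2 e3
      have f1 := (mul_eq_zero.mp e1).resolve_right hv
      have f2 := (mul_eq_zero.mp e2).resolve_right (mul_ne_zero two_ne_zero hv)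
      have f3 := (mul_eq_zero.mp e3).resolve_right (mul_ne_zero (neg_ne_zero.mpr one_ne_zero) hv)
      exact hw0 (by linear_combination f1 - f2 / 3 + f3 / 3)
    · -- F is linear times quadratic
      have key : ∀ w, T w w w = L w * (3 * T a w w / L a) := by
        intro w
        have := hne w
        simp [resid] at this
        field_simp
        linear_combination this
      let Q : MvPolynomial (Fin 4) (AlgebraicClosure k) :=
        ∑ i, ∑ j, C (φ (3 * T a (ev i) (ev j) / L a)) * (X i * X j)
      have hfac : MvPolynomial.map φ F = linForm φ L * Q := by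
        have hk : F = (∑ i, C (L (ev i)) * X i) * ∑ i, ∑ j, C (3 * T a (ev i) (ev j) / L a) * (X i * X j) := by
          refine MvPolynomial.funext fun w => ?_
          rw [hev, key]
          conv_lhs => rw [eq_sum_ev w]
          simp only [map_sum, map_smul, LinearMap.coe_sum, Finset.sum_apply, LinearMap.smul_apply, smul_eq_mul,
            map_mul, eval_C, eval_X, Finset.mul_sum, Finset.sum_div, Finset.sum_mul]
          rw [Finset.sum_comm]
          refine Finset.sum_congr rfl fun i _ => ?_
          refine Finset.sum_congr rfl fun j _ => Finset.sum_congr rfl fun l _ => ?_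
          ring
        rw [hk]
        simp [linForm, Q, map_sum]
      rcases hirr.isUnit_or_isUnit hfac with hu | hu
      · have := hu.map constantCoeff
        simp [linForm] at this
      · have := hu.map constantCoeff
        simp [Q] at this
  -- smooth point
  push Not at hsing
  obtain ⟨z', hz'⟩ := hsing
  let D := T a a
  let z0 : Fin 4 → k := (T a a z')⁻¹ • z'
  have hz0 : D z0 = 1 := by simp [D, z0, inv_mul_cancel₀ hz']
  have hdimH : finrank k ↥(LinearMap.ker D) = 3 := by
    have := D.finrank_range_add_finrank_ker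
    rw [LinearMap.range_eq_top.mpr (LinearMap.surjective (f := D) fun h => by
      have := LinearMap.congr_fun h z0; rw [hz0] at this; exact one_ne_zero this),
      finrank_top, finrank_self, Module.finrank_pi, Fintype.card_fin] at this
    omega
  obtain ⟨u1, hu1, hu1'⟩ : ∃ u ∈ LinearMap.ker D, u ∉ Submodule.span k (Set.range ![a]) := by
    by_contra h
    push Not at h
    have h1 := Submodule.finrank_mono h
    have h2 := finrank_range_le_card (R := k) ![a]
    rw [Fintype.card_fin] at h2
    rw [hdimH] at h1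
    rw [Set.finrank] at h2
    omega
  obtain ⟨u2, hu2, hu2'⟩ : ∃ u ∈ LinearMap.ker D, u ∉ Submodule.span k (Set.range ![a, u1]) := by
    by_contra h
    push Not at h
    have h1 := Submodule.finrank_mono h
    have h2 := finrank_range_le_card (R := k) ![a, u1]
    rw [Fintype.card_fin] at h2
    rw [hdimH] at h1
    rw [Set.finrank] at h2
    omega
  rw [LinearMap.mem_ker] at hu1 hu2
  have hli3 : LinearIndependent k ![a, u1, u2] := by
    have h1 : LinearIndependent k ![a] := linearIndependent_unique_iff.mpr ha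
    have h2 : LinearIndependent k (Fin.snoc ![a] u1 : Fin 2 → _) := linearIndependent_finSnoc.mpr ⟨h1, hu1'⟩
    have e2 : (Fin.snoc ![a] u1 : Fin 2 → Fin 4 → k) = ![a, u1] := by funext i; fin_cases i <;> rfl
    rw [e2] at h2
    have h3 : LinearIndependent k (Fin.snoc ![a, u1] u2 : Fin 3 → _) := linearIndependent_finSnoc.mpr ⟨h2, hu2'⟩
    have e3 : (Fin.snoc ![a, u1] u2 : Fin 3 → Fin 4 → k) = ![a, u1, u2] := by funext i; fin_cases i <;> rfl
    rwa [e3] at h3
  have hli4 : LinearIndependent k ![a, u1, u2, z0] := by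
    have h4 : LinearIndependent k (Fin.snoc ![a, u1, u2] z0 : Fin 4 → _) := linearIndependent_finSnoc.mpr ⟨hli3,
      not_mem_span_of_dual D (fun i => by fin_cases i <;> [exact haaa; exact hu1; exact hu2]) (by rw [hz0]; exact one_ne_zero)⟩
    have e4 : (Fin.snoc ![a, u1, u2] z0 : Fin 4 → Fin 4 → k) = ![a, u1, u2, z0] := by
      funext i; fin_cases i <;> rfl
    rwa [e4] at h4
  let bb := basisOfLinearIndependentOfCardEqFinrank hli4 (by simp)
  have hbb : ∀ i, bb i = ![a, u1, u2, z0] i := fun i => by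
    simp [bb, coe_basisOfLinearIndependentOfCardEqFinrank]
  let co : Fin 4 → (Fin 4 → k) →ₗ[k] k := fun i => bb.coord i
  have hdec : ∀ x, x = co 0 x • a + co 1 x • u1 + co 2 x • u2 + co 3 x • z0 := fun x => by
    conv_lhs => rw [← bb.sum_repr x]
    simp only [Fin.sum_univ_four, hbb, Matrix.cons_val_zero, Matrix.cons_val_one, Matrix.cons_val, co,
      Basis.coord_apply]
  have hco3 : ∀ x, co 3 x = D x := fun x => by
    conv_rhs => rw [hdec x]
    simp [show D a = 0 from haaa, hu1, hu2, hz0]
  let e : (Fin 3 → k) →ₗ[k] (Fin 4 → k) := Fintype.linearCombination k ![a, u1, u2]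
  have he_app : ∀ v, e v = v 0 • a + v 1 • u1 + v 2 • u2 := fun v => by
    simp [e, Fintype.linearCombination_apply, Fin.sum_univ_three]
  have hinj : Function.Injective e := by
    rw [injective_iff_map_eq_zero]
    intro v hv
    funext i
    exact Fintype.linearIndependent_iff.mp hli3 v (by simpa [e, Fintype.linearCombination_apply] using hv) i
  let U : (Fin 3 → k) →ₗ[k] (Fin 3 → k) →ₗ[k] (Fin 3 → k) →ₗ[k] k :=
    LinearMap.mk₂ k (fun u v => (T (e u) (e v)).comp e) (fun _ _ _ => by ext; simp) (fun _ _ _ => by ext; simp)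
      (fun _ _ _ => by ext; simp) (fun _ _ _ => by ext; simp)
  have hU : ∀ u v w, U u v w = T (e u) (e v) (e w) := fun u v w => rfl
  have hea : e Section.a0 = a := by simp [he_app, Section.a0]
  have hH : ∀ v, T (e Section.a0) (e Section.a0) (e v) = 0 := fun v => by
    rw [hea, he_app]; simp [show T a a a = 0 from haaa, show T a a u1 = 0 from hu1, show T a a u2 = 0 from hu2]
  -- coefficients
  set b0 := T a u1 u1 with hb0
  set b1 := T a u1 u2 with hb1
  set b2 := T a u2 u2 with hb2
  set c0 := T u1 u1 u1 with hc0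
  set c1 := T u1 u1 u2 with hc1
  set c2 := T u1 u2 u2 with hc2
  set c3 := T u2 u2 u2 with hc3
  have hqe : ∀ t, (Section.qP U).eval t = -3 * (b0 + 2 * b1 * t + b2 * t ^ 2) := fun t => by
    rw [Section.eval_qP, hU, hea, he_app]
    simp [Section.wt, hb0, hb1, hb2, hTs.s23 a u2 u1]
    ring
  have hce : ∀ t, (Section.cP U).eval t = c0 + 3 * c1 * t + 3 * c2 * t ^ 2 + c3 * t ^ 3 := fun t => by
    rw [Section.eval_cP, hU, he_app]
    simp only [Section.wt, Matrix.cons_val_zero, Matrix.cons_val_one, Matrix.cons_val, zero_smul, zero_add]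
    rw [hTs.expand]; ring
  -- three lines lead to a T-point
  have htp : ∀ R : Fin 3 → Fin 3 → AlgebraicClosure k,
      (∀ y : Fin 3 → AlgebraicClosure k,
        φ c0 * y 1 ^ 3 + 3 * φ c1 * y 1 ^ 2 * y 2 + 3 * φ c2 * y 1 * y 2 ^ 2 + φ c3 * y 2 ^ 3 +
          3 * y 0 * (φ b0 * y 1 ^ 2 + 2 * φ b1 * y 1 * y 2 + φ b2 * y 2 ^ 2) =
        ∏ i, (∑ j, R i j * y j)) → False := by
    intro R hR
    let Li : Fin 3 → MvPolynomial (Fin 4) (AlgebraicClosure k) :=
      fun i => ∑ j, C (R i j) * linForm φ (co (Fin.castSucc j))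
    refine hT ⟨Li 0, Li 1, Li 2, ?_, ?_, ?_, ?_⟩
    iterate 3 exact IsHomogeneous.sum _ _ _ fun j _ => (linForm_homogeneous φ _).C_mul _
    have hℓ' : ∀ x, eval x ℓ = 3 * eval x (linForm φ D) := by
      intro x
      rw [hℓ, eval_linForm, map_sum, Finset.mul_sum]
      refine Finset.sum_congr rfl fun i _ => ?_
      rw [eval_mul, eval_C, eval_X, ← mul_assoc]
      congr 1
      have h3 : 3 * D (ev i) = eval a (pderiv i F) := by
        rw [show (3 : k) * D (ev i) = 3 * tri F a a (ev i) from rfl, ← deriv_eq_tri hF]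
        simp [ev]
      rw [← h3, map_mul, map_ofNat]
    have hz : eval (fun i => φ (z0 i)) (linForm φ D) = 1 := by
      rw [eval_linForm]
      simp only [← map_mul, ← map_sum]
      rw [← φ.map_one]
      congr 1
      rw [← hz0]
      conv_rhs => rw [eq_sum_ev z0]
      simp [mul_comm]
    refine mem_span_of_vanish (z := fun i => φ (z0 i) / 3) ?_ ?_ ?_
    · rw [hℓ]
      exact IsHomogeneous.sum _ _ _ fun j _ => (isHomogeneous_X _ j).C_mul _
    · rw [hℓ', eval_linForm]
      rw [eval_linForm] at hz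
      rw [← mul_one (1 : AlgebraicClosure k)]
      calc 3 * ∑ i, φ (D (ev i)) * (φ (z0 i) / 3) = ∑ i, φ (D (ev i)) * φ (z0 i) := by
            rw [Finset.mul_sum]; exact Finset.sum_congr rfl fun i _ => by ring
        _ = 1 * 1 := by rw [hz, mul_one]
    intro x hx
    rw [hℓ'] at hx
    have hDx : eval x (linForm φ D) = 0 := (mul_eq_zero.mp hx).resolve_left three_ne_zero
    set y : Fin 3 → AlgebraicClosure k := fun j => eval x (linForm φ (co (Fin.castSucc j))) with hy
    let lift : (Fin 4 → k) → (Fin 4 → AlgebraicClosure k) := fun v i => φ (v i)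
    have hxdec : x = y 0 • lift a + (1 : AlgebraicClosure k) • (y 1 • lift u1 + y 2 • lift u2) := by
      have h4 : eval x (linForm φ (co 3)) = 0 := by
        rw [show co 3 = D from LinearMap.ext hco3]; exact hDx
      funext l
      simp only [hy, eval_linForm, Pi.add_apply, Pi.smul_apply, smul_eq_mul, one_mul, lift, Finset.sum_mul,
        ← Finset.sum_add_distrib]
      rw [eval_linForm] at h4
      have hk : ∀ i, φ (ev i l) = φ (co 0 (ev i)) * φ (a l) + φ (co 1 (ev i)) * φ (u1 l) +
          φ (co 2 (ev i)) * φ (u2 l) + φ (co 3 (ev i)) * φ (z0 l) := by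
        intro i
        have := congrFun (hdec (ev i)) l
        simp only [Pi.add_apply, Pi.smul_apply, smul_eq_mul] at this
        rw [← map_mul, ← map_mul, ← map_mul, ← map_mul, ← map_add, ← map_add, ← map_add, ← this]
      have hsum : x l = ∑ i, φ (ev i l) * x i := by simp [ev, apply_ite φ]
      rw [hsum]
      have : ∑ i, φ (co 3 (ev i)) * x i * φ (z0 l) = 0 := by rw [← Finset.sum_mul, h4, zero_mul]
      rw [← sub_eq_zero]
      rw [← Finset.sum_sub_distrib, ← this]
      exact Finset.sum_congr rfl fun i _ => by rw [hk i]; simp only [Fin.castSucc_zero, Fin.castSucc_one, show Fin.castSucc (2 : Fin 3) = (2 : Fin 4) from rfl]; ring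
    have hTK : ∀ u v w, tri (MvPolynomial.map φ F) (lift u) (lift v) (lift w) = φ (T u v w) := tri_map φ F
    have hFK : (MvPolynomial.map φ F).IsHomogeneous 3 := hF.map φ
    rw [map_sub, map_mul, map_mul, eval_eq_tri hFK, sub_eq_zero]
    have hLi : ∀ i, eval x (Li i) = ∑ j, R i j * y j := fun i => by simp [Li, hy]
    have hR' := hR y
    rw [Fin.prod_univ_three] at hR'
    rw [hLi, hLi, hLi, ← hR']
    have hs := tri_sym3 (MvPolynomial.map φ F)
    rw [hxdec, hs.expand, hs.expand (y 1) (y 2)]
    simp only [map_add, map_smul, LinearMap.add_apply, LinearMap.smul_apply, smul_eq_mul, hTK,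
      show T a u2 u1 = T a u1 u2 from hTs.s23 _ _ _, haaa, show T a a u1 = 0 from hu1,
      show T a a u2 = 0 from hu2, map_zero, ← hb0, ← hb1, ← hb2, ← hc0, ← hc1, ← hc2, ← hc3]
    ring
  have hq : Section.qP U ≠ 0 := by
    intro h
    have e0 := hqe 0
    have e1 := hqe 1
    have e2 := hqe (-1)
    rw [h, Polynomial.eval_zero] at e0 e1 e2
    have hb0' : b0 = 0 := by linear_combination e0 / 3
    have hb1' : b1 = 0 := by linear_combination e1 / 12 - e2 / 12
    have hb2' : b2 = 0 := by linear_combination e1 / 6 + e2 / 6 - e0 / 3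
    obtain ⟨r, r', s, s', u, u', hs⟩ := cubic_split (φ c3) (3 * φ c2) (3 * φ c1) (φ c0)
    refine htp ![![0, r, r'], ![0, s, s'], ![0, u, u']] fun y => ?_
    simp [Fin.sum_univ_three, Fin.prod_univ_three, hb0', hb1', hb2']
    linear_combination hs (y 1) (y 2)
  refine (five_points_smooth T hTs e U hU hinj (z0 := z0) (by rw [hea]; exact hz0) (fun x hx => ?_) hH hq
    fun μ κ h => ?_).imp fun p hp => ⟨hp.1.trans hea, hp.2⟩
  · rw [hea] at hx
    refine ⟨![co 0 x, co 1 x, co 2 x], ?_⟩
    rw [he_app]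
    conv_rhs => rw [hdec x, hco3, show D x = 0 from hx, zero_smul, add_zero]
    simp
  · have ev' : ∀ t, c0 + 3 * c1 * t + 3 * c2 * t ^ 2 + c3 * t ^ 3 =
        (μ + κ * t) * (-3 * (b0 + 2 * b1 * t + b2 * t ^ 2)) := fun t => by
      rw [← hce, ← hqe, h]; simp
    have f0 := ev' 0
    have f1 := ev' 1
    have f2 := ev' (-1)
    have f3 := ev' 2
    have g0 : c0 = -3 * (μ * b0) := by linear_combination f0
    have g3 : c3 = -3 * (κ * b2) := by linear_combination (f3 - 3 * f1 + 3 * f0 - f2) / 6
    have g2 : c2 = -(μ * b2 + 2 * κ * b1) := by linear_combination (f1 + f2 - 2 * f0) / 6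
    have g1 : c1 = -(2 * μ * b1 + κ * b0) := by
      linear_combination (f1 - f2) / 6 - g3 / 3
    obtain ⟨r, r', s, s', hs⟩ := quad_split (φ b2) (2 * φ b1) (φ b0)
    refine htp ![![3, -(3 * φ μ), -(3 * φ κ)], ![0, r, r'], ![0, s, s']] fun y => ?_
    simp [Fin.sum_univ_three, Fin.prod_univ_three, g0, g1, g2, g3, map_ofNat]
    linear_combination 3 * (y 0 - φ μ * y 1 - φ κ * y 2) * hs (y 1) (y 2)

end Groth.L14.Cubic
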