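import Mathlib.RingTheory.MvPolynomial.EulerIdentity
import Mathlib.RingTheory.Derivation.Lie
import Mathlib.Algebra.MvPolynomial.Funext
import Mathlib.Analysis.Complex.Polynomial.Basic
import Mathlib.Tactic

/-!
The symmetric trilinear form of a cubic form.
-/

open MvPolynomial Finset

namespace Groth.L14.Cubic

variable {n : ℕ} {K : Type*} [Field K]

theorem pderiv_comm' {σ R : Type*} [CommRing R] (i j : σ) (f : MvPolynomial σ R) :
    pderiv i (pderiv j f) = pderiv j (pderiv i f) := by
  classical
  have h : ⁅pderiv (R := R) (σ := σ) i, pderiv (R := R) (σ := σ) j⁆ = 0 := by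
    refine MvPolynomial.derivation_ext fun k => ?_
    rw [Derivation.commutator_apply]
    simp [pderiv_X, Pi.single_apply]
    split_ifs <;> simp
  have := congrArg (fun d : Derivation R _ _ => d f) h
  simp [Derivation.commutator_apply, sub_eq_zero] at this
  exact this

/-- Third derivative coefficient divided by six. -/
noncomputable def coef (f : MvPolynomial (Fin n) K) (i j k : Fin n) : K :=
  eval 0 (pderiv i (pderiv j (pderiv k f))) / 6

/-- The polar trilinear form. -/
noncomputable def tri (f : MvPolynomial (Fin n) K) :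
    (Fin n → K) →ₗ[K] (Fin n → K) →ₗ[K] (Fin n → K) →ₗ[K] K :=
  ∑ i, ∑ j, ∑ k, coef f i j k •
    (LinearMap.proj i).smulRight ((LinearMap.proj j).smulRight (LinearMap.proj k))

theorem tri_apply (f : MvPolynomial (Fin n) K) (u v w : Fin n → K) :
    tri f u v w = ∑ i, ∑ j, ∑ k, coef f i j k * (u i * (v j * w k)) := by
  simp [tri]

theorem coef_swap12 (f : MvPolynomial (Fin n) K) (i j k : Fin n) : coef f i j k = coef f j i k := by
  rw [coef, coef, pderiv_comm' i j]

theorem coef_swap23 (f : MvPolynomial (Fin n) K) (i j k : Fin n) : coef f i j k = coef f i k j := by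
  rw [coef, coef, pderiv_comm' j k]

theorem tri_swap12 (f : MvPolynomial (Fin n) K) (u v w : Fin n → K) : tri f u v w = tri f v u w := by
  rw [tri_apply, tri_apply, Finset.sum_comm]
  refine Finset.sum_congr rfl fun i _ => Finset.sum_congr rfl fun j _ => Finset.sum_congr rfl fun k _ => ?_
  rw [coef_swap12]
  ring

theorem tri_swap23 (f : MvPolynomial (Fin n) K) (u v w : Fin n → K) : tri f u v w = tri f u w v := by
  rw [tri_apply, tri_apply]
  refine Finset.sum_congr rfl fun i _ => ?_
  rw [Finset.sum_comm]
  refine Finset.sum_congr rfl fun j _ => Finset.sum_congr rfl fun k _ => ?_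
  rw [coef_swap23]
  ring

theorem euler_eval {σ : Type*} [Fintype σ] {d : ℕ} {g : MvPolynomial σ K} (hg : g.IsHomogeneous d)
    (v : σ → K) : ∑ i, v i * eval v (pderiv i g) = d * eval v g := by
  have := congrArg (eval v) hg.sum_X_mul_pderiv
  simpa [nsmul_eq_mul] using this

variable [CharZero K] {f : MvPolynomial (Fin n) K} (hf : f.IsHomogeneous 3)
include hf

theorem deriv_eq_tri (v u : Fin n → K) :
    ∑ k, u k * eval v (pderiv k f) = 3 * tri f v v u := by
  have h1 : ∀ k j, eval v (pderiv j (pderiv k f)) = ∑ i, v i * (6 * coef f i j k) := by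
    intro k j
    have hh : (pderiv j (pderiv k f)).IsHomogeneous 1 := hf.pderiv.pderiv
    have he := euler_eval hh v
    rw [Nat.cast_one, one_mul] at he
    rw [← he]
    refine Finset.sum_congr rfl fun i _ => ?_
    have h0 : (pderiv i (pderiv j (pderiv k f))).IsHomogeneous 0 := hh.pderiv
    obtain ⟨c, hc⟩ : ∃ c, pderiv i (pderiv j (pderiv k f)) = C c :=
      ⟨_, MvPolynomial.totalDegree_eq_zero_iff_eq_C.mp ((totalDegree_zero_iff_isHomogeneous _).mpr h0)⟩
    rw [coef, hc, eval_C, eval_C]
    ring
  have h2 : ∀ k, 2 * eval v (pderiv k f) = ∑ j, v j * ∑ i, v i * (6 * coef f i j k) := by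
    intro k
    have := euler_eval (hf.pderiv (i := k)) v
    simp only [h1] at this
    rw [this]
    norm_num
  have h3 : 2 * ∑ k, u k * eval v (pderiv k f) = 6 * tri f v v u := by
    rw [tri_apply, Finset.mul_sum]
    calc ∑ k, 2 * (u k * eval v (pderiv k f)) = ∑ k, ∑ j, ∑ i, 6 * (coef f i j k * (v i * (v j * u k))) := by
          refine Finset.sum_congr rfl fun k _ => ?_
          rw [show 2 * (u k * eval v (pderiv k f)) = u k * (2 * eval v (pderiv k f)) by ring, h2]
          simp only [Finset.mul_sum]
          exact Finset.sum_congr rfl fun j _ => Finset.sum_congr rfl fun i _ => by ring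
      _ = _ := by
          rw [Finset.sum_comm]
          simp only [Finset.mul_sum]
          conv_rhs => rw [Finset.sum_comm]
          exact Finset.sum_congr rfl fun j _ => Finset.sum_comm
  linear_combination h3 / 2

theorem eval_eq_tri (v : Fin n → K) : eval v f = tri f v v v := by
  have h := euler_eval hf v
  rw [deriv_eq_tri hf] at h
  push_cast at h
  linear_combination -(1 : K) / 3 * h

theorem smooth_tri (hsm : ∀ v : Fin n → K, v ≠ 0 → eval v f = 0 → ∃ i, eval v (pderiv i f) ≠ 0)
    (v : Fin n → K) (hv : v ≠ 0) (h : ∀ u, tri f v v u = 0) : False := by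
  obtain ⟨i, hi⟩ := hsm v hv (by rw [eval_eq_tri hf]; exact h v)
  apply hi
  have := deriv_eq_tri hf v (Pi.single i 1)
  rw [h, mul_zero] at this
  simpa [Pi.single_apply] using this

omit hf in
theorem eval_aeval_linear (f : MvPolynomial (Fin n) K) (A : Matrix (Fin n) (Fin n) K) (v : Fin n → K) :
    eval v (aeval (fun i : Fin n => ∑ j : Fin n, C (A i j) * X j) f) = eval (A.mulVec v) f := by
  induction f using MvPolynomial.induction_on with
  | C a => simp
  | add p q hp hq => rw [map_add, map_add, map_add, hp, hq]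
  | mul_X p i hp => rw [map_mul, map_mul, map_mul, hp, aeval_X, eval_X]; simp [Matrix.mulVec, dotProduct]

omit hf in
theorem eval_of_aeval {f : MvPolynomial (Fin n) K} {A : Matrix (Fin n) (Fin n) K} {c : K}
    (h : aeval (fun i : Fin n => ∑ j : Fin n, C (A i j) * X j) f = C c * f) (v : Fin n → K) :
    eval (A.mulVec v) f = c * eval v f := by
  rw [← eval_aeval_linear, h, eval_mul, eval_C]

omit hf in
theorem aeval_of_eval {f : MvPolynomial (Fin n) K} {A : Matrix (Fin n) (Fin n) K} {c : K}
    (h : ∀ v, eval (A.mulVec v) f = c * eval v f) :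
    aeval (fun i : Fin n => ∑ j : Fin n, C (A i j) * X j) f = C c * f :=
  MvPolynomial.funext fun v => by rw [eval_aeval_linear, h, eval_mul, eval_C]

end Groth.L14.Cubic
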