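import Groth.Agent.L14.Cubic.Polar
import Mathlib.Algebra.Polynomial.Derivative
import Mathlib.Algebra.Polynomial.Roots
import Mathlib.Algebra.MvPolynomial.Funext

/-!
Polynomial curves and polynomial functions attached to a symmetric trilinear form.
-/

open Finset

namespace Groth.L14.Cubic

variable {k : Type*} [Field k] {N : ℕ}

/-- Bundled symmetric. -/
structure Sym3 (U : (Fin N → k) →ₗ[k] (Fin N → k) →ₗ[k] (Fin N → k) →ₗ[k] k) : Prop where
  s12 : ∀ u v w, U u v w = U v u w
  s23 : ∀ u v w, U u v w = U u w v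

theorem tri_sym3 {n : ℕ} (f : MvPolynomial (Fin n) k) : Sym3 (tri f) := ⟨tri_swap12 f, tri_swap23 f⟩

theorem Sym3.r1 {U : (Fin N → k) →ₗ[k] (Fin N → k) →ₗ[k] (Fin N → k) →ₗ[k] k} (h : Sym3 U)
    (x y : Fin N → k) : U y x x = U x x y := by rw [h.s12, h.s23]

theorem Sym3.r2 {U : (Fin N → k) →ₗ[k] (Fin N → k) →ₗ[k] (Fin N → k) →ₗ[k] k} (h : Sym3 U)
    (x y : Fin N → k) : U x y x = U x x y := h.s23 _ _ _

theorem Sym3.expand {U : (Fin N → k) →ₗ[k] (Fin N → k) →ₗ[k] (Fin N → k) →ₗ[k] k} (h : Sym3 U)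
    (a b : k) (x y : Fin N → k) :
    U (a • x + b • y) (a • x + b • y) (a • x + b • y) =
      a ^ 3 * U x x x + 3 * a ^ 2 * b * U x x y + 3 * a * b ^ 2 * U x y y + b ^ 3 * U y y y := by
  simp only [map_add, map_smul, LinearMap.add_apply, LinearMap.smul_apply, smul_eq_mul]
  rw [h.r1 x y, h.r2 x y, h.r2 y x, h.r1 y x]
  ring

/-- The basis vectors. -/
def ev (i : Fin N) : Fin N → k := fun j => if i = j then 1 else 0

theorem eq_sum_ev (v : Fin N → k) : v = ∑ i, v i • ev i := by
  funext j; simp [ev, Finset.sum_apply]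

theorem apply_eq_sum (U : (Fin N → k) →ₗ[k] (Fin N → k) →ₗ[k] (Fin N → k) →ₗ[k] k) (u v w : Fin N → k) :
    U u v w = ∑ i, ∑ j, ∑ l, U (ev i) (ev j) (ev l) * (u i * (v j * w l)) := by
  conv_lhs => rw [eq_sum_ev u, eq_sum_ev v, eq_sum_ev w]
  simp only [map_sum, map_smul, LinearMap.coe_sum, Finset.sum_apply, LinearMap.smul_apply, smul_eq_mul,
    Finset.mul_sum]
  rw [Finset.sum_comm]
  refine (Finset.sum_congr rfl fun l _ => Finset.sum_comm).trans ?_
  rw [Finset.sum_comm]
  refine Finset.sum_congr rfl fun i _ => ?_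
  exact Finset.sum_congr rfl fun j _ => Finset.sum_congr rfl fun l _ => by ring

/-- Polynomial extension of a trilinear form. -/
noncomputable def triP (U : (Fin N → k) →ₗ[k] (Fin N → k) →ₗ[k] (Fin N → k) →ₗ[k] k)
    (u v w : Fin N → Polynomial k) : Polynomial k :=
  ∑ i, ∑ j, ∑ l, Polynomial.C (U (ev i) (ev j) (ev l)) * (u i * (v j * w l))

variable (U : (Fin N → k) →ₗ[k] (Fin N → k) →ₗ[k] (Fin N → k) →ₗ[k] k)

theorem eval_triP (t : k) (u v w : Fin N → Polynomial k) :
    (triP U u v w).eval t = U (fun i => (u i).eval t) (fun i => (v i).eval t) (fun i => (w i).eval t) := by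
  rw [apply_eq_sum U]
  simp [triP, Polynomial.eval_finsetSum]

/-- Derivative of a polynomial vector. -/
noncomputable def dv (u : Fin N → Polynomial k) : Fin N → Polynomial k := fun i => Polynomial.derivative (u i)

theorem derivative_triP (u v w : Fin N → Polynomial k) :
    Polynomial.derivative (triP U u v w) = triP U (dv u) v w + triP U u (dv v) w + triP U u v (dv w) := by
  simp only [triP, map_sum, Polynomial.derivative_mul, Polynomial.derivative_C, zero_mul, zero_add, dv,
    ← Finset.sum_add_distrib]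
  exact Finset.sum_congr rfl fun i _ => Finset.sum_congr rfl fun j _ => Finset.sum_congr rfl fun l _ => by ring

/-- Polynomial functions. -/
def IsPolyFun {σ : Type*} (g : (σ → k) → k) : Prop := ∃ p : MvPolynomial σ k, ∀ x, MvPolynomial.eval x p = g x

variable {σ : Type*}

theorem IsPolyFun.add {g h : (σ → k) → k} (hg : IsPolyFun g) (hh : IsPolyFun h) : IsPolyFun fun x => g x + h x := by
  obtain ⟨p, hp⟩ := hg; obtain ⟨q, hq⟩ := hh
  exact ⟨p + q, fun x => by simp [hp, hq]⟩

theorem IsPolyFun.mul {g h : (σ → k) → k} (hg : IsPolyFun g) (hh : IsPolyFun h) : IsPolyFun fun x => g x * h x := by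
  obtain ⟨p, hp⟩ := hg; obtain ⟨q, hq⟩ := hh
  exact ⟨p * q, fun x => by simp [hp, hq]⟩

theorem IsPolyFun.sub {g h : (σ → k) → k} (hg : IsPolyFun g) (hh : IsPolyFun h) : IsPolyFun fun x => g x - h x := by
  obtain ⟨p, hp⟩ := hg; obtain ⟨q, hq⟩ := hh
  exact ⟨p - q, fun x => by simp [hp, hq]⟩

theorem IsPolyFun.const (c : k) : IsPolyFun (σ := σ) fun _ => c := ⟨MvPolynomial.C c, fun x => by simp⟩

theorem IsPolyFun.sum {ι : Type*} (s : Finset ι) {g : ι → (σ → k) → k} (hg : ∀ i, IsPolyFun (g i)) :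
    IsPolyFun fun x => ∑ i ∈ s, g i x := by
  choose p hp using hg
  exact ⟨∑ i ∈ s, p i, fun x => by simp [hp]⟩

theorem IsPolyFun.linear {M : ℕ} (L : (Fin M → k) →ₗ[k] k) : IsPolyFun (k := k) fun x => L x := by
  refine ⟨∑ i, MvPolynomial.C (L (ev i)) * MvPolynomial.X i, fun x => ?_⟩
  conv_rhs => rw [eq_sum_ev x]
  simp [mul_comm]

theorem IsPolyFun.tri {M : ℕ} (u v w : (Fin M → k) → Fin N → k) (hu : ∀ i, IsPolyFun fun x => u x i)
    (hv : ∀ i, IsPolyFun fun x => v x i) (hw : ∀ i, IsPolyFun fun x => w x i) :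
    IsPolyFun fun x => U (u x) (v x) (w x) := by
  have : (fun x => U (u x) (v x) (w x)) =
      fun x => ∑ i, ∑ j, ∑ l, U (ev i) (ev j) (ev l) * (u x i * (v x j * w x l)) :=
    funext fun x => apply_eq_sum U _ _ _
  rw [this]
  exact IsPolyFun.sum _ fun i => IsPolyFun.sum _ fun j => IsPolyFun.sum _ fun l =>
    (IsPolyFun.const _).mul ((hu i).mul ((hv j).mul (hw l)))

theorem exists_all_ne_zero [Infinite k] {ι : Type*} (s : Finset ι) (g : ι → (σ → k) → k)
    (hg : ∀ i, IsPolyFun (g i)) (hne : ∀ i ∈ s, ∃ x, g i x ≠ 0) : ∃ x, ∀ i ∈ s, g i x ≠ 0 := by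
  choose p hp using hg
  have hp0 : ∏ i ∈ s, p i ≠ 0 := Finset.prod_ne_zero_iff.mpr fun i hi h => by
    obtain ⟨x, hx⟩ := hne i hi
    exact hx (by rw [← hp, h, map_zero])
  obtain ⟨x, hx⟩ : ∃ x, MvPolynomial.eval x (∏ i ∈ s, p i) ≠ 0 := by
    by_contra h
    push Not at h
    exact hp0 (MvPolynomial.funext fun x => by rw [h, map_zero])
  rw [map_prod, Finset.prod_ne_zero_iff] at hx
  exact ⟨x, fun i hi => hp i x ▸ hx i hi⟩

theorem exists_good_t [Infinite k] {ι : Type*} (s : Finset ι) (p : ι → Polynomial k) (hp : ∀ i ∈ s, p i ≠ 0) :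
    ∃ t : k, ∀ i ∈ s, (p i).eval t ≠ 0 := by
  have h0 : ∏ i ∈ s, p i ≠ 0 := Finset.prod_ne_zero_iff.mpr hp
  obtain ⟨t, ht⟩ : ∃ t, (∏ i ∈ s, p i).eval t ≠ 0 := by
    by_contra h
    push Not at h
    exact h0 (Polynomial.funext fun t => by rw [h, Polynomial.eval_zero])
  rw [Polynomial.eval_prod, Finset.prod_ne_zero_iff] at ht
  exact ⟨t, ht⟩

theorem eq_const_mul_of_wronskian [CharZero k] {p q : Polynomial k} (hq : q ≠ 0)
    (h : Polynomial.derivative p * q = p * Polynomial.derivative q) : ∃ μ : k, p = Polynomial.C μ * q := by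
  by_cases hp : p = 0
  · exact ⟨0, by simp [hp]⟩
  -- equal degrees, otherwise compare leading coefficients
  have key : ∀ r : Polynomial k, r ≠ 0 → Polynomial.derivative r * q = r * Polynomial.derivative q →
      r.natDegree = q.natDegree := by
    intro r hr hrel
    have hc := congrArg (fun x : Polynomial k => Polynomial.coeff (Polynomial.X * x) (r.natDegree + q.natDegree)) hrel
    have e1 : ∀ s : Polynomial k, (Polynomial.X * Polynomial.derivative s).natDegree ≤ s.natDegree := by
      intro s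
      rw [Polynomial.natDegree_le_iff_coeff_eq_zero]
      intro N hN
      cases N with
      | zero => simp
      | succ N => rw [Polynomial.coeff_X_mul, Polynomial.coeff_derivative, Polynomial.coeff_eq_zero_of_natDegree_lt hN, zero_mul]
    have e2 : ∀ s : Polynomial k, (Polynomial.X * Polynomial.derivative s).coeff s.natDegree = s.natDegree * s.leadingCoeff := by
      intro s
      cases hs : s.natDegree with
      | zero => simp
      | succ N =>
        rw [Polynomial.coeff_X_mul, Polynomial.coeff_derivative, Polynomial.leadingCoeff, hs]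
        push_cast; ring
    rw [← mul_assoc, mul_left_comm Polynomial.X r] at hc
    rw [Polynomial.coeff_mul_add_eq_of_natDegree_le (e1 r) le_rfl, e2,
      Polynomial.coeff_mul_add_eq_of_natDegree_le le_rfl (e1 q), e2] at hc
    have hlr : r.leadingCoeff ≠ 0 := Polynomial.leadingCoeff_ne_zero.mpr hr
    have hlq : q.leadingCoeff ≠ 0 := Polynomial.leadingCoeff_ne_zero.mpr hq
    have h2 : ((r.natDegree : k) - q.natDegree) * (r.leadingCoeff * q.leadingCoeff) = 0 := by
      have hr' : r.coeff r.natDegree = r.leadingCoeff := rfl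
      have hq' : q.coeff q.natDegree = q.leadingCoeff := rfl
      rw [hr', hq'] at hc
      linear_combination hc
    exact_mod_cast sub_eq_zero.mp ((mul_eq_zero.mp h2).resolve_right (mul_ne_zero hlr hlq))
  refine ⟨p.leadingCoeff / q.leadingCoeff, sub_eq_zero.mp ?_⟩
  by_contra hr
  have hrel : Polynomial.derivative (p - Polynomial.C (p.leadingCoeff / q.leadingCoeff) * q) * q =
      (p - Polynomial.C (p.leadingCoeff / q.leadingCoeff) * q) * Polynomial.derivative q := by
    rw [map_sub, Polynomial.derivative_C_mul]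
    linear_combination h
  have hd := key _ hr hrel
  have hdp := key p hp h
  have h1 : (p - Polynomial.C (p.leadingCoeff / q.leadingCoeff) * q).coeff q.natDegree = 0 := by
    rw [Polynomial.coeff_sub, Polynomial.coeff_C_mul, ← Polynomial.leadingCoeff, Polynomial.leadingCoeff, Polynomial.leadingCoeff,
      hdp, div_mul_cancel₀ _ (show q.coeff q.natDegree ≠ 0 from Polynomial.leadingCoeff_ne_zero.mpr hq), sub_self]
  rw [← hd] at h1
  exact Polynomial.leadingCoeff_ne_zero.mpr hr h1

end Groth.L14.Cubic
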