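import Groth.Agent.L14.Cubic.Pfaff
import Groth.Agent.L14.Cubic.TriTools
import Mathlib.LinearAlgebra.FiniteDimensional.Lemmas
import Mathlib.LinearAlgebra.Matrix.ToLin

/-!
Linear Pfaffian representations from five points in general position.
-/

open MvPolynomial

namespace Groth.L14.Cubic

variable {k : Type*} [Field k]

/-- Linear combinations of the five quadrics with linear coefficients. -/
def InQ (g : (Fin 4 → k) → k) : Prop :=
  ∃ L : Fin 5 → Fin 4 → k, ∀ x, g x = ∑ s, (∑ i, L s i * x i) * quad5 x s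

theorem InQ.add {g h : (Fin 4 → k) → k} (hg : InQ g) (hh : InQ h) : InQ fun x => g x + h x := by
  obtain ⟨L, hL⟩ := hg; obtain ⟨M, hM⟩ := hh
  exact ⟨L + M, fun x => by simp [hL, hM, add_mul, Finset.sum_add_distrib]⟩

theorem InQ.smul {g : (Fin 4 → k) → k} (c : k) (hg : InQ g) : InQ fun x => c * g x := by
  obtain ⟨L, hL⟩ := hg
  exact ⟨c • L, fun x => by simp [hL, Finset.mul_sum, Finset.sum_mul, mul_assoc]⟩

theorem InQ.zero : InQ (k := k) fun _ => 0 := ⟨0, fun x => by simp⟩

theorem InQ.sum {ι : Type*} (s : Finset ι) {g : ι → (Fin 4 → k) → k} (hg : ∀ i ∈ s, InQ (g i)) :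
    InQ fun x => ∑ i ∈ s, g i x := by
  classical
  induction s using Finset.induction_on with
  | empty => simpa using InQ.zero
  | insert a s ha ih =>
    simp only [Finset.sum_insert ha]
    exact (hg a (Finset.mem_insert_self a s)).add (ih fun i hi => hg i (Finset.mem_insert_of_mem hi))

theorem inQ_diff (i a b : Fin 4) (hab : a ≠ b) : InQ (k := k) fun x => x i * (x a * x b - x 0 * x 2) := by
  let v : Fin 4 → Fin 4 → Fin 5 → k := fun a b =>
    ![![0, ![1, 0, 0, 0, 0], 0, ![1, -1, 0, 0, 0]],
      ![![1, 0, 0, 0, 0], 0, ![0, 0, 1, 0, 0], ![1, -1, 0, 1, 0]],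
      ![0, ![0, 0, 1, 0, 0], 0, ![0, 0, 0, 0, 1]],
      ![![1, -1, 0, 0, 0], ![1, -1, 0, 1, 0], ![0, 0, 0, 0, 1], 0]] a b
  refine ⟨fun s j => if j = i then v a b s else 0, fun x => ?_⟩
  simp only [ite_mul, zero_mul, Finset.sum_ite_eq', Finset.mem_univ, if_true]
  rw [Fin.sum_univ_five]
  fin_cases a <;> fin_cases b <;> simp [v, quad5] at hab ⊢ <;> first | (left; ring1) | (right; ring1) | ring1

theorem inQ_monomial (i j l : Fin 4) (h : ¬ (i = j ∧ j = l)) :
    InQ (k := k) fun x => x i * (x j * x l) - x 0 * (x 0 * x 2) := by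
  have base : ∀ i : Fin 4, InQ (k := k) fun x => x i * (x 0 * x 2) - x 0 * (x 0 * x 2) := by
    intro i
    fin_cases i
    · convert InQ.zero (k := k) using 1; funext x; simp
    · convert inQ_diff (k := k) 0 1 2 (by decide) using 1; funext x; simp; ring
    · convert ((inQ_diff (k := k) 2 0 1 (by decide)).smul (-1)).add (inQ_diff (k := k) 0 1 2 (by decide)) using 1
      funext x; simp; ring
    · convert inQ_diff (k := k) 0 2 3 (by decide) using 1; funext x; simp; ring
  have main : ∀ i j l : Fin 4, j ≠ l → InQ (k := k) fun x => x i * (x j * x l) - x 0 * (x 0 * x 2) := by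
    intro i j l hjl
    convert (inQ_diff (k := k) i j l hjl).add (base i) using 1
    funext x; ring
  by_cases hjl : j = l
  · subst hjl
    have hij : i ≠ j := fun e => h ⟨e, rfl⟩
    convert main j i j hij using 1
    funext x; ring
  · exact main i j l hjl

theorem cubic_inQ [CharZero k] {G : MvPolynomial (Fin 4) k} (hG : G.IsHomogeneous 3)
    (h0 : ∀ i : Fin 4, eval (ev i) G = 0) (h1 : eval (fun _ => (1 : k)) G = 0) : InQ fun x => eval x G := by
  have hc : ∀ i, coef G i i i = 0 := fun i => by
    have := h0 i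
    rw [eval_eq_tri hG, tri_apply] at this
    simpa [ev] using this
  have hs : ∑ i, ∑ j, ∑ l, coef G i j l = 0 := by
    have := h1
    rw [eval_eq_tri hG, tri_apply] at this
    simpa using this
  have : (fun x => eval x G) =
      fun x => ∑ i, ∑ j, ∑ l, coef G i j l * (x i * (x j * x l) - x 0 * (x 0 * x 2)) := by
    funext x
    rw [eval_eq_tri hG, tri_apply]
    simp only [mul_sub, Finset.sum_sub_distrib, ← Finset.sum_mul, hs, zero_mul, sub_zero]
  rw [this]
  refine InQ.sum _ fun i _ => InQ.sum _ fun j _ => InQ.sum _ fun l _ => ?_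
  by_cases h : i = j ∧ j = l
  · obtain ⟨rfl, rfl⟩ := h
    simpa [hc] using InQ.zero (k := k)
  · exact (inQ_monomial i j l h).smul _

theorem border_isHomogeneous {x : Fin 4 → MvPolynomial (Fin 4) k} {l : Fin 5 → MvPolynomial (Fin 4) k}
    (hx : ∀ i, (x i).IsHomogeneous 1) (hl : ∀ s, (l s).IsHomogeneous 1) (i j : Fin 6) :
    (border x l i j).IsHomogeneous 1 := by
  revert j; revert i
  unfold border
  intro i j
  fin_cases i <;> fin_cases j <;>
    simp [isHomogeneous_zero, hx, hl, IsHomogeneous.neg, IsHomogeneous.sub]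

theorem pfaffian_of_five [CharZero k] (F : MvPolynomial (Fin 4) k) (hF : F.IsHomogeneous 3)
    (p : Fin 5 → Fin 4 → k) (hp : ∀ j, eval (p j) F = 0)
    (hli : ∀ j : Fin 5, LinearIndependent k fun i : Fin 4 => p (j.succAbove i)) :
    ∃ M : Matrix (Fin 6) (Fin 6) (MvPolynomial (Fin 4) k), (∀ i j, (M i j).IsHomogeneous 1) ∧ M.transpose = -M ∧
      (∀ i, M i i = 0) ∧ ∃ c : k, c ≠ 0 ∧ M.det = C c * F ^ 2 := by
  classical
  let v : Fin 4 → Fin 4 → k := fun i => p i.castSucc
  have hv : LinearIndependent k v := by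
    have := hli (Fin.last 4)
    convert this using 1
    funext i
    show p i.castSucc = p ((Fin.last 4).succAbove i)
    rw [Fin.succAbove_last]
  let bb := basisOfLinearIndependentOfCardEqFinrank hv (by simp)
  have hbb : ∀ i, bb i = v i := fun i => by simp [bb, coe_basisOfLinearIndependentOfCardEqFinrank]
  set c : Fin 4 → k := fun i => bb.repr (p (Fin.last 4)) i with hc
  have hsum : ∑ i, c i • v i = p (Fin.last 4) := by
    conv_rhs => rw [← bb.sum_repr (p (Fin.last 4))]
    simp [hbb, hc]
  have hc0 : ∀ i, c i ≠ 0 := by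
    intro i hi
    have h := hli i.castSucc
    let S := Submodule.span k (Set.range fun j : Fin 4 => p (i.castSucc.succAbove j))
    have htop : S = ⊤ := Submodule.eq_top_of_finrank_eq (by rw [finrank_span_eq_card h]; simp)
    have hle : S ≤ LinearMap.ker (bb.coord i) := by
      refine Submodule.span_le.mpr ?_
      rintro _ ⟨j, rfl⟩
      rw [SetLike.mem_coe, LinearMap.mem_ker, Module.Basis.coord_apply]
      induction j using Fin.lastCases with
      | last =>
        show bb.repr (p (i.castSucc.succAbove (Fin.last 3))) i = 0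
        rw [show i.castSucc.succAbove (Fin.last 3) = Fin.last 4 by fin_cases i <;> rfl]
        exact hi
      | cast j =>
        show bb.repr (p (i.castSucc.succAbove j.castSucc)) i = 0
        rw [show i.castSucc.succAbove j.castSucc = (i.succAbove j).castSucc by fin_cases i <;> fin_cases j <;> rfl]
        show bb.repr (v (i.succAbove j)) i = 0
        rw [← hbb, Module.Basis.repr_self, Finsupp.single_eq_of_ne (Fin.succAbove_ne i j).symm]
    rw [htop] at hle
    have := hle (Submodule.mem_top (x := bb i))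
    simp [Module.Basis.coord_apply] at this
  let B : Matrix (Fin 4) (Fin 4) k := Matrix.of fun r i => c i * v i r
  have hBv : ∀ x, B.mulVec x = ∑ i, (x i * c i) • v i := by
    intro x
    funext r
    simp [B, Matrix.mulVec, dotProduct, Finset.sum_apply]
    exact Finset.sum_congr rfl fun i _ => by ring
  have hBu : IsUnit B := by
    rw [← Matrix.linearIndependent_cols_iff_isUnit]
    convert (hv.units_smul fun i => Units.mk0 (c i) (hc0 i)) using 1
    funext i r
    simp [B, Matrix.col, Units.smul_def]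
  have hBdet := (Matrix.isUnit_iff_isUnit_det B).mp hBu
  let G : MvPolynomial (Fin 4) k := aeval (fun i : Fin 4 => ∑ j : Fin 4, C (B i j) * X j) F
  have hG : G.IsHomogeneous 3 := by
    have := hF.aeval (n := 1) (fun i : Fin 4 => ∑ j : Fin 4, C (B i j) * X j)
      (fun i => IsHomogeneous.sum _ _ _ fun j _ => (isHomogeneous_X k j).C_mul _)
    simpa only [one_mul] using this
  obtain ⟨L, hL⟩ := cubic_inQ hG (fun i => by
      rw [eval_aeval_linear, hBv]
      have : ∑ j, (ev i j * c j) • v j = c i • v i := by simp [ev]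
      rw [this, eval_eq_tri hF]
      simp only [map_smul, LinearMap.smul_apply, smul_eq_mul, ← eval_eq_tri hF]
      simp [v, hp]) (by
      rw [eval_aeval_linear, hBv]
      simp [hsum, hp])
  let ξ : Fin 4 → MvPolynomial (Fin 4) k := fun i => ∑ j, C ((B⁻¹) i j) * X j
  let ls : Fin 5 → MvPolynomial (Fin 4) k := fun s => ∑ i, C (L s i) * ξ i
  have hξ : ∀ i, (ξ i).IsHomogeneous 1 := fun i =>
    IsHomogeneous.sum _ _ _ fun j _ => (isHomogeneous_X k j).C_mul _
  have hls : ∀ s, (ls s).IsHomogeneous 1 := fun s => IsHomogeneous.sum _ _ _ fun i _ => (hξ i).C_mul _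
  refine ⟨border ξ ls, fun i j => ?_, border_transpose ξ ls, border_diag ξ ls, 1, one_ne_zero, ?_⟩
  · exact border_isHomogeneous hξ hls i j
  · rw [border_det, C_1, one_mul]
    congr 1
    refine MvPolynomial.funext fun y => ?_
    set x := (B⁻¹).mulVec y with hx
    have hξx : ∀ i, eval y (ξ i) = x i := fun i => by simp [ξ, hx, Matrix.mulVec, dotProduct]
    have hq : ∀ s, eval y (quad5 ξ s) = quad5 x s := by
      intro s; fin_cases s <;> simp [quad5, hξx]
    have hFy : eval y F = eval x G := by
      rw [eval_aeval_linear, hx, Matrix.mulVec_mulVec, Matrix.mul_nonsing_inv _ hBdet, Matrix.one_mulVec]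
    rw [hFy, show eval x G = ∑ s, (∑ i, L s i * x i) * quad5 x s from hL x, map_sum]
    simp [ls, hq, hξx]

end Groth.L14.Cubic
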