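import Groth.Agent.L14.Cubic.Split
import Mathlib.RingTheory.Nullstellensatz
import Mathlib.Algebra.MvPolynomial.NoZeroDivisors
import Mathlib.Algebra.MvPolynomial.Nilpotent
import Mathlib.LinearAlgebra.FiniteDimensional.Lemmas
import Mathlib.LinearAlgebra.Dual.Lemmas
import Mathlib.RingTheory.UniqueFactorizationDomain.Basic

/-!
Basic facts on irreducible cubic surfaces over an algebraically closed field, and split
tangent sections.
-/

open MvPolynomial Module

namespace Groth.L14.Cubic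

variable {K : Type*} [Field K]

/-- `F` is an irreducible cubic form defining a surface which is not a cone. -/
structure CubicNC (F : MvPolynomial (Fin 4) K) : Prop where
  hom : F.IsHomogeneous 3
  irr : Irreducible F
  nc : ¬ ∃ v : Fin 4 → K, v ≠ 0 ∧ ∑ i : Fin 4, v i • pderiv i F = 0

/-- The tangent section at `b` is a union of three lines. -/
def SplitAt (F : MvPolynomial (Fin 4) K) (b : Fin 4 → K) : Prop :=
  ∃ R₀ R₁ R₂ : (Fin 4 → K) →ₗ[K] K, ∀ x, tri F b b x = 0 → tri F x x x = R₀ x * R₁ x * R₂ x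

theorem exists_common3 (f g h : (Fin 4 → K) →ₗ[K] K) : ∃ v, v ≠ 0 ∧ f v = 0 ∧ g v = 0 ∧ h v = 0 := by
  let Φ : (Fin 4 → K) →ₗ[K] (Fin 3 → K) := LinearMap.pi ![f, g, h]
  obtain ⟨v, hv, hv0⟩ := (Submodule.ne_bot_iff _).mp
    (LinearMap.ker_ne_bot_of_finrank_lt (f := Φ) (by simp))
  rw [LinearMap.mem_ker] at hv
  exact ⟨v, hv0, congrFun hv 0, congrFun hv 1, congrFun hv 2⟩

variable [CharZero K] {F : MvPolynomial (Fin 4) K}

theorem CubicNC.ev3 (h : CubicNC F) (v : Fin 4 → K) : eval v F = tri F v v v := eval_eq_tri h.hom v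

theorem CubicNC.ne_zero (h : CubicNC F) : F ≠ 0 := h.irr.ne_zero

omit [CharZero K] in
theorem CubicNC.totalDegree (h : CubicNC F) : F.totalDegree = 3 := h.hom.totalDegree h.irr.ne_zero

omit [CharZero K] in
theorem CubicNC.not_dvd_of_totalDegree_le (h : CubicNC F) {G : MvPolynomial (Fin 4) K} (hG : G ≠ 0)
    (hd : G.totalDegree ≤ 2) : ¬ F ∣ G := by
  rintro ⟨Q, rfl⟩
  rw [totalDegree_mul_of_isDomain h.irr.ne_zero (right_ne_zero_of_mul hG), h.totalDegree] at hd
  omega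

theorem CubicNC.no_plane (h : CubicNC F) {L : (Fin 4 → K) →ₗ[K] K} (hL : L ≠ 0) :
    ∃ x, L x = 0 ∧ tri F x x x ≠ 0 := by
  by_contra hne
  push Not at hne
  obtain ⟨z', hz'⟩ : ∃ z, L z ≠ 0 := by
    by_contra hh; push Not at hh; exact hL (LinearMap.ext fun x => by simp [hh])
  set ℓ := linForm (RingHom.id K) L with hℓ
  have hev : ∀ x, eval x ℓ = L x := fun x => by
    rw [hℓ, eval_linForm]
    conv_rhs => rw [eq_sum_ev x]
    simp [mul_comm]
  have hmem : F ∈ Ideal.span {ℓ} := mem_span_of_vanish (linForm_homogeneous _ L) ((L z')⁻¹ • z')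
    (by rw [hev]; simp [hz']) fun x hx => by rw [h.ev3]; exact hne x (by rw [← hev]; exact hx)
  obtain ⟨Q, hQ⟩ := Ideal.mem_span_singleton.mp hmem
  rcases h.irr.isUnit_or_isUnit hQ with hu | hu
  · have := hu.map constantCoeff
    simp [hℓ, linForm] at this
  · have hQ0 := (MvPolynomial.isUnit_iff_totalDegree_of_isReduced.mp hu).2
    have h3 := h.totalDegree
    rw [hQ] at h3
    have h1 : ℓ.totalDegree ≤ 1 := (linForm_homogeneous _ L).totalDegree_le
    have := totalDegree_mul ℓ Q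
    omega

theorem CubicNC.section_ne_zero (h : CubicNC F) {b z : Fin 4 → K} (hz : tri F b b z ≠ 0) :
    ∃ x, tri F b b x = 0 ∧ tri F x x x ≠ 0 :=
  h.no_plane fun e => hz (by rw [e]; rfl)

/-- At a smooth point with split section two of the three lines pass through the point. -/
theorem CubicNC.split_data (h : CubicNC F) {b z : Fin 4 → K} (hb : tri F b b b = 0) (hz : tri F b b z ≠ 0)
    (hs : SplitAt F b) :
    ∃ R₀ R₁ R₂ : (Fin 4 → K) →ₗ[K] K, R₀ b = 0 ∧ R₁ b = 0 ∧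
      ∀ x, tri F b b x = 0 → tri F x x x = R₀ x * R₁ x * R₂ x ∧ 3 * tri F b x x = R₀ x * R₁ x * R₂ b := by
  have hT := tri_sym3 F
  have key : ∀ R₀ R₁ R₂ : (Fin 4 → K) →ₗ[K] K, R₀ b = 0 →
      (∀ x, tri F b b x = 0 → tri F x x x = R₀ x * R₁ x * R₂ x) → R₁ b * R₂ b = 0 := by
    intro R₀ R₁ R₂ h0 hR
    by_contra hne
    obtain ⟨x, hx, hx3⟩ := h.section_ne_zero hz
    have hp := hR ((1 : K) • b + (1 : K) • x) (by simp [hb, hx])
    have hm := hR ((1 : K) • b + (-1 : K) • x) (by simp [hb, hx])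
    rw [hT.expand] at hp hm
    simp only [hb, hx, map_add, map_smul, smul_eq_mul, h0] at hp hm
    have hR0 : R₀ x = 0 := by
      refine (mul_eq_zero.mp (show R₀ x * (R₁ b * R₂ b) = 0 from ?_)).resolve_right hne
      linear_combination (-(1 : K) / 2) * hp + (1 / 2 : K) * hm + hR x hx
    exact hx3 (by rw [hR x hx, hR0, zero_mul, zero_mul])
  have fin : ∀ R₀ R₁ R₂ : (Fin 4 → K) →ₗ[K] K, R₀ b = 0 → R₁ b = 0 →
      (∀ x, tri F b b x = 0 → tri F x x x = R₀ x * R₁ x * R₂ x) →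
      ∃ R₀ R₁ R₂ : (Fin 4 → K) →ₗ[K] K, R₀ b = 0 ∧ R₁ b = 0 ∧
        ∀ x, tri F b b x = 0 → tri F x x x = R₀ x * R₁ x * R₂ x ∧ 3 * tri F b x x = R₀ x * R₁ x * R₂ b := by
    intro R₀ R₁ R₂ h0 h1 hR
    refine ⟨R₀, R₁, R₂, h0, h1, fun x hx => ⟨hR x hx, ?_⟩⟩
    have hp := hR ((1 : K) • b + (1 : K) • x) (by simp [hb, hx])
    have hm := hR ((1 : K) • b + (-1 : K) • x) (by simp [hb, hx])
    rw [hT.expand] at hp hm
    simp only [hb, hx, map_add, map_smul, smul_eq_mul, h0, h1] at hp hm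
    linear_combination (1 / 2 : K) * hp + (1 / 2 : K) * hm
  obtain ⟨R₀, R₁, R₂, hR⟩ := hs
  have hprod := hR b hb
  rw [hb] at hprod
  rcases mul_eq_zero.mp hprod.symm with h01 | h2
  · rcases mul_eq_zero.mp h01 with h0 | h1
    · rcases mul_eq_zero.mp (key R₀ R₁ R₂ h0 hR) with h1 | h2
      · exact fin R₀ R₁ R₂ h0 h1 hR
      · exact fin R₀ R₂ R₁ h0 h2 fun x hx => by rw [hR x hx]; ring
    · have hR' : ∀ x, tri F b b x = 0 → tri F x x x = R₁ x * R₀ x * R₂ x := fun x hx => by rw [hR x hx]; ring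
      rcases mul_eq_zero.mp (key R₁ R₀ R₂ h1 hR') with h0 | h2
      · exact fin R₁ R₀ R₂ h1 h0 hR'
      · exact fin R₁ R₂ R₀ h1 h2 fun x hx => by rw [hR x hx]; ring
  · have hR' : ∀ x, tri F b b x = 0 → tri F x x x = R₂ x * R₀ x * R₁ x := fun x hx => by rw [hR x hx]; ring
    rcases mul_eq_zero.mp (key R₂ R₀ R₁ h2 hR') with h0 | h1
    · exact fin R₂ R₀ R₁ h2 h0 hR'
    · exact fin R₂ R₁ R₀ h2 h1 fun x hx => by rw [hR x hx]; ring

variable [IsAlgClosed K]

theorem CubicNC.dvd_of_vanish (h : CubicNC F) {G : MvPolynomial (Fin 4) K}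
    (hG : ∀ b, eval b F = 0 → eval b G = 0) : F ∣ G := by
  have hm : G ∈ vanishingIdeal K (zeroLocus K (Ideal.span {F})) := by
    rw [mem_vanishingIdeal_iff]
    intro x hx
    rw [mem_zeroLocus_iff] at hx
    simp only [aeval_eq_eval] at hx ⊢
    exact hG x (hx F (Ideal.subset_span rfl))
  rw [vanishingIdeal_zeroLocus_eq_radical] at hm
  have hp : Prime F := (UniqueFactorizationMonoid.irreducible_iff_prime).mp h.irr
  have : (Ideal.span {F}).IsPrime := (Ideal.span_singleton_prime h.irr.ne_zero).mpr hp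
  rw [this.radical] at hm
  exact Ideal.mem_span_singleton.mp hm

theorem CubicNC.exists_avoid {ι : Type*} (h : CubicNC F) (s : Finset ι) (g : ι → (Fin 4 → K) → K)
    (hg : ∀ i, IsPolyFun (g i)) (hne : ∀ i ∈ s, ∃ b, tri F b b b = 0 ∧ g i b ≠ 0) :
    ∃ b, tri F b b b = 0 ∧ ∀ i ∈ s, g i b ≠ 0 := by
  choose p hp using hg
  by_contra hc
  push Not at hc
  have hd : F ∣ ∏ i ∈ s, p i := h.dvd_of_vanish fun b hb => by
    obtain ⟨i, hi, h0⟩ := hc b (by rw [← h.ev3]; exact hb)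
    rw [map_prod]
    exact Finset.prod_eq_zero hi (by rw [hp, h0])
  obtain ⟨i, hi, hdi⟩ := (Prime.dvd_finsetProd_iff ((UniqueFactorizationMonoid.irreducible_iff_prime).mp h.irr) p).mp hd
  obtain ⟨b, hb, hgb⟩ := hne i hi
  obtain ⟨Q, hQ⟩ := hdi
  exact hgb (by rw [← hp, hQ, map_mul, h.ev3, hb, zero_mul])

theorem CubicNC.exists_linear_ne (h : CubicNC F) {L : (Fin 4 → K) →ₗ[K] K} (hL : L ≠ 0) :
    ∃ b, tri F b b b = 0 ∧ L b ≠ 0 := by
  by_contra hc
  push Not at hc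
  set ℓ := linForm (RingHom.id K) L with hℓ
  have hev : ∀ x, eval x ℓ = L x := fun x => by
    rw [hℓ, eval_linForm]
    conv_rhs => rw [eq_sum_ev x]
    simp [mul_comm]
  refine h.not_dvd_of_totalDegree_le (fun e => hL (LinearMap.ext fun x => ?_)) ?_
    (h.dvd_of_vanish fun b hb => by rw [hev]; exact hc b (by rw [← h.ev3]; exact hb))
  · rw [← hev, e, map_zero, LinearMap.zero_apply]
  · exact (linForm_homogeneous _ L).totalDegree_le.trans (by norm_num)

theorem CubicNC.exists_polar_ne (h : CubicNC F) {v : Fin 4 → K} (hv : v ≠ 0) :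
    ∃ b, tri F b b b = 0 ∧ tri F b b v ≠ 0 := by
  by_contra hc
  push Not at hc
  refine h.not_dvd_of_totalDegree_le (fun e => h.nc ⟨v, hv, e⟩) ?_
    (h.dvd_of_vanish fun b hb => ?_)
  · refine (IsHomogeneous.sum _ _ 2 fun i _ => ?_).totalDegree_le
    rw [smul_eq_C_mul]
    exact (h.hom.pderiv).C_mul _
  · simp only [map_sum, smul_eval]
    rw [deriv_eq_tri h.hom, hc b (by rw [← h.ev3]; exact hb), mul_zero]

end Groth.L14.Cubic
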