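import Groth.Agent.L14.Cubic.Crit
import Groth.Agent.L14.Cubic.Points
import Groth.Agent.L14.Cubic.Rep
import Mathlib.Algebra.MvPolynomial.Equiv
import Mathlib.RingTheory.AdjoinRoot
import Mathlib.FieldTheory.IntermediateField.Adjoin.Basic

/-!
Selection of a point of low degree with non-split tangent section, and linear Pfaffian
representations over extensions of degree at most three.
-/

open MvPolynomial Module

namespace Groth.L14.Cubic

variable {k : Type*} [Field k] [CharZero k]

/-- A form `G` such that the zeros of `F` outside `G = 0` are points with non-split section. -/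
structure Witness (F G : MvPolynomial (Fin 4) k) : Prop where
  nonzero : G.eval (0 : Fin 4 → k) = 0
  exists_ne : ∃ b : Fin 4 → AlgebraicClosure k, aeval b F = 0 ∧ aeval b G ≠ 0

omit [CharZero k] in
theorem nc_map {L : Type*} [Field L] (φ : k →+* L) {F : MvPolynomial (Fin 4) k}
    (hcone : ¬ ∃ v : Fin 4 → k, v ≠ 0 ∧ ∑ i : Fin 4, v i • pderiv i F = 0) :
    ¬ ∃ v : Fin 4 → L, v ≠ 0 ∧ ∑ i : Fin 4, v i • pderiv i (MvPolynomial.map φ F) = 0 := by
  rintro ⟨v, hv, he⟩
  obtain ⟨i, hi⟩ := Function.ne_iff.mp hv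
  let := φ.toAlgebra
  obtain ⟨f, hf⟩ : ∃ f : Module.Dual k L, f (v i) ≠ 0 := by
    by_contra hc
    push Not at hc
    exact hi ((Module.forall_dual_apply_eq_zero_iff k (v i)).mp hc)
  refine hcone ⟨fun j => f (v j), fun e => hf (congrFun e i), ?_⟩
  ext d
  have := congrArg (fun p => f (coeff d p)) he
  simp only [coeff_sum, pderiv_map, coeff_smul, coeff_map, map_sum, coeff_zero, map_zero, smul_eq_mul] at this
  simp only [coeff_sum, coeff_smul, smul_eq_mul, coeff_zero]
  rw [← this]
  refine Finset.sum_congr rfl fun j _ => ?_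
  have := f.map_smul (coeff d (pderiv j F)) (v j)
  rw [Algebra.smul_def, smul_eq_mul] at this
  rw [mul_comm (v j), show φ (coeff d (pderiv j F)) = algebraMap k L (coeff d (pderiv j F)) from rfl, this, mul_comm]

omit [CharZero k] in
theorem irr_map {L : Type*} [Field L] [Algebra k L] [IsAlgClosed L] [Algebra.IsAlgebraic k L]
    {F : MvPolynomial (Fin 4) k}
    (hirr : Irreducible (MvPolynomial.map (algebraMap k (AlgebraicClosure k)) F)) :
    Irreducible (MvPolynomial.map (algebraMap k L) F) := by
  have : IsAlgClosure k L := ⟨inferInstance, inferInstance⟩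
  let e := IsAlgClosure.equiv k (AlgebraicClosure k) L
  have := (MulEquiv.irreducible_iff (MvPolynomial.mapEquiv (Fin 4) e.toRingEquiv)).mpr hirr
  convert this using 1
  show _ = MvPolynomial.map (e : AlgebraicClosure k →+* L) _
  rw [MvPolynomial.map_map]
  exact congrArg (fun φ => MvPolynomial.map φ F) (RingHom.ext fun x => (e.commutes x).symm)

omit [CharZero k] in
theorem irreducible_of_map {F : MvPolynomial (Fin 4) k} (hF : F.IsHomogeneous 3)
    {L : Type*} [Field L] (φ : k →+* L) (hirr : Irreducible (MvPolynomial.map φ F)) : Irreducible F := by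
  have hun : ∀ p : MvPolynomial (Fin 4) k, IsUnit (MvPolynomial.map φ p) → IsUnit p := fun p hp => by
    obtain ⟨hu, hd⟩ := MvPolynomial.isUnit_iff_totalDegree_of_isReduced.mp hp
    refine MvPolynomial.isUnit_iff_totalDegree_of_isReduced.mpr ⟨?_, ?_⟩
    · refine isUnit_iff_ne_zero.mpr fun e => hu.ne_zero ?_
      rw [coeff_map, e, map_zero]
    · rwa [MvPolynomial.totalDegree, MvPolynomial.support_map_of_injective p φ.injective] at hd
  refine ⟨fun h => hirr.not_isUnit (h.map _), fun a b hab => ?_⟩
  rcases hirr.isUnit_or_isUnit (show MvPolynomial.map φ F = MvPolynomial.map φ a * MvPolynomial.map φ b by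
    rw [hab, map_mul]) with h | h
  · exact .inl (hun a h)
  · exact .inr (hun b h)

/-- Non-vanishing of the witness polynomial built from the indices `i j l m` and a minor `r`. -/
noncomputable def witness (F : MvPolynomial (Fin 4) k) (i j l m : Fin 4) (r : Fin 4) : MvPolynomial (Fin 4) k :=
  let e : Fin 4 → Fin 4 → MvPolynomial (Fin 4) k := fun j n =>
    pderiv i F * C (ev j n) - pderiv j F * C (ev i n)
  pderiv i F * X m * critMinor (polyTri F X (e j) (e j)) (polyTri F X (e j) (e l)) (polyTri F X (e l) (e l))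
    (polyTri F (e j) (e j) (e j)) (polyTri F (e j) (e j) (e l)) (polyTri F (e j) (e l) (e l))
    (polyTri F (e l) (e l) (e l)) r

/-- Frame of the tangent plane. -/
noncomputable def fr {L : Type*} [Field L] (T : (Fin 4 → L) →ₗ[L] (Fin 4 → L) →ₗ[L] (Fin 4 → L) →ₗ[L] L)
    (b : Fin 4 → L) (i j : Fin 4) : Fin 4 → L :=
  (3 * T b b (ev i)) • ev j - (3 * T b b (ev j)) • ev i

theorem aeval_witness {L : Type*} [Field L] [Algebra k L] [CharZero L] {F : MvPolynomial (Fin 4) k}
    (hF : F.IsHomogeneous 3) (i j l m r : Fin 4) (b : Fin 4 → L) :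
    aeval b (witness F i j l m r) = (3 * tri (MvPolynomial.map (algebraMap k L) F) b b (ev i)) * b m *
      critMinor (tri (MvPolynomial.map (algebraMap k L) F) b (fr (tri (MvPolynomial.map (algebraMap k L) F)) b i j) (fr (tri (MvPolynomial.map (algebraMap k L) F)) b i j))
        (tri (MvPolynomial.map (algebraMap k L) F) b (fr (tri (MvPolynomial.map (algebraMap k L) F)) b i j) (fr (tri (MvPolynomial.map (algebraMap k L) F)) b i l))
        (tri (MvPolynomial.map (algebraMap k L) F) b (fr (tri (MvPolynomial.map (algebraMap k L) F)) b i l) (fr (tri (MvPolynomial.map (algebraMap k L) F)) b i l))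
        (tri (MvPolynomial.map (algebraMap k L) F) (fr (tri (MvPolynomial.map (algebraMap k L) F)) b i j) (fr (tri (MvPolynomial.map (algebraMap k L) F)) b i j) (fr (tri (MvPolynomial.map (algebraMap k L) F)) b i j))
        (tri (MvPolynomial.map (algebraMap k L) F) (fr (tri (MvPolynomial.map (algebraMap k L) F)) b i j) (fr (tri (MvPolynomial.map (algebraMap k L) F)) b i j) (fr (tri (MvPolynomial.map (algebraMap k L) F)) b i l))
        (tri (MvPolynomial.map (algebraMap k L) F) (fr (tri (MvPolynomial.map (algebraMap k L) F)) b i j) (fr (tri (MvPolynomial.map (algebraMap k L) F)) b i l) (fr (tri (MvPolynomial.map (algebraMap k L) F)) b i l))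
        (tri (MvPolynomial.map (algebraMap k L) F) (fr (tri (MvPolynomial.map (algebraMap k L) F)) b i l) (fr (tri (MvPolynomial.map (algebraMap k L) F)) b i l) (fr (tri (MvPolynomial.map (algebraMap k L) F)) b i l)) r := by
  set T := tri (MvPolynomial.map (algebraMap k L) F) with hT
  set e : Fin 4 → Fin 4 → L := fr T b i with he'
  have hd : ∀ n, aeval b (pderiv n F) = 3 * T b b (ev n) := fun n => by
    rw [← deriv_eq_tri (hF.map (algebraMap k L))]
    simp [ev, pderiv_map, eval_map, aeval_def]
  have hev : ∀ p q : Fin 4, algebraMap k L (ev p q) = (ev p q : L) := fun p q => by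
    simp [ev, apply_ite (algebraMap k L)]
  have he : ∀ j, (fun n => aeval b (pderiv i F * C (ev j n) - pderiv j F * C (ev i n))) = e j := fun j => by
    funext n
    simp [he', fr, hd, hev, hT]
  have hX : (fun n => aeval b (X n : MvPolynomial (Fin 4) k)) = b := by funext n; simp
  simp only [witness, map_mul, hd, aeval_X]
  rw [← RingHom.coe_coe (aeval b), map_critMinor]
  simp only [RingHom.coe_coe, aeval_polyTri, hX, he, ← hT]

theorem exists_witness {F : MvPolynomial (Fin 4) k} (hF : F.IsHomogeneous 3)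
    (hirr : Irreducible (MvPolynomial.map (algebraMap k (AlgebraicClosure k)) F))
    (hcone : ¬ ∃ v : Fin 4 → k, v ≠ 0 ∧ ∑ i : Fin 4, v i • pderiv i F = 0) :
    ∃ i j l m r : Fin 4, ∃ b : Fin 4 → AlgebraicClosure k, aeval b F = 0 ∧ aeval b (witness F i j l m r) ≠ 0 := by
  classical
  let K := AlgebraicClosure k
  have h : CubicNC (MvPolynomial.map (algebraMap k K) F) := ⟨hF.map _, hirr, nc_map _ hcone⟩
  obtain ⟨b, y, hb, hy, hns⟩ := h.exists_not_splitAt
  set T := tri (MvPolynomial.map (algebraMap k K) F) with hTdef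
  obtain ⟨i, hi⟩ : ∃ i, T b b (ev i) ≠ 0 := by
    by_contra hc
    push Not at hc
    apply hy
    rw [eq_sum_ev y]
    simp [hc]
  obtain ⟨m, hmi, hm⟩ : ∃ m, m ≠ i ∧ b m ≠ 0 := by
    by_contra hc
    push Not at hc
    have hbi : b = b i • ev i := by
      funext n
      by_cases hn : n = i
      · subst hn; simp [ev]
      · simp [ev, Ne.symm hn, hc n hn]
    by_cases hb0 : b i = 0
    · rw [hb0, zero_smul] at hbi
      exact hy (by simp [hbi])
    · apply hi
      have h3 : b i * T b b (ev i) = 0 := by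
        rw [← smul_eq_mul, ← map_smul, ← hbi]; exact hb
      exact (mul_eq_zero.mp h3).resolve_left hb0
  obtain ⟨j, l, hji, hjm, hli', hlm, hjl⟩ : ∃ j l : Fin 4, j ≠ i ∧ j ≠ m ∧ l ≠ i ∧ l ≠ m ∧ j ≠ l := by
    revert hmi; clear hm hi; revert i m; decide
  set e : Fin 4 → Fin 4 → K := fr T b i with he0
  have he : ∀ j, T b b (e j) = 0 := fun j => by simp [he0, fr]; ring
  have h3 : 3 * T b b (ev i) ≠ 0 := mul_ne_zero three_ne_zero hi
  have hli : LinearIndependent K ![b, e j, e l, ev i] := by
    rw [Fintype.linearIndependent_iff]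
    intro g hg
    simp only [Fin.sum_univ_four, Matrix.cons_val_zero, Matrix.cons_val_one, Matrix.cons_val] at hg
    have g3 : g 3 = 0 := by
      have := congrArg (T b b) hg
      simpa [hb, he, hi] using this
    simp only [g3, zero_smul, add_zero] at hg
    have cm := congrFun hg m
    have cj := congrFun hg j
    have cl := congrFun hg l
    simp [he0, fr, ev, Ne.symm hmi, hjm, hlm, hji, hjl, Ne.symm hji, Ne.symm hli', Ne.symm hjl] at cm cj cl
    have g0 : g 0 = 0 := by simpa [hm] using cm
    simp [g0, hi] at cj cl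
    intro n; fin_cases n <;> assumption
  obtain ⟨r, hr⟩ := exists_critMinor_ne_zero hb (he j) (he l) hi hli hns
  refine ⟨i, j, l, m, r, b, ?_, ?_⟩
  · rw [← hb, ← h.ev3, eval_map, aeval_def]
  · have hw := aeval_witness hF i j l m r b
    intro hzero
    rw [hzero] at hw
    exact mul_ne_zero (mul_ne_zero h3 hm) hr hw.symm

theorem pfaffian_of_witness {E : Type*} [Field E] [Algebra k E] [Algebra.IsAlgebraic k E]
    {F : MvPolynomial (Fin 4) k} (hF : F.IsHomogeneous 3)
    (hirr : Irreducible (MvPolynomial.map (algebraMap k (AlgebraicClosure k)) F))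
    (hcone : ¬ ∃ v : Fin 4 → k, v ≠ 0 ∧ ∑ i : Fin 4, v i • pderiv i F = 0)
    {i j l m r : Fin 4} {a : Fin 4 → E} (hFa : aeval a F = 0) (hG : aeval a (witness F i j l m r) ≠ 0) :
    ∃ M : Matrix (Fin 6) (Fin 6) (MvPolynomial (Fin 4) E), (∀ i j, (M i j).IsHomogeneous 1) ∧ M.transpose = -M ∧
      (∀ i, M i i = 0) ∧ ∃ c : E, c ≠ 0 ∧ M.det = C c * (MvPolynomial.map (algebraMap k E) F) ^ 2 := by
  classical
  have : CharZero E := charZero_of_injective_algebraMap (algebraMap k E).injective
  set FE := MvPolynomial.map (algebraMap k E) F with hFE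
  let K := AlgebraicClosure E
  have : Algebra.IsAlgebraic k K := Algebra.IsAlgebraic.trans k E K
  have hmap : MvPolynomial.map (algebraMap E K) FE = MvPolynomial.map (algebraMap k K) F := by
    rw [hFE, MvPolynomial.map_map, ← IsScalarTower.algebraMap_eq]
  have hirrK : Irreducible (MvPolynomial.map (algebraMap E K) FE) := hmap ▸ irr_map hirr
  have hncE := nc_map (algebraMap k E) hcone
  have ha : a ≠ 0 := by
    rintro rfl
    exact hG (by simp [witness])
  have hFa' : eval a FE = 0 := by rw [← hFa, hFE]; simp [eval_map, aeval_def]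
  set b : Fin 4 → K := fun n => algebraMap E K (a n) with hb
  have hGb : aeval b (witness F i j l m r) ≠ 0 := by
    rw [hb, show (fun n => algebraMap E K (a n)) = algebraMap E K ∘ a from rfl, MvPolynomial.aeval_algebraMap_apply]
    exact fun e => hG ((algebraMap E K).injective (by rw [e, map_zero]))
  replace hGb := fun e => hGb ((aeval_witness hF i j l m r b).trans e)
  set ℓ : MvPolynomial (Fin 4) K := ∑ n, C (algebraMap E K (eval a (pderiv n FE))) * X n with hℓ
  have hnT : ¬ ∃ L₁ L₂ L₃ : MvPolynomial (Fin 4) K, L₁.IsHomogeneous 1 ∧ L₂.IsHomogeneous 1 ∧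
      L₃.IsHomogeneous 1 ∧ MvPolynomial.map (algebraMap E K) FE - L₁ * L₂ * L₃ ∈ Ideal.span {ℓ} := by
    rintro ⟨L₁, L₂, L₃, h1, h2, h3, hmem⟩
    have h : CubicNC (MvPolynomial.map (algebraMap k K) F) :=
      ⟨hF.map _, irr_map hirr, nc_map _ hcone⟩
    have hb0 : tri (MvPolynomial.map (algebraMap k K) F) b b b = 0 := by
      rw [← h.ev3, ← hmap, eval_map, hb]
      show eval₂ (algebraMap E K) (fun n => algebraMap E K (a n)) FE = 0
      rw [show eval₂ (algebraMap E K) (fun n => algebraMap E K (a n)) FE = algebraMap E K (eval a FE) from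
        (eval₂_comp (algebraMap E K) a FE).symm, hFa', map_zero]
    obtain ⟨R₁, hR1⟩ := exists_dual_of_homogeneous h1
    obtain ⟨R₂, hR2⟩ := exists_dual_of_homogeneous h2
    obtain ⟨R₃, hR3⟩ := exists_dual_of_homogeneous h3
    have hs : SplitAt (MvPolynomial.map (algebraMap k K) F) b := by
      refine ⟨R₁, R₂, R₃, fun x hx => ?_⟩
      obtain ⟨Q, hQ⟩ := Ideal.mem_span_singleton.mp hmem
      have hℓx : eval x ℓ = 0 := by
        have hd := deriv_eq_tri (hF.map (algebraMap k K)) b x
        rw [hx, mul_zero] at hd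
        rw [← hd, hℓ, map_sum]
        refine Finset.sum_congr rfl fun n _ => ?_
        rw [map_mul, eval_C, eval_X, mul_comm]
        congr 1
        rw [← hmap, pderiv_map (φ := algebraMap E K), hb]
        simp only [eval_map]
        exact eval₂_comp (algebraMap E K) a (pderiv n FE)
      have := congrArg (eval x) hQ
      rw [map_sub, map_mul, map_mul, map_mul, hℓx, zero_mul, sub_eq_zero, hR1, hR2, hR3, hmap, h.ev3] at this
      exact this
    refine (right_ne_zero_of_mul (fun e => hGb e)) (h.critMinor_eq_zero hb0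
      (right_ne_zero_of_mul (left_ne_zero_of_mul (left_ne_zero_of_mul hGb))) hs ?_ ?_ r)
    all_goals simp [fr]; ring
  obtain ⟨p, -, hp, hli⟩ := five_points_of_not_TPoint FE (hF.map _) hirrK hncE a ha hFa' ℓ hℓ hnT
  exact pfaffian_of_five FE (hF.map _) p hp hli

/-- Shear along `V`. -/
noncomputable def shearFun (V : Fin 4 → k) : Fin 4 → MvPolynomial (Fin 4) k :=
  Fin.cases (X 0) fun j => X j.succ + C (V j.succ) * X 0

/-- Shear along `V`, as an automorphism. -/
noncomputable def shear (V : Fin 4 → k) : MvPolynomial (Fin 4) k ≃ₐ[k] MvPolynomial (Fin 4) k :=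
  AlgEquiv.ofAlgHom (aeval (shearFun V)) (aeval (shearFun (-V)))
    (MvPolynomial.algHom_ext fun n => by refine Fin.cases ?_ ?_ n <;> intros <;> simp [shearFun])
    (MvPolynomial.algHom_ext fun n => by refine Fin.cases ?_ ?_ n <;> intros <;> simp [shearFun])

omit [CharZero k] in
theorem shear_eval {V : Fin 4 → k} (hV0 : V 0 = 1) {L : Type*} [Field L] [Algebra k L] (t : L)
    (x : Fin 3 → k) (P : MvPolynomial (Fin 4) k) :
    Polynomial.eval₂ ((algebraMap k L).comp (eval x)) t (finSuccEquiv k 3 (shear V P)) =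
      aeval (fun i => algebraMap k L (Fin.cases 0 x i) + t * algebraMap k L (V i)) P := by
  induction P using MvPolynomial.induction_on with
  | C c => simp [shear, finSuccEquiv_apply]
  | add p q hp hq => simp only [map_add, Polynomial.eval₂_add, hp, hq]
  | mul_X p n hp =>
    have key : Polynomial.eval₂ ((algebraMap k L).comp (eval x)) t (finSuccEquiv k 3 (shear V (X n))) =
        algebraMap k L (Fin.cases 0 x n) + t * algebraMap k L (V n) := by
     refine Fin.cases ?_ (fun n => ?_) n
     · simp [shear, shearFun, finSuccEquiv_apply, hV0]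
     · simp [shear, shearFun, finSuccEquiv_apply]
       ring
    simp only [map_mul, Polynomial.eval₂_mul, hp, key, aeval_X]

/-- A monic cubic polynomial all of whose roots give zeros of `F` avoiding `G`. -/
theorem exists_cubic_avoiding {F G : MvPolynomial (Fin 4) k} (hF : F.IsHomogeneous 3) (hprime : Prime F)
    (hG : ¬ F ∣ G) : ∃ (P : Polynomial k) (p v : Fin 4 → k), P.Monic ∧ P.natDegree = 3 ∧
      ∀ (L : Type*) [Field L] [Algebra k L] (t : L), Polynomial.aeval t P = 0 →
        aeval (fun i => algebraMap k L (p i) + t * algebraMap k L (v i)) F = 0 ∧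
        aeval (fun i => algebraMap k L (p i) + t * algebraMap k L (v i)) G ≠ 0 := by
  classical
  obtain ⟨V, hV, hV0⟩ : ∃ V : Fin 4 → k, eval V F ≠ 0 ∧ V 0 = 1 := by
    obtain ⟨W, hW⟩ := exists_all_ne_zero (k := k) (Finset.univ : Finset Bool)
      (fun o W => if o then eval W F else W 0) (fun o => by
        cases o
        · exact IsPolyFun.linear (LinearMap.proj (0 : Fin 4))
        · exact ⟨F, fun x => by simp⟩) (fun o _ => by
        cases o
        · exact ⟨fun _ => 1, by simp⟩
        · by_contra hc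
          push Not at hc
          exact hprime.ne_zero (MvPolynomial.funext fun x => by simpa using hc x))
    have hW0 : W 0 ≠ 0 := by simpa using hW false (Finset.mem_univ _)
    have hWF : eval W F ≠ 0 := by simpa using hW true (Finset.mem_univ _)
    refine ⟨(W 0)⁻¹ • W, ?_, by simp [hW0]⟩
    rw [eval_eq_tri hF] at hWF ⊢
    simp only [map_smul, LinearMap.smul_apply, smul_eq_mul]
    exact mul_ne_zero (inv_ne_zero hW0) (mul_ne_zero (inv_ne_zero hW0) (mul_ne_zero (inv_ne_zero hW0) hWF))
  let Φ : MvPolynomial (Fin 4) k ≃ₐ[k] Polynomial (MvPolynomial (Fin 3) k) := (shear V).trans (finSuccEquiv k 3)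
  have hσF : (shear V F).IsHomogeneous 3 := by
    have := hF.aeval (n := 1) (shearFun V) (fun n => by
      refine Fin.cases ?_ (fun n => ?_) n
      · simpa [shearFun] using isHomogeneous_X k (0 : Fin 4)
      · simpa [shearFun] using (isHomogeneous_X k n.succ).add ((isHomogeneous_X k (0 : Fin 4)).C_mul (V n.succ)))
    simp only [one_mul] at this
    exact this
  set f := Φ F with hf
  have hcoef : ∀ n, 3 ≤ n → ∀ d, coeff d (f.coeff n) ≠ 0 → n = 3 ∧ d = 0 := by
    intro n hn d hd
    rw [hf] at hd
    simp only [Φ, AlgEquiv.trans_apply, finSuccEquiv_coeff_coeff] at hd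
    have := hσF hd
    rw [Finsupp.weight_apply, Finsupp.sum_fintype _ _ (by simp), Fin.sum_univ_succ] at this
    simp only [Finsupp.cons_zero, Finsupp.cons_succ, Pi.one_apply, smul_eq_mul, mul_one] at this
    have hs : ∑ i, d i = 0 := by omega
    refine ⟨by omega, Finsupp.ext fun i => ?_⟩
    simpa using Finset.sum_eq_zero_iff.mp hs i (Finset.mem_univ i)
  have hdeg : f.natDegree ≤ 3 := Polynomial.natDegree_le_iff_coeff_eq_zero.mpr fun n hn => by
    ext d
    by_contra hd
    rw [coeff_zero] at hd
    have := (hcoef n (le_of_lt hn) d hd).1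
    omega
  set c := eval (0 : Fin 3 → k) (f.coeff 3) with hc
  have hf3 : f.coeff 3 = C c := by
    ext d
    rw [coeff_C]
    split_ifs with hd
    · subst hd
      rw [hc, eval_zero, constantCoeff_eq]
    · by_contra h0
      exact hd (hcoef 3 le_rfl d h0).2.symm
  have hcV : c = eval V F := by
    have h1 : ∀ t : k, (Polynomial.map (eval (0 : Fin 3 → k)) f).eval t = t ^ 3 * eval V F := by
      intro t
      rw [Polynomial.eval_map, show f = finSuccEquiv k 3 (shear V F) from rfl]
      have := shear_eval hV0 (L := k) t 0 F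
      simp only [Algebra.algebraMap_self, RingHom.id_comp, RingHom.id_apply] at this
      rw [this, aeval_eq_eval]
      have : (fun i => Fin.cases 0 (0 : Fin 3 → k) i + t * V i) = t • V := by
        funext i; refine Fin.cases ?_ ?_ i <;> simp
      rw [this, eval_eq_tri hF, eval_eq_tri hF]
      simp only [map_smul, LinearMap.smul_apply, smul_eq_mul]
      ring
    have : Polynomial.map (eval (0 : Fin 3 → k)) f = Polynomial.X ^ 3 * Polynomial.C (eval V F) :=
      Polynomial.funext fun t => by rw [h1]; simp; ring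
    have := congrArg (fun q => Polynomial.coeff q 3) this
    simpa [hc] using this
  have hc0 : c ≠ 0 := hcV ▸ hV
  set f' := Polynomial.C (C c⁻¹) * f with hf'
  have hf'3 : f'.coeff 3 = 1 := by rw [hf', Polynomial.coeff_C_mul, hf3, ← C_mul, inv_mul_cancel₀ hc0, C_1]
  have hdeg' : f'.natDegree ≤ 3 := (Polynomial.natDegree_C_mul_le _ _).trans hdeg
  have hmonic : f'.Monic := Polynomial.monic_of_natDegree_le_of_coeff_eq_one 3 hdeg' hf'3
  have hunit : IsUnit (Polynomial.C (C c⁻¹) : Polynomial (MvPolynomial (Fin 3) k)) :=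
    ((IsUnit.mk0 _ (inv_ne_zero hc0)).map C).map Polynomial.C
  have hfprime : Prime f := (MulEquiv.prime_iff Φ.toMulEquiv).mpr hprime
  have hp' : Prime f' := (associated_unit_mul_left f _ hunit).symm.prime hfprime
  have : IsDomain (AdjoinRoot f') := AdjoinRoot.isDomain_of_prime hp'
  have : Module.Finite (MvPolynomial (Fin 3) k) (AdjoinRoot f') := hmonic.finite_adjoinRoot
  have hg0 : AdjoinRoot.mk f' (Φ G) ≠ 0 := by
    rw [Ne, AdjoinRoot.mk_eq_zero]
    intro hd
    refine hG ((map_dvd_iff Φ).mp ?_)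
    exact (associated_unit_mul_left f _ hunit).symm.dvd.trans hd
  obtain ⟨r, hr0, hr⟩ := (Algebra.IsAlgebraic.isAlgebraic (R := MvPolynomial (Fin 3) k)
    (AdjoinRoot.mk f' (Φ G))).exists_nonzero_dvd (mem_nonZeroDivisors_of_ne_zero hg0)
  obtain ⟨x, hx⟩ : ∃ x, eval x r ≠ 0 := by
    by_contra hcon
    push Not at hcon
    exact hr0 (MvPolynomial.funext fun x => by rw [hcon, map_zero])
  obtain ⟨hh, hhh⟩ := hr
  obtain ⟨q, rfl⟩ := AdjoinRoot.mk_surjective hh
  rw [← map_mul, show algebraMap (MvPolynomial (Fin 3) k) (AdjoinRoot f') r = AdjoinRoot.mk f' (Polynomial.C r)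
    from rfl, AdjoinRoot.mk_eq_mk] at hhh
  obtain ⟨q', hq'⟩ := hhh
  refine ⟨f'.map (eval x), Fin.cases 0 x, V, hmonic.map _, ?_, ?_⟩
  · rw [hmonic.natDegree_map]
    exact le_antisymm hdeg' (Polynomial.le_natDegree_of_ne_zero (by rw [hf'3]; exact one_ne_zero))
  intro L _ _ t ht
  rw [Polynomial.aeval_def, Polynomial.eval₂_map] at ht
  refine ⟨?_, ?_⟩
  · rw [← shear_eval hV0 t x F, show finSuccEquiv k 3 (shear V F) = f from rfl]
    rw [hf', Polynomial.eval₂_mul, Polynomial.eval₂_C] at ht
    refine (mul_eq_zero.mp ht).resolve_left ?_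
    simp [hc0]
  · rw [← shear_eval hV0 t x G, show finSuccEquiv k 3 (shear V G) = Φ G from rfl]
    intro e
    have := congrArg (Polynomial.eval₂ ((algebraMap k L).comp (eval x)) t) hq'
    rw [Polynomial.eval₂_sub, Polynomial.eval₂_mul, Polynomial.eval₂_mul, Polynomial.eval₂_C, e, ht, zero_mul,
      zero_mul, sub_zero] at this
    exact hx ((algebraMap k L).injective (by rw [map_zero]; exact this))

theorem exists_rep_of_root {L : Type*} [Field L] [Algebra k L] {F : MvPolynomial (Fin 4) k}
    (hF : F.IsHomogeneous 3)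
    (hirr : Irreducible (MvPolynomial.map (algebraMap k (AlgebraicClosure k)) F))
    (hcone : ¬ ∃ v : Fin 4 → k, v ≠ 0 ∧ ∑ i : Fin 4, v i • pderiv i F = 0)
    (hroot : ∀ P : Polynomial k, P.Monic → P.natDegree = 3 → ∃ t : L, Polynomial.aeval t P = 0) :
    ∃ E : IntermediateField k L, FiniteDimensional k ↥E ∧ Module.finrank k ↥E ≤ 3 ∧
      ∃ M : Matrix (Fin 6) (Fin 6) (MvPolynomial (Fin 4) ↥E), (∀ i j, (M i j).IsHomogeneous 1) ∧ M.transpose = -M ∧
        (∀ i, M i i = 0) ∧ ∃ c : ↥E, c ≠ 0 ∧ M.det = C c * (MvPolynomial.map (algebraMap k ↥E) F) ^ 2 := by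
  obtain ⟨i, j, l, m, r, b, hb, hbG⟩ := exists_witness hF hirr hcone
  have hirrk := irreducible_of_map hF _ hirr
  obtain ⟨P, p, v, hPm, hPd, hP⟩ := exists_cubic_avoiding hF
    (UniqueFactorizationMonoid.irreducible_iff_prime.mp hirrk) (G := witness F i j l m r)
    (fun ⟨Q, hQ⟩ => hbG (by rw [hQ, map_mul, hb, zero_mul]))
  obtain ⟨t, ht⟩ := hroot P hPm hPd
  have hint : IsIntegral k t := ⟨P, hPm, ht⟩
  have := IntermediateField.adjoin.finiteDimensional hint
  refine ⟨IntermediateField.adjoin k {t}, this, ?_, ?_⟩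
  · rw [IntermediateField.adjoin.finrank hint]
    exact hPd ▸ Polynomial.natDegree_le_of_dvd (minpoly.dvd k t ht) hPm.ne_zero
  · have hgen : Polynomial.aeval (IntermediateField.AdjoinSimple.gen k t) P = 0 := by
      apply Subtype.val_injective
      rw [IntermediateField.AdjoinSimple.coe_aeval_gen_apply, ht]
      rfl
    obtain ⟨h1, h2⟩ := hP _ _ hgen
    exact pfaffian_of_witness hF hirr hcone h1 h2

end Groth.L14.Cubic
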