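import Groth.Agent.L14.Cubic.Eckardt
import Mathlib.Data.Matrix.Mul
import Mathlib.LinearAlgebra.Matrix.ToLin

/-!
Eckardt points: translation to homogeneous polynomials and matrices.
-/

open MvPolynomial Module

namespace Groth.L14.Cubic

variable {f : MvPolynomial (Fin 4) ℂ} (hf : f.IsHomogeneous 3)
  (hsm : ∀ v : Fin 4 → ℂ, v ≠ 0 → eval v f = 0 → ∃ i : Fin 4, eval v (pderiv i f) ≠ 0)

/-- The hypothesis used in the statements. -/
def EckPt (f : MvPolynomial (Fin 4) ℂ) (e : Fin 4 → ℂ) : Prop :=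
  ∃ U : Fin 3 → Submodule ℂ (Fin 4 → ℂ), Function.Injective U ∧
    ∀ i : Fin 3, Module.finrank ℂ ↥(U i) = 2 ∧ e ∈ U i ∧ ∀ u ∈ U i, eval u f = 0

/-- The involution hypothesis used in the statements. -/
def InvAt (f : MvPolynomial (Fin 4) ℂ) (A : Matrix (Fin 4) (Fin 4) ℂ) (e : Fin 4 → ℂ) : Prop :=
  A * A = 1 ∧ Module.finrank ℂ ↥(LinearMap.ker (Matrix.toLin' A - LinearMap.id)) = 3 ∧
    A.mulVec e = -e ∧ ∃ c : ℂ, aeval (fun i : Fin 4 => ∑ j : Fin 4, C (A i j) * X j) f = C c * f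

theorem mat_eq {A B : Matrix (Fin 4) (Fin 4) ℂ} (h : ∀ w, A.mulVec w = B.mulVec w) : A = B :=
  Matrix.toLin'.injective (LinearMap.ext fun w => by simp [Matrix.toLin'_apply, h])

include hf in
theorem eckPt_iff {e : Fin 4 → ℂ} : EckPt f e ↔ Eck (tri f) e := by
  simp only [EckPt, Eck, eval_eq_tri hf]

include hf hsm

theorem surf : Surf (tri f) :=
  ⟨tri_swap12 f, tri_swap23 f, by simp, smooth_tri hf hsm⟩

theorem exists_polar {e : Fin 4 → ℂ} (he : e ≠ 0) (hE : EckPt f e) : ∃ L, IsPolar (tri f) L e :=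
  (surf hf hsm).exists_polar_of_eck he ((eckPt_iff hf).mp hE)

theorem inv_data {A : Matrix (Fin 4) (Fin 4) ℂ} {p : Fin 4 → ℂ} (hp : p ≠ 0) (hA : InvAt f A p) :
    ∃ L, IsPolar (tri f) L p ∧ ∀ w, A.mulVec w = w - L w • p := by
  obtain ⟨hAA, hk, hAp, c, hc⟩ := hA
  set R := Matrix.toLin' A - LinearMap.id with hR
  have hrange : LinearMap.range R = ℂ ∙ p := by
    symm
    refine Submodule.eq_of_le_of_finrank_eq ?_ ?_
    · rw [Submodule.span_singleton_le_iff_mem]
      exact ⟨(-1 / 2 : ℂ) • p, by simp [hR, Matrix.toLin'_apply, hAp, Matrix.mulVec_smul]; module⟩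
    · have := R.finrank_range_add_finrank_ker
      rw [hk, Module.finrank_pi, Fintype.card_fin] at this
      rw [finrank_span_singleton hp]
      omega
  obtain ⟨φ, hφ⟩ : ∃ φ : (Fin 4 → ℂ) →ₗ[ℂ] ℂ, φ p = 1 := by
    obtain ⟨i, hi⟩ := Function.ne_iff.mp hp
    exact ⟨(p i)⁻¹ • LinearMap.proj i, by simpa using inv_mul_cancel₀ hi⟩
  refine ⟨φ ∘ₗ (-R), ?_⟩
  have happ : ∀ w, A.mulVec w = w - (φ ∘ₗ (-R)) w • p := by
    intro w
    obtain ⟨k, hk⟩ := Submodule.mem_span_singleton.mp (hrange ▸ LinearMap.mem_range_self R w)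
    have hw : A.mulVec w = w + k • p := by rw [hk]; simp [hR, Matrix.toLin'_apply]
    rw [LinearMap.comp_apply, LinearMap.neg_apply, ← hk, map_neg, map_smul, hφ, smul_eq_mul, mul_one, hw]
    module
  refine ⟨?_, happ⟩
  have hLp : (φ ∘ₗ (-R)) p = 2 := by
    simp [hR, Matrix.toLin'_apply, hAp, hφ]
    norm_num
  refine ((surf hf hsm).polar_of_preserves hLp c fun w => ?_).1
  rw [refl_apply, ← happ, ← eval_eq_tri hf, ← eval_eq_tri hf]
  exact eval_of_aeval hc w

theorem existsUnique_inv {e : Fin 4 → ℂ} (he : e ≠ 0) (hE : EckPt f e) : ∃! A, InvAt f A e := by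
  have hS := surf hf hsm
  obtain ⟨L, hL⟩ := exists_polar hf hsm he hE
  set A := LinearMap.toMatrix' (refl L e) with hA
  have hv : ∀ w, A.mulVec w = refl L e w := fun w => by rw [hA, LinearMap.toMatrix'_mulVec]
  refine ⟨A, ⟨?_, ?_, ?_, 1, ?_⟩, ?_⟩
  · exact mat_eq fun w => by rw [← Matrix.mulVec_mulVec, hv, hv, refl_refl hL.1, Matrix.one_mulVec]
  · rw [hA, Matrix.toLin'_toMatrix']; exact finrank_ker_refl hL.1 hS.dim
  · rw [hv, refl_self hL.1]
  · exact aeval_of_eval fun w => by rw [eval_eq_tri hf, eval_eq_tri hf, hv, hS.polar_preserves hL, one_mul]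
  · intro B hB
    obtain ⟨L', hL', hB'⟩ := inv_data hf hsm he hB
    exact mat_eq fun w => by rw [hv, hB', refl_apply, hS.polar_unique hL hL']

theorem eck_of_inv {A : Matrix (Fin 4) (Fin 4) ℂ} {p : Fin 4 → ℂ} (hp : p ≠ 0) (hA : InvAt f A p) :
    EckPt f p := by
  obtain ⟨L, hL, -⟩ := inv_data hf hsm hp hA
  exact (eckPt_iff hf).mpr ((surf hf hsm).eck_of_polar hL)

theorem eck_map {L : (Fin 4 → ℂ) →ₗ[ℂ] ℂ} {e x : Fin 4 → ℂ} (hL : IsPolar (tri f) L e) (hx : EckPt f x) :
    EckPt f (refl L e x) := by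
  obtain ⟨U, hinj, hU⟩ := hx
  have hri : Function.Injective (refl L e) := fun a b h => by
    have := congrArg (refl L e) h; rwa [refl_refl hL.1, refl_refl hL.1] at this
  refine ⟨fun i => (U i).map (refl L e), fun i j h => hinj (Submodule.map_injective_of_injective hri h),
    fun i => ⟨?_, Submodule.mem_map_of_mem (hU i).2.1, ?_⟩⟩
  · rw [← ((U i).equivMapOfInjective _ hri).finrank_eq, (hU i).1]
  · rintro _ ⟨u, hu, rfl⟩
    rw [eval_eq_tri hf, (surf hf hsm).polar_preserves hL, ← eval_eq_tri hf]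
    exact (hU i).2.2 u hu

section TwoPoints

variable {e e' : Fin 4 → ℂ} (he : e ≠ 0) (he' : e' ∉ Submodule.span ℂ {e})
  {L L' : (Fin 4 → ℂ) →ₗ[ℂ] ℂ} (hL : IsPolar (tri f) L e) (hL' : IsPolar (tri f) L' e')
include hL hL'

theorem line_eval (a b : ℂ) : eval (a • e + b • e') f = 3 * tri f e e e' * (a * b * (a + b * L e')) := by
  have hS := surf hf hsm
  rw [eval_eq_tri hf, hS.expand, hS.point_zero hL, hS.point_zero hL', hL.2 e']
  ring

theorem cross : tri f e' e' e = L e' * tri f e e e' := by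
  rw [← hL.2 e', (surf hf hsm).r1 e' e]

theorem mul_eq_one (hD : tri f e e e' ≠ 0) : L e' * L' e = 1 := by
  have hS := surf hf hsm
  have h := hL'.2 e
  rw [hS.r1 e e', cross hf hsm hL hL'] at h
  exact mul_right_cancel₀ hD (by linear_combination -h)

theorem D_ne (hl : ¬ ∀ u ∈ Submodule.span ℂ {e, e'}, eval u f = 0) : tri f e e e' ≠ 0 := by
  intro h0
  apply hl
  intro u hu
  obtain ⟨a, b, rfl⟩ := Submodule.mem_span_pair.mp hu
  rw [line_eval hf hsm hL hL', h0]
  ring

theorem D_zero (hl : ∀ u ∈ Submodule.span ℂ {e, e'}, eval u f = 0) : tri f e e e' = 0 := by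
  have h1 := hl _ (Submodule.mem_span_pair.mpr ⟨(1 : ℂ), (1 : ℂ), rfl⟩)
  have h2 := hl _ (Submodule.mem_span_pair.mpr ⟨(-1 : ℂ), (1 : ℂ), rfl⟩)
  rw [line_eval hf hsm hL hL'] at h1 h2
  linear_combination h1 / 6 + h2 / 6

include he he' in
theorem polar_zero_of_line (hl : ∀ u ∈ Submodule.span ℂ {e, e'}, eval u f = 0) : L e' = 0 ∧ L' e = 0 := by
  have hS := surf hf hsm
  have hD := D_zero hf hsm hL hL' hl
  have hD' : tri f e' e' e = 0 := by rw [cross hf hsm hL hL', hD, mul_zero]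
  have h1 : ∀ u, 2 * tri f e e' u = L e' * tri f e e u := fun u => by
    rw [hS.polar_bilin hL, hD]; ring
  have h2 : ∀ u, 2 * tri f e e' u = L' e * tri f e' e' u := fun u => by
    rw [hS.s12 e e' u, hS.polar_bilin hL', hD']; ring
  have he0' : e' ≠ 0 := fun h => he' (by rw [h]; exact zero_mem _)
  obtain ⟨z, hz⟩ := hS.exists_linear e he
  obtain ⟨z', hz'⟩ := hS.exists_linear e' he0'
  have hm : L e' = 0 := by
    by_contra hm
    have hn : L' e ≠ 0 := by
      intro hn
      have := (h1 z).symm.trans (h2 z)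
      rw [hn, hz, zero_mul, mul_one] at this
      exact hm this
    obtain ⟨a, ha⟩ := exists_quad_root (a := (1 : ℂ)) (b := L e') (c := L e' / L' e) one_ne_zero
    refine hS.smooth (a • e + (1 : ℂ) • e') ?_ fun u => ?_
    · intro h0
      apply he'
      rw [one_smul] at h0
      rw [eq_neg_of_add_eq_zero_right h0, ← neg_smul]
      exact Submodule.smul_mem _ _ (Submodule.mem_span_singleton_self e)
    · have hu : tri f e' e' u = L e' / L' e * tri f e e u := by
        field_simp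
        linear_combination (h1 u).symm.trans (h2 u) |>.symm
      rw [hS.expand2, hu]
      linear_combination tri f e e u * ha + a * h1 u
  refine ⟨hm, ?_⟩
  have := (h1 z').symm.trans (h2 z')
  rw [hm, hz', zero_mul, mul_one] at this
  exact this.symm

end TwoPoints

theorem line_xor {e e' : Fin 4 → ℂ} (he : e ≠ 0) (he' : e' ∉ Submodule.span ℂ {e})
    (hE : EckPt f e) (hE' : EckPt f e') :
    Xor (∀ u ∈ Submodule.span ℂ {e, e'}, eval u f = 0)
      (∃ e'' : Fin 4 → ℂ, e'' ∈ Submodule.span ℂ {e, e'} ∧ e'' ∉ Submodule.span ℂ {e} ∧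
        e'' ∉ Submodule.span ℂ {e'} ∧ EckPt f e'' ∧
        ∀ u ∈ Submodule.span ℂ {e, e'}, eval u f = 0 →
          u ∈ Submodule.span ℂ {e} ∨ u ∈ Submodule.span ℂ {e'} ∨ u ∈ Submodule.span ℂ {e''}) := by
  obtain ⟨L, hL⟩ := exists_polar hf hsm he hE
  obtain ⟨L', hL'⟩ := exists_polar hf hsm (fun h => he' (by rw [h]; exact zero_mem _)) hE'
  have hli : ∀ a b : ℂ, a • e + b • e' = 0 → a = 0 ∧ b = 0 := by
    intro a b hab
    have hb : b = 0 := by
      by_contra hb
      apply he'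
      have : e' = (-b⁻¹ * a) • e := by
        rw [mul_smul, eq_neg_of_add_eq_zero_left hab, neg_smul, smul_neg, neg_neg, inv_smul_smul₀ hb]
      rw [this]; exact Submodule.smul_mem _ _ (Submodule.mem_span_singleton_self e)
    rw [hb, zero_smul, add_zero, smul_eq_zero] at hab
    exact ⟨hab.resolve_right he, hb⟩
  by_cases hl : ∀ u ∈ Submodule.span ℂ {e, e'}, eval u f = 0
  · refine Or.inl ⟨hl, ?_⟩
    rintro ⟨e'', hmem, h1, h2, -, h4⟩
    obtain ⟨a, b, rfl⟩ := Submodule.mem_span_pair.mp hmem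
    have ha : a ≠ 0 := fun h => h2 (by
      rw [h, zero_smul, zero_add]; exact Submodule.smul_mem _ _ (Submodule.mem_span_singleton_self _))
    obtain ⟨s, hs, hs'⟩ : ∃ s : ℂ, s ≠ 0 ∧ s * a ≠ b := by
      by_cases h : a = b
      · exact ⟨2, two_ne_zero, fun h2 => ha (by linear_combination h2 - h)⟩
      · exact ⟨1, one_ne_zero, by rwa [one_mul]⟩
    have hu : (1 : ℂ) • e + s • e' ∈ Submodule.span ℂ {e, e'} := Submodule.mem_span_pair.mpr ⟨1, s, rfl⟩
    rcases h4 _ hu (hl _ hu) with h | h | h <;> obtain ⟨k, hk⟩ := Submodule.mem_span_singleton.mp h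
    · exact hs (hli (1 - k) s (by linear_combination (norm := module) (-1 : ℂ) • hk)).2
    · exact one_ne_zero (hli 1 (s - k) (by linear_combination (norm := module) (-1 : ℂ) • hk)).1
    · have := hli (1 - k * a) (s - k * b) (by linear_combination (norm := module) (-1 : ℂ) • hk)
      exact hs' (by linear_combination a * this.2 - b * this.1)
  · refine Or.inr ⟨?_, hl⟩
    have hD := D_ne hf hsm hL hL' hl
    have hm : L e' ≠ 0 := fun h => zero_ne_one (α := ℂ) (by
      have := mul_eq_one hf hsm hL hL' hD; rwa [h, zero_mul] at this)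
    refine ⟨refl L e e', ?_, ?_, ?_, eck_map hf hsm hL hE', ?_⟩
    · rw [refl_apply]
      exact Submodule.mem_span_pair.mpr ⟨-L e', 1, by module⟩
    · rw [Submodule.mem_span_singleton]
      rintro ⟨k, hk⟩
      rw [refl_apply] at hk
      exact one_ne_zero (hli (-L e' - k) 1 (by linear_combination (norm := module) (-1 : ℂ) • hk)).2
    · rw [Submodule.mem_span_singleton]
      rintro ⟨k, hk⟩
      rw [refl_apply] at hk
      exact hm (neg_eq_zero.mp (hli (-L e') (1 - k) (by linear_combination (norm := module) (-1 : ℂ) • hk)).1)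
    · intro u hu h0
      obtain ⟨a, b, rfl⟩ := Submodule.mem_span_pair.mp hu
      rw [line_eval hf hsm hL hL'] at h0
      rcases mul_eq_zero.mp ((mul_eq_zero.mp h0).resolve_left (mul_ne_zero three_ne_zero hD)) with h | h
      · rcases mul_eq_zero.mp h with h | h
        · exact Or.inr (Or.inl (by rw [h, zero_smul, zero_add]
                                   exact Submodule.smul_mem _ _ (Submodule.mem_span_singleton_self _)))
        · exact Or.inl (by rw [h, zero_smul, add_zero]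
                           exact Submodule.smul_mem _ _ (Submodule.mem_span_singleton_self _))
      · refine Or.inr (Or.inr (Submodule.mem_span_singleton.mpr ⟨b, ?_⟩))
        rw [refl_apply, show a = -(b * L e') by linear_combination h]
        module

theorem commute_of_line {e e' : Fin 4 → ℂ} (he : e ≠ 0) (he' : e' ∉ Submodule.span ℂ {e})
    (hl : ∀ u ∈ Submodule.span ℂ {e, e'}, eval u f = 0)
    {A A' : Matrix (Fin 4) (Fin 4) ℂ} (hA : InvAt f A e) (hA' : InvAt f A' e') :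
    (∃ c : ℂ, A * A' = c • (A' * A)) ∧ (∃ d : ℂ, A.mulVec e' = d • e') ∧ (∃ d : ℂ, A'.mulVec e = d • e) := by
  obtain ⟨L, hL, hAv⟩ := inv_data hf hsm he hA
  obtain ⟨L', hL', hAv'⟩ := inv_data hf hsm (fun h => he' (by rw [h]; exact zero_mem _)) hA'
  obtain ⟨hm, hn⟩ := polar_zero_of_line hf hsm he he' hL hL' hl
  refine ⟨⟨1, ?_⟩, ⟨1, by rw [hAv, hm]; simp⟩, ⟨1, by rw [hAv', hn]; simp⟩⟩
  rw [one_smul]
  refine mat_eq fun w => ?_
  simp only [← Matrix.mulVec_mulVec, hAv, hAv', map_sub, map_smul, hm, hn, smul_eq_mul, mul_zero, sub_zero]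
  module

theorem dihedral {e e' e'' : Fin 4 → ℂ} (he : e ≠ 0) (he' : e' ∉ Submodule.span ℂ {e})
    (h1 : e'' ∉ Submodule.span ℂ {e}) (h2 : e'' ∉ Submodule.span ℂ {e'})
    (hmem : e'' ∈ Submodule.span ℂ {e, e'})
    (hE'' : EckPt f e'')
    (hl : ¬ ∀ u ∈ Submodule.span ℂ {e, e'}, eval u f = 0)
    {A A' A'' : Matrix (Fin 4) (Fin 4) ℂ} (hA : InvAt f A e) (hA' : InvAt f A' e') (hA'' : InvAt f A'' e'') :
    (¬ ∃ c : ℂ, A * A' = c • (1 : Matrix (Fin 4) (Fin 4) ℂ)) ∧
      (∃ c : ℂ, (A * A') ^ 3 = c • (1 : Matrix (Fin 4) (Fin 4) ℂ)) ∧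
      ∃ c : ℂ, A'' = c • (A * A' * A) := by
  have hS := surf hf hsm
  obtain ⟨L, hL, hAv⟩ := inv_data hf hsm he hA
  obtain ⟨L', hL', hAv'⟩ := inv_data hf hsm (fun h => he' (by rw [h]; exact zero_mem _)) hA'
  obtain ⟨L'', hL'', hAv''⟩ := inv_data hf hsm (fun h => h1 (by rw [h]; exact zero_mem _)) hA''
  have hD := D_ne hf hsm hL hL' hl
  have hmn := mul_eq_one hf hsm hL hL' hD
  have hm : L e' ≠ 0 := fun h => zero_ne_one (α := ℂ) (by rwa [h, zero_mul] at hmn)
  have hn : L' e ≠ 0 := fun h => zero_ne_one (α := ℂ) (by rwa [h, mul_zero] at hmn)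
  -- conjugation
  have hconj : ∀ (M N : (Fin 4 → ℂ) →ₗ[ℂ] ℂ) (x y : Fin 4 → ℂ), IsPolar (tri f) M x → IsPolar (tri f) N y →
      IsPolar (tri f) (N ∘ₗ refl M x) (refl M x y) ∧
      ∀ w, refl M x (refl N y (refl M x w)) = refl (N ∘ₗ refl M x) (refl M x y) w := by
    intro M N x y hM hN
    have heq : ∀ w, refl M x (refl N y (refl M x w)) = refl (N ∘ₗ refl M x) (refl M x y) w := by
      intro w
      rw [refl_apply N y, map_sub, map_smul, refl_refl hM.1, refl_apply (N ∘ₗ refl M x)]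
      rfl
    refine ⟨((hS.polar_of_preserves (c := 1) ?_ fun w => ?_)).1, heq⟩
    · rw [LinearMap.comp_apply, refl_refl hM.1, hN.1]
    · rw [← heq, hS.polar_preserves hM, hS.polar_preserves hN, hS.polar_preserves hM, one_mul]
  obtain ⟨hP, hPv⟩ := hconj L L' e e' hL hL'
  obtain ⟨hQ, hQv⟩ := hconj L' L e' e hL' hL
  have hkey : ∀ (k : ℂ) (M : (Fin 4 → ℂ) →ₗ[ℂ] ℂ), k ≠ 0 → IsPolar (tri f) M (k • refl L e e') →
      ∀ w, refl M (k • refl L e e') w = refl (L' ∘ₗ refl L e) (refl L e e') w := by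
    intro k M hk hM w
    rw [hS.polar_unique hM (hS.polar_smul hP hk), refl_apply (k⁻¹ • _), refl_apply (L' ∘ₗ refl L e),
      LinearMap.smul_apply, smul_smul, smul_eq_mul, mul_comm k⁻¹, mul_assoc, inv_mul_cancel₀ hk, mul_one]
  have hsame : A * A' * A = A' * A * A' := by
    refine mat_eq fun w => ?_
    simp only [← Matrix.mulVec_mulVec, hAv, hAv', ← refl_apply]
    rw [hPv, hQv]
    have hpt : refl L' e' e = (-L' e) • refl L e e' := by
      rw [refl_apply, refl_apply, smul_sub, smul_smul, neg_mul, mul_comm, hmn]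
      module
    have hQ' := hQ
    rw [hpt] at hQ' ⊢
    exact (hkey _ _ (neg_ne_zero.mpr hn) hQ' w).symm
  refine ⟨?_, ⟨1, ?_⟩, ?_⟩
  · rintro ⟨c, hc⟩
    have := congrArg (fun M : Matrix (Fin 4) (Fin 4) ℂ => M.mulVec e) hc
    simp only [← Matrix.mulVec_mulVec, hAv, hAv', map_sub, map_smul, hL.1, smul_eq_mul, Matrix.smul_mulVec,
      Matrix.one_mulVec] at this
    have h0 : (-L' e) • e' = c • e := by
      rw [← this]
      have h' : L' e * L e' = 1 := by rw [mul_comm]; exact hmn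
      rw [h']
      module
    apply he'
    have he'' : e' = ((-L' e)⁻¹ * c) • e := by rw [mul_smul, ← h0, inv_smul_smul₀ (neg_ne_zero.mpr hn)]
    rw [he'']
    exact Submodule.smul_mem _ _ (Submodule.mem_span_singleton_self e)
  · rw [one_smul, pow_three,
      show A * A' * (A * A' * (A * A')) = A * A' * A * (A' * A * A') by simp only [mul_assoc], ← hsame,
      show A * A' * A * (A * A' * A) = A * A' * (A * A) * A' * A by simp only [mul_assoc], hA.1, mul_one,
      show A * A' * A' * A = A * (A' * A') * A by simp only [mul_assoc], hA'.1, mul_one, hA.1]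
  · obtain ⟨a, b, rfl⟩ := Submodule.mem_span_pair.mp hmem
    have hz : eval (a • e + b • e') f = 0 := by
      obtain ⟨U, -, hU⟩ := hE''
      exact (hU 0).2.2 _ (hU 0).2.1
    rw [line_eval hf hsm hL hL'] at hz
    have hb : b ≠ 0 := fun h => h1 (by
      rw [h, zero_smul, add_zero]; exact Submodule.smul_mem _ _ (Submodule.mem_span_singleton_self _))
    have ha : a ≠ 0 := fun h => h2 (by
      rw [h, zero_smul, zero_add]; exact Submodule.smul_mem _ _ (Submodule.mem_span_singleton_self _))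
    have hab : a + b * L e' = 0 :=
      (mul_eq_zero.mp ((mul_eq_zero.mp hz).resolve_left (mul_ne_zero three_ne_zero hD))).resolve_left
        (mul_ne_zero ha hb)
    have hpt : a • e + b • e' = b • refl L e e' := by
      rw [refl_apply, show a = -(b * L e') by linear_combination hab]
      module
    refine ⟨1, ?_⟩
    rw [one_smul]
    refine mat_eq fun w => ?_
    simp only [← Matrix.mulVec_mulVec, hAv, hAv', hAv'', ← refl_apply]
    rw [hPv]
    have h3 := hL''
    rw [hpt] at h3 ⊢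
    exact hkey _ _ hb h3 w

end Groth.L14.Cubic
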