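import Groth.Agent.L14.Cubic.Sect

/-!
A tangent section which is a triangle cannot have all smooth points of its sides split.
-/

namespace Groth.L14.Cubic

variable {K : Type*} [Field K]

theorem conic_det_zero [Infinite K] {Cuu Cvv Cuv Cut Cvt Ctt : K} (a b c : Fin 3 → K)
    (h : ∀ u v t : K, t * (Cuu * u ^ 2 + Cvv * v ^ 2 + Cuv * u * v + Cut * u * t + Cvt * v * t + Ctt * t ^ 2) =
      (a 0 * u + b 0 * v + c 0 * t) * (a 1 * u + b 1 * v + c 1 * t) * (a 2 * u + b 2 * v + c 2 * t)) [CharZero K] :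
    4 * Cuu * Cvv * Ctt + Cuv * Cut * Cvt - Cuu * Cvt ^ 2 - Cvv * Cut ^ 2 - Ctt * Cuv ^ 2 = 0 := by
  have key : ∀ i j l : Fin 3, a i = 0 → b i = 0 →
      (∀ u v t : K, (a 0 * u + b 0 * v + c 0 * t) * (a 1 * u + b 1 * v + c 1 * t) * (a 2 * u + b 2 * v + c 2 * t) =
        (a i * u + b i * v + c i * t) * (a j * u + b j * v + c j * t) * (a l * u + b l * v + c l * t)) →
      4 * Cuu * Cvv * Ctt + Cuv * Cut * Cvt - Cuu * Cvt ^ 2 - Cvv * Cut ^ 2 - Ctt * Cuv ^ 2 = 0 := by
    intro i j l ha hb hp
    have e := fun u v => (h u v 1).trans (hp u v 1)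
    simp only [ha, hb, zero_mul, zero_add, mul_one] at e
    have h1 := e 0 0
    have h2 := e 1 0
    have h3 := e (-1) 0
    have h4 := e 0 1
    have h5 := e 0 (-1)
    have h6 := e 1 1
    have x1 : Ctt = c i * (c j * c l) := by linear_combination h1
    have x2 : Cut = c i * (a j * c l + c j * a l) := by linear_combination (h2 - h3) / 2
    have x3 : Cuu = c i * (a j * a l) := by linear_combination (h2 + h3) / 2 - h1
    have x4 : Cvt = c i * (b j * c l + c j * b l) := by linear_combination (h4 - h5) / 2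
    have x5 : Cvv = c i * (b j * b l) := by linear_combination (h4 + h5) / 2 - h1
    have x6 : Cuv = c i * (a j * b l + b j * a l) := by linear_combination h6 - h2 - h4 + h1
    rw [x1, x2, x3, x4, x5, x6]; ring
  have hex : ∃ i : Fin 3, a i = 0 ∧ b i = 0 := by
    by_contra hc
    push Not at hc
    obtain ⟨n, hn⟩ := exists_good_t (k := K) (Finset.univ : Finset (Fin 3))
      (fun i => Polynomial.C (a i) + Polynomial.C (b i) * Polynomial.X) (fun i _ e => by
        have e0 := congrArg (fun p => Polynomial.coeff p 0) e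
        have e1 := congrArg (fun p => Polynomial.coeff p 1) e
        simp at e0 e1
        exact hc i e0 e1)
    have := h 1 n 0
    simp only [zero_mul, mul_one, mul_zero, add_zero] at this
    rcases mul_eq_zero.mp this.symm with h01 | h2
    · rcases mul_eq_zero.mp h01 with h0 | h1
      · exact hn 0 (Finset.mem_univ _) (by simpa using h0)
      · exact hn 1 (Finset.mem_univ _) (by simpa using h1)
    · exact hn 2 (Finset.mem_univ _) (by simpa using h2)
  obtain ⟨i, ha, hb⟩ := hex
  fin_cases i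
  · exact key 0 1 2 ha hb fun u v t => rfl
  · exact key 1 0 2 ha hb fun u v t => by ring
  · exact key 2 0 1 ha hb fun u v t => by ring

variable [CharZero K] [IsAlgClosed K] {F : MvPolynomial (Fin 4) K}

/-- The condition coming from one side of the triangle. -/
theorem side_det {e0 e1 e2 z : Fin 4 → K} {q11 q22 q01 q02 q12 q03 q13 q23 q33 : K}
    (hΦ : ∀ u v w t : K, tri F (u • e0 + v • e1 + w • e2 + t • z) (u • e0 + v • e1 + w • e2 + t • z)
      (u • e0 + v • e1 + w • e2 + t • z) = u * v * w + t * (u ^ 2 + q11 * v ^ 2 + q22 * w ^ 2 + q01 * u * v +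
        q02 * u * w + q12 * v * w + q03 * u * t + q13 * v * t + q23 * w * t + q33 * t ^ 2))
    (hall : ∀ b y, tri F b b b = 0 → tri F b b y ≠ 0 → SplitAt F b) (m : K) (hm : m ≠ 0) :
    4 * q11 * ((m - q01) ^ 2 * q22 + (m - q01) * q23 + q33) +
      m * ((m - q01) * q02 + q03) * ((m - q01) * q12 + q13) -
      ((m - q01) * q12 + q13) ^ 2 - q11 * ((m - q01) * q02 + q03) ^ 2 -
      ((m - q01) ^ 2 * q22 + (m - q01) * q23 + q33) * m ^ 2 = 0 := by
  have hT := tri_sym3 F
  obtain ⟨s, hs⟩ : ∃ s, q11 * s ^ 2 + m * s + 1 = 0 := by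
    by_cases hq : q11 = 0
    · exact ⟨-1 / m, by rw [hq]; field_simp; ring⟩
    · obtain ⟨s, hs⟩ := IsAlgClosed.exists_root
        (Polynomial.C q11 * Polynomial.X ^ 2 + Polynomial.C m * Polynomial.X + Polynomial.C 1)
        (by rw [Polynomial.degree_quadratic hq]; decide)
      exact ⟨s, by simpa [Polynomial.IsRoot] using hs⟩
  have hs0 : s ≠ 0 := by rintro rfl; simp at hs
  set p := e0 + s • e1 with hp
  have hpol : ∀ y, 3 * tri F p p y = (tri F ((1 : K) • p + (1 : K) • y) ((1 : K) • p + (1 : K) • y) ((1 : K) • p + (1 : K) • y) -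
      tri F ((1 : K) • p + (-1 : K) • y) ((1 : K) • p + (-1 : K) • y) ((1 : K) • p + (-1 : K) • y)) / 2 - tri F y y y := by
    intro y
    rw [hT.expand, hT.expand]
    ring
  have hval : ∀ (u v w t : K), 3 * tri F p p (u • e0 + v • e1 + w • e2 + t • z) =
      s * w + t * (1 + q11 * s ^ 2 + q01 * s) := by
    intro u v w t
    rw [hpol, hΦ]
    have a1 : (1 : K) • p + (1 : K) • (u • e0 + v • e1 + w • e2 + t • z) =
        (1 + u) • e0 + (s + v) • e1 + w • e2 + t • z := by rw [hp]; module
    have a2 : (1 : K) • p + (-1 : K) • (u • e0 + v • e1 + w • e2 + t • z) =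
        (1 - u) • e0 + (s - v) • e1 + (-w) • e2 + (-t) • z := by rw [hp]; module
    rw [a1, a2, hΦ, hΦ]
    ring
  have hpF : tri F p p p = 0 := by
    have := hΦ 1 s 0 0
    simpa [hp] using this
  have hsm : tri F p p e2 ≠ 0 := by
    have := hval 0 0 1 0
    simp only [zero_smul, one_smul, zero_add, add_zero, mul_one, zero_mul] at this
    intro e
    rw [e, mul_zero] at this
    exact hs0 this.symm
  obtain ⟨R₀, R₁, R₂, hR⟩ := hall p e2 hpF hsm
  set l := m - q01 with hl
  refine (conic_det_zero (Cuu := 1) (Cvv := q11) (Cuv := m) (Cut := l * q02 + q03) (Cvt := l * q12 + q13)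
    (Ctt := l ^ 2 * q22 + l * q23 + q33) ![R₀ e0, R₁ e0, R₂ e0] ![R₀ e1, R₁ e1, R₂ e1]
    ![R₀ (l • e2 + z), R₁ (l • e2 + z), R₂ (l • e2 + z)] fun u v t => ?_).symm.trans ?_ |>.symm
  · have hw : u • e0 + v • e1 + (t * l) • e2 + t • z = u • e0 + v • e1 + t • (l • e2 + z) := by module
    have hx : tri F p p (u • e0 + v • e1 + (t * l) • e2 + t • z) = 0 := by
      have := hval u v (t * l) t
      have h0 : s * (t * l) + t * (1 + q11 * s ^ 2 + q01 * s) = 0 := by rw [hl]; linear_combination t * hs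
      rw [h0] at this
      exact (mul_eq_zero.mp this).resolve_left three_ne_zero
    have := hR _ hx
    rw [hΦ, hw] at this
    simp only [map_add, map_smul, smul_eq_mul] at this
    simp only [Matrix.cons_val_zero, Matrix.cons_val_one, Matrix.cons_val]
    simp only [map_add, map_smul, smul_eq_mul]
    rw [hl] at this ⊢
    linear_combination this
  · ring

theorem triangle_false (h : CubicNC F) {e0 e1 e2 z : Fin 4 → K} (hli : LinearIndependent K ![e0, e1, e2, z])
    {q11 q22 q01 q02 q12 q03 q13 q23 q33 : K}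
    (hΦ : ∀ u v w t : K, tri F (u • e0 + v • e1 + w • e2 + t • z) (u • e0 + v • e1 + w • e2 + t • z)
      (u • e0 + v • e1 + w • e2 + t • z) = u * v * w + t * (u ^ 2 + q11 * v ^ 2 + q22 * w ^ 2 + q01 * u * v +
        q02 * u * w + q12 * v * w + q03 * u * t + q13 * v * t + q23 * w * t + q33 * t ^ 2))
    (hall : ∀ b y, tri F b b b = 0 → tri F b b y ≠ 0 → SplitAt F b) : False := by
  have D := side_det hΦ hall
  have D' := side_det (e1 := e2) (e2 := e1) (q11 := q22) (q22 := q11) (q01 := q02) (q02 := q01) (q12 := q12)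
    (q03 := q03) (q13 := q23) (q23 := q13) (q33 := q33) (z := z) (e0 := e0)
    (fun u v w t => by
      have := hΦ u w v t
      rw [show u • e0 + v • e2 + w • e1 + t • z = u • e0 + w • e1 + v • e2 + t • z by module, this]
      ring) hall
  have h22 : q22 = 0 := by
    linear_combination (-1 / 24 : K) * (D 5 (by norm_num) - 4 * D 4 (by norm_num) + 6 * D 3 (by norm_num) -
      4 * D 2 (by norm_num) + D 1 one_ne_zero)
  have h11 : q11 = 0 := by
    linear_combination (-1 / 24 : K) * (D' 5 (by norm_num) - 4 * D' 4 (by norm_num) + 6 * D' 3 (by norm_num) -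
      4 * D' 2 (by norm_num) + D' 1 one_ne_zero)
  subst h22 h11
  have d1 := D 1 one_ne_zero
  have d1' := D (-1) (by norm_num)
  have d2 := D 2 (by norm_num)
  have d2' := D (-2) (by norm_num)
  have hr : (q13 - q01 * q12) ^ 2 = 0 := by
    linear_combination (-(4 : K) / 6) * (d1 + d1') + (1 / 6 : K) * (d2 + d2')
  have hr0 : q13 = q01 * q12 := sub_eq_zero.mp (pow_eq_zero_iff (n := 2) (by norm_num) |>.mp hr)
  subst hr0
  have h23 : q23 = q02 * q12 := by
    linear_combination (-(1 : K) / 12) * ((d2 - d2') - 2 * (d1 - d1'))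
  subst h23
  have h33 : q33 = q03 * q12 - q12 ^ 2 := by
    linear_combination (-(1 : K) / 2) * (d1 + d1')
  subst h33
  let bb := basisOfLinearIndependentOfCardEqFinrank hli (by simp)
  have hbb : ∀ i, bb i = ![e0, e1, e2, z] i := fun i => by
    simp [bb, coe_basisOfLinearIndependentOfCardEqFinrank]
  obtain ⟨x, hx, hx3⟩ := h.no_plane (L := bb.coord 0 + q12 • bb.coord 3) fun e => by
    have := LinearMap.congr_fun e (bb 0)
    simp [Module.Basis.coord_apply] at this
  have hdec : x = bb.coord 0 x • e0 + bb.coord 1 x • e1 + bb.coord 2 x • e2 + bb.coord 3 x • z := by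
    conv_lhs => rw [← bb.sum_repr x]
    simp only [Fin.sum_univ_four, hbb, Matrix.cons_val_zero, Matrix.cons_val_one, Matrix.cons_val,
      Module.Basis.coord_apply]
  simp only [LinearMap.add_apply, LinearMap.smul_apply, smul_eq_mul] at hx
  apply hx3
  rw [hdec, hΦ]
  linear_combination (bb.coord 1 x * bb.coord 2 x + bb.coord 3 x * (bb.coord 0 x + q01 * bb.coord 1 x +
    q02 * bb.coord 2 x + (q03 - q12) * bb.coord 3 x)) * hx

end Groth.L14.Cubic
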